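import Mathlib
import Cfsg.Prelude.Def_Characters
import Cfsg.Agent.Lead.CharCore5
import Cfsg.Agent.Lead.CharCore3

namespace Cfsg.Agent.Helper3

open scoped ComplexConjugate

section lin
variable {G : Type*} [Group G] [Fintype G]

theorem classInner_sub_left (φ₁ φ₂ ψ : G → ℂ) :
    Cfsg.classInner (φ₁ - φ₂) ψ = Cfsg.classInner φ₁ ψ - Cfsg.classInner φ₂ ψ := by
  have h : φ₁ - φ₂ = φ₁ + (-1 : ℂ) • φ₂ := by ext; simp [sub_eq_add_neg]
  rw [h, Lead.classInner_add_left, Lead.classInner_smul_left]; ring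

theorem classInner_sub_right (φ ψ₁ ψ₂ : G → ℂ) :
    Cfsg.classInner φ (ψ₁ - ψ₂) = Cfsg.classInner φ ψ₁ - Cfsg.classInner φ ψ₂ := by
  have h : ψ₁ - ψ₂ = ψ₁ + (-1 : ℂ) • ψ₂ := by ext; simp [sub_eq_add_neg]
  rw [h, Lead.classInner_add_right, Lead.classInner_smul_right]; simp; ring

theorem classInner_neg_left (φ ψ : G → ℂ) :
    Cfsg.classInner (-φ) ψ = - Cfsg.classInner φ ψ := by
  have h : -φ = (-1 : ℂ) • φ := by ext; simp
  rw [h, Lead.classInner_smul_left]; ring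

theorem classInner_neg_right (φ ψ : G → ℂ) :
    Cfsg.classInner φ (-ψ) = - Cfsg.classInner φ ψ := by
  have h : -ψ = (-1 : ℂ) • ψ := by ext; simp
  rw [h, Lead.classInner_smul_right]; simp

end lin

section gen
variable {G : Type*} [Group G]

theorem isGenChar_of_isCharacter {χ : G → ℂ} (h : Cfsg.IsCharacter G χ) :
    Cfsg.IsGeneralizedCharacter G χ :=
  ⟨χ, 0, h, Lead.isCharacter_zero, by simp⟩

theorem isGenChar_neg {θ : G → ℂ} (h : Cfsg.IsGeneralizedCharacter G θ) :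
    Cfsg.IsGeneralizedCharacter G (-θ) := by
  obtain ⟨χ, ψ, hχ, hψ, rfl⟩ := h
  exact ⟨ψ, χ, hψ, hχ, by simp⟩

theorem isGenChar_add {θ₁ θ₂ : G → ℂ} (h₁ : Cfsg.IsGeneralizedCharacter G θ₁)
    (h₂ : Cfsg.IsGeneralizedCharacter G θ₂) : Cfsg.IsGeneralizedCharacter G (θ₁ + θ₂) := by
  obtain ⟨χ₁, ψ₁, hχ₁, hψ₁, rfl⟩ := h₁
  obtain ⟨χ₂, ψ₂, hχ₂, hψ₂, rfl⟩ := h₂
  exact ⟨χ₁ + χ₂, ψ₁ + ψ₂, Lead.isCharacter_add hχ₁ hχ₂, Lead.isCharacter_add hψ₁ hψ₂, by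
    ext g; simp; ring⟩

theorem isGenChar_sub {θ₁ θ₂ : G → ℂ} (h₁ : Cfsg.IsGeneralizedCharacter G θ₁)
    (h₂ : Cfsg.IsGeneralizedCharacter G θ₂) : Cfsg.IsGeneralizedCharacter G (θ₁ - θ₂) := by
  rw [sub_eq_add_neg]
  exact isGenChar_add h₁ (isGenChar_neg h₂)

theorem isClassFunction_of_isGenChar {θ : G → ℂ} (h : Cfsg.IsGeneralizedCharacter G θ) :
    Cfsg.IsClassFunction G θ := by
  obtain ⟨χ, ψ, hχ, hψ, rfl⟩ := h
  exact Lead.isClassFunction_sub (Lead.isCharacter_isClassFunction hχ)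
    (Lead.isCharacter_isClassFunction hψ)

end gen

section inner
variable {G : Type*} [Group G] [Fintype G]

/-- the inner product of two generalized characters is an integer -/
theorem genChar_inner_int {θ φ : G → ℂ} (hθ : Cfsg.IsGeneralizedCharacter G θ)
    (hφ : Cfsg.IsGeneralizedCharacter G φ) : ∃ n : ℤ, Cfsg.classInner θ φ = (n : ℂ) := by
  obtain ⟨χ₁, ψ₁, hχ₁, hψ₁, rfl⟩ := hθ
  obtain ⟨χ₂, ψ₂, hχ₂, hψ₂, rfl⟩ := hφ
  obtain ⟨a, ha⟩ := Lead.classInner_isCharacter_nat hχ₁ hχ₂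
  obtain ⟨b, hb⟩ := Lead.classInner_isCharacter_nat hχ₁ hψ₂
  obtain ⟨c, hc⟩ := Lead.classInner_isCharacter_nat hψ₁ hχ₂
  obtain ⟨d, hd⟩ := Lead.classInner_isCharacter_nat hψ₁ hψ₂
  refine ⟨(a : ℤ) - b - c + d, ?_⟩
  rw [classInner_sub_left, classInner_sub_right, classInner_sub_right, ha, hb, hc, hd]
  push_cast; ring

/-- expansion of a generalized character with integer coefficients and its norm -/
theorem genChar_coeff [Fintype (Cfsg.IrrCharacter G)] {θ : G → ℂ}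
    (hθ : Cfsg.IsGeneralizedCharacter G θ) :
    ∃ m : Cfsg.IrrCharacter G → ℤ,
      (∀ χ : Cfsg.IrrCharacter G, Cfsg.classInner θ (χ : G → ℂ) = (m χ : ℂ)) ∧
      θ = ∑ χ : Cfsg.IrrCharacter G, (m χ : ℂ) • (χ : G → ℂ) ∧
      Cfsg.classInner θ θ = ((∑ χ : Cfsg.IrrCharacter G, m χ ^ 2 : ℤ) : ℂ) := by
  choose m hm using fun χ : Cfsg.IrrCharacter G =>
    genChar_inner_int hθ (isGenChar_of_isCharacter (Lead.isCharacter_of_isIrrCharacter χ.2))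
  have hexp : θ = ∑ χ : Cfsg.IrrCharacter G, (m χ : ℂ) • (χ : G → ℂ) := by
    have h1 := Lead.classFunction_eq_finsum θ (isClassFunction_of_isGenChar hθ)
    rw [finsum_eq_sum_of_fintype] at h1
    exact h1.trans (Finset.sum_congr rfl (fun χ _ => by rw [hm χ]))
  refine ⟨m, hm, hexp, ?_⟩
  have h2 : Cfsg.classInner θ θ
      = Cfsg.classInner (∑ χ : Cfsg.IrrCharacter G, (m χ : ℂ) • (χ : G → ℂ)) θ := by
    rw [← hexp]
  rw [h2, Lead.classInner_sum_left]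
  push_cast
  refine Finset.sum_congr rfl (fun χ _ => ?_)
  rw [Lead.classInner_smul_left, ← Lead.classInner_conj_symm, hm χ]
  simp [sq]

end inner

section comb

theorem int_sq_sum_one {ι : Type*} [DecidableEq ι] (s : Finset ι) (m : ι → ℤ)
    (h : ∑ i ∈ s, m i ^ 2 = 1) :
    ∃ i₀ ∈ s, (m i₀ = 1 ∨ m i₀ = -1) ∧ ∀ i ∈ s, i ≠ i₀ → m i = 0 := by
  have hex : ∃ i₀ ∈ s, m i₀ ≠ 0 := by
    by_contra hcon
    push Not at hcon
    rw [Finset.sum_eq_zero (fun i hi => by rw [hcon i hi]; rfl)] at h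
    exact absurd h (by norm_num)
  obtain ⟨i₀, hi₀, hne⟩ := hex
  rw [← Finset.add_sum_erase s _ hi₀] at h
  have hnn : 0 ≤ ∑ i ∈ s.erase i₀, m i ^ 2 := Finset.sum_nonneg (fun i _ => sq_nonneg _)
  have h1 : 1 ≤ m i₀ ^ 2 := by
    have : 0 < m i₀ ^ 2 := by positivity
    omega
  have h2 : ∑ i ∈ s.erase i₀, m i ^ 2 = 0 := by omega
  have h3 : m i₀ ^ 2 = 1 := by omega
  refine ⟨i₀, hi₀, ?_, ?_⟩
  · have h4 : (m i₀ - 1) * (m i₀ + 1) = 0 := by ring_nf; omega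
    rcases mul_eq_zero.mp h4 with h5 | h5
    · left; omega
    · right; omega
  · intro i hi hne'
    have h4 := (Finset.sum_eq_zero_iff_of_nonneg (fun i _ => sq_nonneg (m i))).mp h2 i
      (Finset.mem_erase.mpr ⟨hne', hi⟩)
    exact pow_eq_zero_iff (two_ne_zero) |>.mp h4

theorem int_sq_sum_two {ι : Type*} [DecidableEq ι] (s : Finset ι) (m : ι → ℤ)
    (h : ∑ i ∈ s, m i ^ 2 = 2) :
    ∃ i₁ ∈ s, ∃ i₂ ∈ s, i₁ ≠ i₂ ∧ (m i₁ = 1 ∨ m i₁ = -1) ∧ (m i₂ = 1 ∨ m i₂ = -1) ∧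
      ∀ i ∈ s, i ≠ i₁ → i ≠ i₂ → m i = 0 := by
  have hex : ∃ i₀ ∈ s, m i₀ ≠ 0 := by
    by_contra hcon
    push Not at hcon
    rw [Finset.sum_eq_zero (fun i hi => by rw [hcon i hi]; rfl)] at h
    exact absurd h (by norm_num)
  obtain ⟨i₁, hi₁, hne⟩ := hex
  rw [← Finset.add_sum_erase s _ hi₁] at h
  have hnn : 0 ≤ ∑ i ∈ s.erase i₁, m i ^ 2 := Finset.sum_nonneg (fun i _ => sq_nonneg _)
  have h1 : 1 ≤ m i₁ ^ 2 := by
    have : 0 < m i₁ ^ 2 := by positivity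
    omega
  have h3 : m i₁ ^ 2 = 1 := by
    have h4 : m i₁ ^ 2 ≤ 2 := by omega
    have h5 : -1 ≤ m i₁ := by nlinarith
    have h6 : m i₁ ≤ 1 := by nlinarith
    have h7 : m i₁ = -1 ∨ m i₁ = 0 ∨ m i₁ = 1 := by omega
    rcases h7 with h7 | h7 | h7 <;> rw [h7] <;> norm_num
    exact hne h7
  have h2 : ∑ i ∈ s.erase i₁, m i ^ 2 = 1 := by omega
  obtain ⟨i₂, hi₂, hm₂, hrest⟩ := int_sq_sum_one (s.erase i₁) m h2
  have hi₂' := Finset.mem_erase.mp hi₂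
  refine ⟨i₁, hi₁, i₂, hi₂'.2, hi₂'.1.symm, ?_, hm₂, ?_⟩
  · have h4 : (m i₁ - 1) * (m i₁ + 1) = 0 := by ring_nf; omega
    rcases mul_eq_zero.mp h4 with h5 | h5
    · left; omega
    · right; omega
  · intro i hi hne1 hne2
    exact hrest i (Finset.mem_erase.mpr ⟨hne1, hi⟩) hne2

end comb

section norm
variable {G : Type*} [Group G] [Fintype G]

/-- a generalized character of norm one is an irreducible character up to sign -/
theorem genChar_norm_one {θ : G → ℂ} (hθ : Cfsg.IsGeneralizedCharacter G θ)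
    (h1 : Cfsg.classInner θ θ = 1) :
    ∃ (χ : Cfsg.IrrCharacter G) (s : ℂ), (s = 1 ∨ s = -1) ∧ θ = s • (χ : G → ℂ) := by
  classical
  haveI : Finite (Cfsg.IrrCharacter G) := Lead.finite_irrCharacter G
  haveI : Fintype (Cfsg.IrrCharacter G) := Fintype.ofFinite _
  obtain ⟨m, hm, hexp, hnorm⟩ := genChar_coeff hθ
  rw [h1] at hnorm
  have hsum : ∑ χ : Cfsg.IrrCharacter G, m χ ^ 2 = 1 := by exact_mod_cast hnorm.symm
  obtain ⟨χ₀, -, hm₀, hrest⟩ := int_sq_sum_one Finset.univ m hsum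
  refine ⟨χ₀, (m χ₀ : ℂ), ?_, ?_⟩
  · rcases hm₀ with h | h <;> rw [h] <;> simp
  · rw [hexp]
    apply Finset.sum_eq_single χ₀
    · intro χ _ hne
      rw [hrest χ (Finset.mem_univ _) hne]; simp
    · intro h; exact absurd (Finset.mem_univ _) h

/-- a generalized character of norm two is a signed sum of two distinct irreducible characters -/
theorem genChar_norm_two {θ : G → ℂ} (hθ : Cfsg.IsGeneralizedCharacter G θ)
    (h2 : Cfsg.classInner θ θ = 2) :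
    ∃ (χ₁ χ₂ : Cfsg.IrrCharacter G) (s₁ s₂ : ℂ), χ₁ ≠ χ₂ ∧ (s₁ = 1 ∨ s₁ = -1) ∧
      (s₂ = 1 ∨ s₂ = -1) ∧ θ = s₁ • (χ₁ : G → ℂ) + s₂ • (χ₂ : G → ℂ) := by
  classical
  haveI : Finite (Cfsg.IrrCharacter G) := Lead.finite_irrCharacter G
  haveI : Fintype (Cfsg.IrrCharacter G) := Fintype.ofFinite _
  obtain ⟨m, hm, hexp, hnorm⟩ := genChar_coeff hθ
  rw [h2] at hnorm
  have hsum : ∑ χ : Cfsg.IrrCharacter G, m χ ^ 2 = 2 := by exact_mod_cast hnorm.symm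
  obtain ⟨χ₁, -, χ₂, -, hne, hm₁, hm₂, hrest⟩ := int_sq_sum_two Finset.univ m hsum
  refine ⟨χ₁, χ₂, (m χ₁ : ℂ), (m χ₂ : ℂ), hne, ?_, ?_, ?_⟩
  · rcases hm₁ with h | h <;> rw [h] <;> simp
  · rcases hm₂ with h | h <;> rw [h] <;> simp
  · rw [hexp]
    rw [← Finset.add_sum_erase _ _ (Finset.mem_univ χ₁)]
    congr 1
    apply Finset.sum_eq_single χ₂
    · intro χ hχ hne'
      rw [hrest χ (Finset.mem_univ _) (Finset.mem_erase.mp hχ).1 hne']; simp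
    · intro h; exact absurd (Finset.mem_erase.mpr ⟨hne.symm, Finset.mem_univ _⟩) h

end norm

end Cfsg.Agent.Helper3
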