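import Mathlib
import Cfsg.Prelude
import Cfsg.Agent.Helper3.FC11
import Cfsg.Agent.Helper6.FrobNPC

set_option autoImplicit false

/-!
# Automorphisms of order prime to `p` of `p`-groups: minimal invariant subgroups
-/

namespace Cfsg.Agent.Helper3.AutRank
open Cfsg.Agent

universe u

/-- a minimal subgroup invariant under, but not centralized by, an automorphism `α` of prime
order `q ≠ p` of a finite `p`-group. -/
theorem aut_min (R : Type u) [Group R] [Finite R] (p : ℕ) [Fact p.Prime] (hR : IsPGroup p R)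
    (α : MulAut R) (q : ℕ) (hq : q.Prime) (hqp : q ≠ p) (hαq : α ^ q = 1) (hα1 : α ≠ 1) :
    ∃ (X N₀ : Subgroup R), (∀ x ∈ X, α x ∈ X) ∧ (∀ y, y ∈ N₀ ↔ y ∈ X ∧ α y = y) ∧ N₀ ≠ X ∧
      (∀ x ∈ X, ∀ y ∈ X, x * y * x⁻¹ * y⁻¹ ∈ N₀) ∧ (∀ x ∈ X, x ^ p ∈ N₀) ∧
      (∀ y ∈ X, α y * y⁻¹ ∈ N₀ → y ∈ N₀) ∧ (∀ c ∈ N₀, ∀ x ∈ X, c * x = x * c) ∧
      (∀ Ω : Subgroup R, (∀ x ∈ X, α x * x⁻¹ ∈ Ω) → X ≤ Ω) := by
  have hp : p.Prime := Fact.out
  have hex : ∃ x : R, α x ≠ x := by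
    by_contra h
    push Not at h
    apply hα1
    ext x
    exact h x
  obtain ⟨x₀, hx₀⟩ := hex
  obtain ⟨X, ⟨hXα, x₁, hx₁X, hx₁⟩, hXmin⟩ := Set.exists_min_image
    {X : Subgroup R | (∀ x ∈ X, α x ∈ X) ∧ ∃ x ∈ X, α x ≠ x}
    (fun X => Nat.card X) (Set.toFinite _) ⟨⊤, fun x _ => Subgroup.mem_top _, x₀,
      Subgroup.mem_top _, hx₀⟩
  have hA : ∀ Y : Subgroup R, Y ≤ X → Y ≠ X → (∀ y ∈ Y, α y ∈ Y) → ∀ y ∈ Y, α y = y := by
    intro Y hYX hne hYα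
    by_contra hc
    push Not at hc
    obtain ⟨y, hy, hyne⟩ := hc
    have h1 : Nat.card X ≤ Nat.card Y := hXmin Y ⟨hYα, y, hy, hyne⟩
    have h2 : Nat.card Y < Nat.card X := Helper6.card_lt_of_lt' (lt_of_le_of_ne hYX hne)
    omega
  obtain ⟨N₀, hN₀mem⟩ : ∃ N₀ : Subgroup R, ∀ y, y ∈ N₀ ↔ y ∈ X ∧ α y = y :=
    ⟨{ carrier := {y | y ∈ X ∧ α y = y}
       mul_mem' := fun {a b} ha hb => ⟨mul_mem ha.1 hb.1, by rw [map_mul, ha.2, hb.2]⟩
       one_mem' := ⟨one_mem _, map_one α⟩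
       inv_mem' := fun {a} ha => ⟨inv_mem ha.1, by rw [map_inv, ha.2]⟩ }, fun y => Iff.rfl⟩
  have hXp : IsPGroup p X := hR.to_subgroup X
  have hP1 : ∀ y : R, ∀ m : ℕ, m.Coprime p → y ^ m = 1 → y = 1 := by
    intro y m hm hym
    obtain ⟨a, ha⟩ := hR y
    exact Helper6.eq_one_of_pow_of_coprime ha
      (Nat.Coprime.coprime_dvd_left (orderOf_dvd_of_pow_eq_one hym) hm)
  have hXne : X ≠ ⊥ := by
    rintro rfl
    apply hx₁
    rw [Subgroup.mem_bot.1 hx₁X, map_one]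
  haveI : Nontrivial ↥X := (Subgroup.nontrivial_iff_ne_bot X).2 hXne
  obtain ⟨M, hMn, hMi⟩ := FC.exists_normal_index_p_of_pgroup (p := p) ↥X hXp inferInstance
  haveI := hMn
  have hcardQ : Nat.card (↥X ⧸ M) = p := by rw [← Subgroup.index_eq_card]; exact hMi
  have hMpow : ∀ x : ↥X, x ^ p ∈ M := by
    intro x
    rw [← QuotientGroup.eq_one_iff, QuotientGroup.mk_pow, ← hcardQ]
    exact pow_card_eq_one'
  have hMcomm : ∀ x y : ↥X, x * y * x⁻¹ * y⁻¹ ∈ M := by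
    intro x y
    haveI : IsCyclic (↥X ⧸ M) := isCyclic_of_prime_card hcardQ
    obtain ⟨z, hz⟩ := IsCyclic.exists_generator (α := ↥X ⧸ M)
    rw [← QuotientGroup.eq_one_iff]
    obtain ⟨i, hi⟩ := Subgroup.mem_zpowers_iff.1 (hz (QuotientGroup.mk x))
    obtain ⟨j, hj⟩ := Subgroup.mem_zpowers_iff.1 (hz (QuotientGroup.mk y))
    rw [QuotientGroup.mk_mul, QuotientGroup.mk_mul, QuotientGroup.mk_mul, QuotientGroup.mk_inv,
      QuotientGroup.mk_inv, ← hi, ← hj, zpow_mul_comm z i j]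
    group
  obtain ⟨T, hT⟩ : ∃ T : Subgroup R, T = Subgroup.closure
      ({z | ∃ x ∈ X, z = x ^ p} ∪ {z | ∃ x ∈ X, ∃ y ∈ X, z = x * y * x⁻¹ * y⁻¹}) := ⟨_, rfl⟩
  have hMX' : M.map X.subtype ≤ X := by
    rintro _ ⟨y, _, rfl⟩
    exact y.2
  have hTM : T ≤ M.map X.subtype := by
    rw [hT, Subgroup.closure_le]
    rintro z (⟨x, hx, rfl⟩ | ⟨x, hx, y, hy, rfl⟩)
    · exact ⟨⟨x, hx⟩ ^ p, hMpow ⟨x, hx⟩, rfl⟩
    · exact ⟨⟨x, hx⟩ * ⟨y, hy⟩ * ⟨x, hx⟩⁻¹ * ⟨y, hy⟩⁻¹, hMcomm _ _, rfl⟩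
  have hMX : M.map X.subtype ≠ X := by
    intro h
    have hMtop : M = ⊤ := by
      rw [eq_top_iff]
      intro x _
      have hx : (x : R) ∈ M.map X.subtype := by rw [h]; exact x.2
      obtain ⟨y, hy, hyx⟩ := hx
      have hyx' : y = x := Subtype.ext hyx
      rwa [← hyx']
    rw [hMtop, Subgroup.index_top] at hMi
    exact hp.one_lt.ne hMi
  have hTX : T ≤ X := hTM.trans hMX'
  have hTne : T ≠ X := fun h => hMX (le_antisymm hMX' (h ▸ hTM))
  have hTα : ∀ t ∈ T, α t ∈ T := by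
    have h1 : T.map α.toMonoidHom ≤ T := by
      rw [hT, MonoidHom.map_closure, Subgroup.closure_le]
      rintro _ ⟨z, (⟨x, hx, rfl⟩ | ⟨x, hx, y, hy, rfl⟩), rfl⟩
      · apply Subgroup.subset_closure
        left
        refine ⟨α x, hXα x hx, ?_⟩
        show α (x ^ p) = (α x) ^ p
        rw [map_pow]
      · apply Subgroup.subset_closure
        right
        refine ⟨α x, hXα x hx, α y, hXα y hy, ?_⟩
        show α (x * y * x⁻¹ * y⁻¹) = _
        rw [map_mul, map_mul, map_mul, map_inv, map_inv]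
    intro t ht
    exact h1 ⟨t, ht, rfl⟩
  have hTfix := hA T hTX hTne hTα
  have hF2 : ∀ x ∈ X, x ^ p ∈ N₀ := by
    intro x hx
    rw [hN₀mem]
    refine ⟨pow_mem hx p, ?_⟩
    apply hTfix
    rw [hT]; exact Subgroup.subset_closure (Or.inl ⟨x, hx, rfl⟩)
  have hF1 : ∀ x ∈ X, ∀ y ∈ X, x * y * x⁻¹ * y⁻¹ ∈ N₀ := by
    intro x hx y hy
    rw [hN₀mem]
    refine ⟨mul_mem (mul_mem (mul_mem hx hy) (inv_mem hx)) (inv_mem hy), ?_⟩
    apply hTfix
    rw [hT]; exact Subgroup.subset_closure (Or.inr ⟨x, hx, y, hy, rfl⟩)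
  have hN₀X : N₀ ≤ X := fun y hy => ((hN₀mem y).1 hy).1
  have hN₀norm : ∀ x ∈ X, ∀ c ∈ N₀, x * c * x⁻¹ ∈ N₀ := by
    intro x hx c hc
    have h1 := hF1 x hx c (hN₀X hc)
    have e : x * c * x⁻¹ = (x * c * x⁻¹ * c⁻¹) * c := by group
    rw [e]
    exact mul_mem h1 hc
  have hN₀ne : N₀ ≠ X := by
    intro h
    apply hx₁
    have hx' : x₁ ∈ N₀ := by rw [h]; exact hx₁X
    exact ((hN₀mem x₁).1 hx').2
  have hD : ∀ y ∈ X, α y * y⁻¹ ∈ N₀ → y ∈ N₀ := by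
    intro y hy hc
    obtain ⟨c, hcdef⟩ : ∃ c, c = α y * y⁻¹ := ⟨_, rfl⟩
    rw [← hcdef] at hc
    have hαc : α c = c := ((hN₀mem c).1 hc).2
    have hαy : α y = c * y := by rw [hcdef]; group
    have hpow : ∀ m : ℕ, (α ^ m) y = c ^ m * y := by
      intro m
      induction m with
      | zero => simp
      | succ m ihm =>
        rw [pow_succ', MulAut.mul_apply, ihm, map_mul, map_pow, hαc, hαy, pow_succ, mul_assoc]
    have h2 : c ^ q = 1 := by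
      have h3 := hpow q
      rw [hαq, MulAut.one_apply] at h3
      calc c ^ q = (c ^ q * y) * y⁻¹ := by group
        _ = y * y⁻¹ := by rw [← h3]
        _ = 1 := mul_inv_cancel y
    have hc1 : c = 1 := hP1 c q ((Nat.coprime_primes hq hp).2 hqp) h2
    rw [hc1, one_mul] at hαy
    exact (hN₀mem y).2 ⟨hy, hαy⟩
  obtain ⟨W, hW⟩ : ∃ W : Subgroup R, W = Subgroup.closure {z | ∃ x ∈ X, z = α x * x⁻¹} :=
    ⟨_, rfl⟩
  have hWX : W ≤ X := by
    rw [hW, Subgroup.closure_le]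
    rintro z ⟨x, hx, rfl⟩
    exact mul_mem (hXα x hx) (inv_mem hx)
  have hWα : ∀ t ∈ W, α t ∈ W := by
    have h1 : W.map α.toMonoidHom ≤ W := by
      rw [hW, MonoidHom.map_closure, Subgroup.closure_le]
      rintro _ ⟨z, ⟨x, hx, rfl⟩, rfl⟩
      apply Subgroup.subset_closure
      refine ⟨α x, hXα x hx, ?_⟩
      show α (α x * x⁻¹) = _
      rw [map_mul, map_inv]
    intro t ht
    exact h1 ⟨t, ht, rfl⟩
  have hWeq : W = X := by
    by_contra hne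
    have hWfix := hA W hWX hne hWα
    apply hN₀ne
    apply le_antisymm hN₀X
    intro x hx
    apply hD x hx
    have h1 : α x * x⁻¹ ∈ W := by rw [hW]; exact Subgroup.subset_closure ⟨x, hx, rfl⟩
    exact (hN₀mem _).2 ⟨hWX h1, hWfix _ h1⟩
  have hgen : ∀ Ω : Subgroup R, (∀ x ∈ X, α x * x⁻¹ ∈ Ω) → X ≤ Ω := by
    intro Ω hΩ
    rw [← hWeq, hW, Subgroup.closure_le]
    rintro z ⟨x, hx, rfl⟩
    exact hΩ x hx
  have hcent : ∀ c ∈ N₀, ∀ x ∈ X, c * x = x * c := by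
    intro c hc
    have h1 : X ≤ Subgroup.centralizer ({c} : Set R) := by
      apply hgen
      intro x hx
      rw [Subgroup.mem_centralizer_iff]
      intro h hh
      rw [Set.mem_singleton_iff.1 hh]
      obtain ⟨c', hc'def⟩ : ∃ c', c' = x⁻¹ * c * x := ⟨_, rfl⟩
      have hc' : c' ∈ N₀ := by
        have := hN₀norm x⁻¹ (inv_mem hx) c hc
        rw [inv_inv] at this
        rw [hc'def]; exact this
      have hαc' : α c' = c' := ((hN₀mem c').1 hc').2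
      have hαc : α c = c := ((hN₀mem c).1 hc).2
      have e1 : x⁻¹ * c = c' * x⁻¹ := by rw [hc'def]; group
      have e2 : α x * c' = c * α x := by
        have e3 : x * c' = c * x := by rw [hc'def]; group
        have := congrArg α e3
        rw [map_mul, map_mul, hαc', hαc] at this
        exact this
      calc c * (α x * x⁻¹) = (c * α x) * x⁻¹ := by group
        _ = (α x * c') * x⁻¹ := by rw [e2]
        _ = α x * (c' * x⁻¹) := by group
        _ = α x * (x⁻¹ * c) := by rw [e1]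
        _ = α x * x⁻¹ * c := by group
    intro x hx
    exact (Subgroup.mem_centralizer_iff.1 (h1 hx) c rfl)
  exact ⟨X, N₀, hXα, hN₀mem, hN₀ne, hF1, hF2, hD, hcent, hgen⟩

end Cfsg.Agent.Helper3.AutRank
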