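import Mathlib
import Cfsg.Prelude
import Cfsg.Agent.Helper3.AutRank1

set_option autoImplicit false

/-!
# Automorphisms of order prime to `p` of `p`-groups of rank at most two
-/

namespace Cfsg.Agent.Helper3.AutRank
open Cfsg.Agent

universe u

theorem pow_comm_left {R : Type*} [Group R] (x y c : R) (hc : y * x = c * x * y)
    (hcx : Commute c x) (hcy : Commute c y) : ∀ n : ℕ, y ^ n * x = c ^ n * x * y ^ n := by
  intro n
  induction n with
  | zero => simp
  | succ n ih =>
    have h := (hcy.pow_left n).eq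
    calc y ^ (n + 1) * x = y * (y ^ n * x) := by rw [pow_succ']; group
      _ = y * (c ^ n * x * y ^ n) := by rw [ih]
      _ = (y * c ^ n) * x * y ^ n := by group
      _ = (c ^ n * y) * x * y ^ n := by rw [h]
      _ = c ^ n * (y * x) * y ^ n := by group
      _ = c ^ n * (c * x * y) * y ^ n := by rw [hc]
      _ = c ^ (n + 1) * x * y ^ (n + 1) := by rw [pow_succ c n, pow_succ' y n]; group

theorem mul_pow_class2 {R : Type*} [Group R] (x y c : R) (hc : y * x = c * x * y)
    (hcx : Commute c x) (hcy : Commute c y) :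
    ∀ n : ℕ, ∃ k : ℕ, 2 * k = n * (n - 1) ∧ (x * y) ^ n = x ^ n * y ^ n * c ^ k := by
  intro n
  induction n with
  | zero => exact ⟨0, by simp, by simp⟩
  | succ n ih =>
    obtain ⟨k, hk, h⟩ := ih
    refine ⟨k + n, ?_, ?_⟩
    · cases n with
      | zero =>
        have hk0 : k = 0 := by simpa using hk
        subst hk0
        rfl
      | succ m =>
        have hk' : 2 * k = (m + 1) * m := by simpa using hk
        have e : (m + 1 + 1) * (m + 1 + 1 - 1) = (m + 1 + 1) * (m + 1) := by simp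
        rw [e, mul_add, hk']
        ring
    · have h1 := pow_comm_left x y c hc hcx hcy n
      have hck : Commute (c ^ k) x := hcx.pow_left k
      have hck' : Commute (c ^ k) y := hcy.pow_left k
      have hcn : Commute (c ^ n) (x ^ n) := (hcx.pow_left n).pow_right n
      have hc2 : Commute (c ^ n) (x ^ (n + 1) * y ^ (n + 1)) :=
        ((hcx.pow_left n).pow_right (n + 1)).mul_right ((hcy.pow_left n).pow_right (n + 1))
      calc (x * y) ^ (n + 1) = (x * y) ^ n * (x * y) := pow_succ _ _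
        _ = x ^ n * y ^ n * c ^ k * (x * y) := by rw [h]
        _ = x ^ n * y ^ n * (c ^ k * x) * y := by group
        _ = x ^ n * y ^ n * (x * c ^ k) * y := by rw [hck.eq]
        _ = x ^ n * (y ^ n * x) * (c ^ k * y) := by group
        _ = x ^ n * (c ^ n * x * y ^ n) * (y * c ^ k) := by rw [h1, hck'.eq]
        _ = (x ^ n * c ^ n) * (x * (y ^ n * y)) * c ^ k := by group
        _ = (c ^ n * x ^ n) * (x * (y ^ n * y)) * c ^ k := by rw [hcn.eq]
        _ = c ^ n * (x ^ (n + 1) * y ^ (n + 1)) * c ^ k := by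
            rw [pow_succ x n, pow_succ y n]; group
        _ = x ^ (n + 1) * y ^ (n + 1) * c ^ n * c ^ k := by rw [hc2.eq]
        _ = x ^ (n + 1) * y ^ (n + 1) * c ^ (k + n) := by
            rw [mul_assoc, ← pow_add, add_comm n k]

theorem closure_comm {R : Type*} [Group R] (S : Set R) (h : ∀ a ∈ S, ∀ b ∈ S, a * b = b * a) :
    ∀ a ∈ Subgroup.closure S, ∀ b ∈ Subgroup.closure S, a * b = b * a := by
  have h1 : Subgroup.closure S ≤ Subgroup.centralizer S := by
    rw [Subgroup.closure_le]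
    intro a ha
    exact Subgroup.mem_centralizer_iff.2 (fun b hb => h b hb a ha)
  have h2 : Subgroup.closure S ≤ Subgroup.centralizer (Subgroup.closure S : Set R) := by
    rw [Subgroup.closure_le]
    intro a ha
    exact Subgroup.mem_centralizer_iff.2
      (fun b hb => (Subgroup.mem_centralizer_iff.1 (h1 hb) a ha).symm)
  intro a ha b hb
  exact (Subgroup.mem_centralizer_iff.1 (h2 hb) a ha)

theorem card_mul_le_of_lt {R : Type*} [Group R] [Finite R] {p : ℕ} [Fact p.Prime]
    (hR : IsPGroup p R) {H K : Subgroup R} (h : H < K) : p * Nat.card H ≤ Nat.card K := by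
  have hp : p.Prime := Fact.out
  obtain ⟨a, ha⟩ := (hR.to_subgroup H).exists_card_eq
  obtain ⟨b, hb⟩ := (hR.to_subgroup K).exists_card_eq
  have hlt := Helper6.card_lt_of_lt' h
  rw [ha, hb] at hlt ⊢
  have hab : a < b := (Nat.pow_lt_pow_iff_right hp.one_lt).1 hlt
  rw [← pow_succ']
  exact Nat.pow_le_pow_right hp.pos hab

theorem exponent_p (R : Type u) [Group R] [Finite R] (p : ℕ) [Fact p.Prime] (hp2 : p ≠ 2)
    (α : MulAut R) (X N₀ : Subgroup R) (hXα : ∀ x ∈ X, α x ∈ X)
    (hN₀mem : ∀ y, y ∈ N₀ ↔ y ∈ X ∧ α y = y)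
    (hF1 : ∀ x ∈ X, ∀ y ∈ X, x * y * x⁻¹ * y⁻¹ ∈ N₀) (hF2 : ∀ x ∈ X, x ^ p ∈ N₀)
    (hcent : ∀ c ∈ N₀, ∀ x ∈ X, c * x = x * c)
    (hgen : ∀ Ω : Subgroup R, (∀ x ∈ X, α x * x⁻¹ ∈ Ω) → X ≤ Ω) :
    ∀ x ∈ X, x ^ p = 1 := by
  have hp : p.Prime := Fact.out
  have hmul : ∀ x ∈ X, ∀ y ∈ X, (x * y) ^ p = x ^ p * y ^ p := by
    intro x hx y hy
    obtain ⟨c, hcdef⟩ : ∃ c, c = y * x * y⁻¹ * x⁻¹ := ⟨_, rfl⟩
    have hcN : c ∈ N₀ := by rw [hcdef]; exact hF1 y hy x hx
    have hc : y * x = c * x * y := by rw [hcdef]; group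
    have hcx : Commute c x := hcent c hcN x hx
    have hcy : Commute c y := hcent c hcN y hy
    have hcp : c ^ p = 1 := by
      have h1 := pow_comm_left x y c hc hcx hcy p
      have h2 : y ^ p * x = x * y ^ p := hcent _ (hF2 y hy) x hx
      rw [h2] at h1
      have h3 : c ^ p * (x * y ^ p) = 1 * (x * y ^ p) := by
        rw [one_mul, ← mul_assoc]; exact h1.symm
      exact mul_right_cancel h3
    obtain ⟨k, hk, h⟩ := mul_pow_class2 x y c hc hcx hcy p
    have hpk : p ∣ k := by
      have h1 : p ∣ 2 * k := by rw [hk]; exact dvd_mul_right p _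
      have hcop : Nat.Coprime p 2 := (Nat.coprime_primes hp Nat.prime_two).2 hp2
      exact hcop.dvd_of_dvd_mul_left h1
    obtain ⟨j, rfl⟩ := hpk
    rw [h, pow_mul, hcp, one_pow, mul_one]
  obtain ⟨Ω, hΩ⟩ : ∃ Ω : Subgroup R, ∀ y, y ∈ Ω ↔ y ∈ X ∧ y ^ p = 1 :=
    ⟨{ carrier := {y | y ∈ X ∧ y ^ p = 1}
       mul_mem' := fun {a b} ha hb =>
         ⟨mul_mem ha.1 hb.1, by rw [hmul a ha.1 b hb.1, ha.2, hb.2, one_mul]⟩
       one_mem' := ⟨one_mem _, one_pow p⟩
       inv_mem' := fun {a} ha => ⟨inv_mem ha.1, by rw [inv_pow, ha.2, inv_one]⟩ },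
      fun y => Iff.rfl⟩
  have hle : X ≤ Ω := by
    apply hgen
    intro x hx
    rw [hΩ]
    refine ⟨mul_mem (hXα x hx) (inv_mem hx), ?_⟩
    rw [hmul _ (hXα x hx) _ (inv_mem hx), ← map_pow, inv_pow, ((hN₀mem _).1 (hF2 x hx)).2,
      mul_inv_cancel]
  intro x hx
  exact ((hΩ x).1 (hle hx)).2

/-- a prime `q ≠ p` dividing `|Aut R|`, `R` a `p`-group of rank at most `2`, `p` odd. -/
theorem aut_rank_two (R : Type u) [Group R] [Finite R] (p : ℕ) [Fact p.Prime] (hp2 : p ≠ 2)
    (hR : IsPGroup p R) (hrk : Cfsg.PRankLE p 2 R) (q : ℕ) (hq : q.Prime) (hqp : q ≠ p)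
    (hdvd : q ∣ Nat.card (MulAut R)) : q ∣ p ^ 2 - 1 ∧ q < p := by
  have hp : p.Prime := Fact.out
  haveI : Fact q.Prime := ⟨hq⟩
  obtain ⟨α, hαo⟩ := exists_prime_orderOf_dvd_card' q hdvd
  have hαq : α ^ q = 1 := by rw [← hαo]; exact pow_orderOf_eq_one α
  have hα1 : α ≠ 1 := by
    rintro rfl
    rw [orderOf_one] at hαo
    exact hq.one_lt.ne hαo
  obtain ⟨X, N₀, hXα, hN₀mem, hN₀ne, hF1, hF2, hD, hcent, hgen⟩ :=
    aut_min R p hR α q hq hqp hαq hα1
  have hexp := exponent_p R p hp2 α X N₀ hXα hN₀mem hF1 hF2 hcent hgen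
  have hXp : IsPGroup p X := hR.to_subgroup X
  have hN₀X : N₀ ≤ X := fun y hy => ((hN₀mem y).1 hy).1
  have hN₀norm : ∀ x ∈ X, ∀ c ∈ N₀, x * c * x⁻¹ ∈ N₀ := by
    intro x hx c hc
    have h1 := hF1 x hx c (hN₀X hc)
    have e : x * c * x⁻¹ = (x * c * x⁻¹ * c⁻¹) * c := by group
    rw [e]
    exact mul_mem h1 hc
  haveI hMn : (N₀.subgroupOf X).Normal := by
    refine ⟨fun n hn x => ?_⟩
    rw [Subgroup.mem_subgroupOf] at hn ⊢
    exact hN₀norm x x.2 n hn
  have hmemM : ∀ x : ↥X, (QuotientGroup.mk x : ↥X ⧸ N₀.subgroupOf X) = 1 ↔ (x : R) ∈ N₀ :=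
    fun x => by rw [QuotientGroup.eq_one_iff, Subgroup.mem_subgroupOf]
  obtain ⟨cg, hcg⟩ : ∃ cg : ↥X →* ↥X, ∀ x : ↥X, (cg x : R) = α x :=
    ⟨{ toFun := fun x => ⟨α (x : R), hXα x x.2⟩
       map_one' := Subtype.ext (map_one α)
       map_mul' := fun a b => Subtype.ext (map_mul α (a : R) (b : R)) }, fun x => rfl⟩
  have hcgM : N₀.subgroupOf X ≤ (N₀.subgroupOf X).comap cg := by
    intro y hy
    rw [Subgroup.mem_comap, Subgroup.mem_subgroupOf, hcg]
    rw [Subgroup.mem_subgroupOf] at hy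
    rw [((hN₀mem _).1 hy).2]; exact hy
  obtain ⟨f, hf⟩ : ∃ f : Function.End (↥X ⧸ N₀.subgroupOf X), ∀ x : ↥X,
      f (QuotientGroup.mk x) = QuotientGroup.mk (cg x) :=
    ⟨fun v => QuotientGroup.map _ _ cg hcgM v, fun x => rfl⟩
  have hiter : ∀ m : ℕ, ∀ x : ↥X, ∃ y : ↥X, (y : R) = (α ^ m) (x : R) ∧
      (f ^ m) (QuotientGroup.mk x) = QuotientGroup.mk y := by
    intro m
    induction m with
    | zero => intro x; exact ⟨x, by simp, rfl⟩
    | succ m ih =>
      intro x
      obtain ⟨y, hy, hfy⟩ := ih x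
      refine ⟨cg y, ?_, ?_⟩
      · rw [hcg, hy, pow_succ', MulAut.mul_apply]
      · rw [pow_succ']
        show f ((f ^ m) (QuotientGroup.mk x)) = _
        rw [hfy, hf]
  have hfq : f ^ q ^ 1 = 1 := by
    rw [pow_one]
    funext v
    obtain ⟨x, rfl⟩ := QuotientGroup.mk_surjective v
    obtain ⟨y, hy, hfy⟩ := hiter q x
    rw [hfy]
    show QuotientGroup.mk y = QuotientGroup.mk x
    congr 1
    apply Subtype.ext
    rw [hy, hαq, MulAut.one_apply]
  have hfix : Function.fixedPoints f = {1} := by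
    ext v
    rw [Set.mem_singleton_iff]
    constructor
    · intro hv
      obtain ⟨x, rfl⟩ := QuotientGroup.mk_surjective v
      have hv' : f (QuotientGroup.mk x) = QuotientGroup.mk x := hv
      rw [hf] at hv'
      have h1 : (QuotientGroup.mk (cg x * x⁻¹) : ↥X ⧸ N₀.subgroupOf X) = 1 := by
        rw [QuotientGroup.mk_mul, QuotientGroup.mk_inv, hv', mul_inv_cancel]
      rw [hmemM] at h1
      rw [hmemM]
      apply hD x x.2
      have e : ((cg x * x⁻¹ : ↥X) : R) = α x * (x : R)⁻¹ := by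
        rw [Subgroup.coe_mul, hcg, Subgroup.coe_inv]
      rw [← e]; exact h1
    · rintro rfl
      have h := hf 1
      rw [map_one, QuotientGroup.mk_one] at h
      exact h
  have hcard1 : Nat.card (↥X ⧸ N₀.subgroupOf X) ≡ 1 [MOD q] := by
    classical
    haveI : Fintype (↥X ⧸ N₀.subgroupOf X) := Fintype.ofFinite _
    have hmod := Equiv.Perm.card_fixedPoints_modEq (p := q) (n := 1) (f := f) hfq
    rw [Fintype.card_eq_nat_card, Fintype.card_eq_nat_card] at hmod
    have e2 : Nat.card (Function.fixedPoints f) = 1 := by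
      rw [hfix]
      simp
    have hmod' : Nat.card (↥X ⧸ N₀.subgroupOf X) ≡ Nat.card (Function.fixedPoints f) [MOD q] :=
      hmod
    rw [e2] at hmod'
    exact hmod'
  have hQp : IsPGroup p (↥X ⧸ N₀.subgroupOf X) := hXp.to_quotient _
  obtain ⟨n, hn⟩ := hQp.exists_card_eq
  have hne1 : Nat.card (↥X ⧸ N₀.subgroupOf X) ≠ 1 := by
    intro h1
    apply hN₀ne
    apply le_antisymm hN₀X
    intro x hx
    haveI : Subsingleton (↥X ⧸ N₀.subgroupOf X) := (Nat.card_eq_one_iff_unique.1 h1).1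
    exact (hmemM ⟨x, hx⟩).1 (Subsingleton.elim _ _)
  have hn0 : n ≠ 0 := by
    rintro rfl
    exact hne1 (by rw [hn, pow_zero])
  -- the rank bound
  have hn2 : n ≤ 2 := by
    by_contra hn3
    have hn3' : 3 ≤ n := by omega
    have hcardX : Nat.card X = p ^ n * Nat.card N₀ := by
      rw [← hn, Subgroup.card_eq_card_quotient_mul_card_subgroup (N₀.subgroupOf X)]
      congr 1
      exact Nat.card_congr (Subgroup.subgroupOfEquivOfLe hN₀X).toEquiv
    have hrkX : ∀ A : Subgroup R, A ≤ X → (∀ a ∈ A, ∀ b ∈ A, a * b = b * a) →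
        Nat.card A ≤ p ^ 2 := by
      intro A hAX hcomm
      apply hrk A ⟨⟨fun a b => Subtype.ext (hcomm a a.2 b b.2)⟩⟩
      intro a ha
      exact hexp a (hAX ha)
    have hp3 : p ^ 3 ≤ p ^ n := Nat.pow_le_pow_right hp.pos hn3'
    have hp23 : p ^ 2 < p ^ 3 := Nat.pow_lt_pow_right hp.one_lt (by norm_num)
    by_cases hbot : N₀ = ⊥
    · have h1 := hrkX X le_rfl (fun a ha b hb => by
        have h := hF1 a ha b hb
        rw [hbot, Subgroup.mem_bot] at h
        calc a * b = (a * b * a⁻¹ * b⁻¹) * (b * a) := by group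
          _ = b * a := by rw [h, one_mul])
      rw [hcardX, hbot, Subgroup.card_bot, mul_one] at h1
      omega
    · obtain ⟨x, hxX, hxN⟩ : ∃ x ∈ X, x ∉ N₀ := by
        by_contra h
        push Not at h
        exact hN₀ne (le_antisymm hN₀X h)
      have hN₀p : p ≤ Nat.card N₀ := by
        have h := card_mul_le_of_lt hR (bot_lt_iff_ne_bot.2 hbot)
        rw [Subgroup.card_bot, mul_one] at h
        exact h
      -- the commutator homomorphism
      obtain ⟨ψ, hψ⟩ : ∃ ψ : ↥X →* ↥N₀, ∀ y : ↥X, (ψ y : R) = y * x * (y : R)⁻¹ * x⁻¹ :=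
        ⟨{ toFun := fun y => ⟨y * x * (y : R)⁻¹ * x⁻¹, hF1 y y.2 x hxX⟩
           map_one' := Subtype.ext (by simp)
           map_mul' := fun a b => Subtype.ext (by
             show ((a : R) * (b : R)) * x * ((a : R) * (b : R))⁻¹ * x⁻¹ =
               ((a : R) * x * (a : R)⁻¹ * x⁻¹) * ((b : R) * x * (b : R)⁻¹ * x⁻¹)
             obtain ⟨c, hcdef⟩ : ∃ c, c = (b : R) * x * (b : R)⁻¹ * x⁻¹ := ⟨_, rfl⟩
             have hcN : c ∈ N₀ := by rw [hcdef]; exact hF1 b b.2 x hxX
             have h1 : c * (a : R) = a * c := hcent c hcN a a.2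
             have h2 : c * ((a : R) * x * (a : R)⁻¹ * x⁻¹) = ((a : R) * x * (a : R)⁻¹ * x⁻¹) * c :=
               hcent c hcN _ (hN₀X (hF1 a a.2 x hxX))
             rw [← hcdef, ← h2]
             have e : (a : R) * (b : R) * x * ((a : R) * (b : R))⁻¹ * x⁻¹ =
                 (a : R) * ((b : R) * x * (b : R)⁻¹ * x⁻¹) * x * (a : R)⁻¹ * x⁻¹ := by group
             rw [e, ← hcdef, ← h1]
             group) }, fun y => rfl⟩
      have hker : ∀ y : ↥X, y ∈ ψ.ker → (y : R) * x = x * y := by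
        intro y hy
        have h1 : (ψ y : R) = 1 := by rw [MonoidHom.mem_ker.1 hy]; rfl
        rw [hψ] at h1
        calc (y : R) * x = ((y : R) * x * (y : R)⁻¹ * x⁻¹) * (x * y) := by group
          _ = x * y := by rw [h1, one_mul]
      have hkermem : ∀ y : ↥X, (y : R) * x = x * y → y ∈ ψ.ker := by
        intro y hy
        rw [MonoidHom.mem_ker]
        apply Subtype.ext
        rw [hψ, hy]
        show x * (y : R) * (y : R)⁻¹ * x⁻¹ = 1
        group
      have hkercard : p ^ n ≤ Nat.card ψ.ker := by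
        have h1 : Nat.card ψ.ker * ψ.ker.index = Nat.card ↥X := Subgroup.card_mul_index _
        have h2 : ψ.ker.index ≤ Nat.card N₀ := by
          rw [Subgroup.index_ker]
          exact Subgroup.card_le_card_group _
        have h3 : p ^ n * Nat.card N₀ ≤ Nat.card ψ.ker * Nat.card N₀ := by
          rw [← hcardX, ← h1]
          exact Nat.mul_le_mul_left _ h2
        exact Nat.le_of_mul_le_mul_right h3 Nat.card_pos
      obtain ⟨K, hK⟩ : ∃ K : Subgroup R, K = ψ.ker.map X.subtype := ⟨_, rfl⟩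
      have hKcard : Nat.card K = Nat.card ψ.ker := by
        rw [hK, Subgroup.card_map_of_injective X.subtype_injective]
      obtain ⟨A₁, hA₁⟩ : ∃ A₁ : Subgroup R, A₁ = Subgroup.closure ((N₀ : Set R) ∪ {x}) :=
        ⟨_, rfl⟩
      have hA₁X : A₁ ≤ X := by
        rw [hA₁, Subgroup.closure_le]
        rintro a (ha | ha)
        · exact hN₀X ha
        · rw [Set.mem_singleton_iff.1 ha]; exact hxX
      have hA₁comm : ∀ a ∈ A₁, ∀ b ∈ A₁, a * b = b * a := by
        rw [hA₁]
        apply closure_comm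
        rintro a (ha | ha) b (hb | hb)
        · exact hcent a ha b (hN₀X hb)
        · rw [Set.mem_singleton_iff.1 hb]; exact hcent a ha x hxX
        · rw [Set.mem_singleton_iff.1 ha]; exact (hcent b hb x hxX).symm
        · rw [Set.mem_singleton_iff.1 ha, Set.mem_singleton_iff.1 hb]
      have hA₁card := hrkX A₁ hA₁X hA₁comm
      have hN₀A₁ : N₀ < A₁ := by
        refine lt_of_le_of_ne ?_ ?_
        · rw [hA₁]
          exact fun a ha => Subgroup.subset_closure (Or.inl ha)
        · intro h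
          apply hxN
          rw [h, hA₁]
          exact Subgroup.subset_closure (Or.inr rfl)
      by_cases hKA : K ≤ A₁
      · have h1 : Nat.card K ≤ Nat.card A₁ := Subgroup.card_le_of_le hKA
        rw [hKcard] at h1
        omega
      · obtain ⟨y, hyK, hyA⟩ : ∃ y ∈ K, y ∉ A₁ := by
          by_contra h
          push Not at h
          exact hKA h
        have hyX : y ∈ X := by
          rw [hK] at hyK
          obtain ⟨y', _, rfl⟩ := hyK
          exact y'.2
        have hyx : y * x = x * y := by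
          rw [hK] at hyK
          obtain ⟨y', hy', rfl⟩ := hyK
          exact hker y' hy'
        obtain ⟨A, hAdef⟩ : ∃ A : Subgroup R,
            A = Subgroup.closure ((N₀ : Set R) ∪ ({x} ∪ {y})) := ⟨_, rfl⟩
        have hAX : A ≤ X := by
          rw [hAdef, Subgroup.closure_le]
          rintro a (ha | ha | ha)
          · exact hN₀X ha
          · rw [Set.mem_singleton_iff.1 ha]; exact hxX
          · rw [Set.mem_singleton_iff.1 ha]; exact hyX
        have hAcomm : ∀ a ∈ A, ∀ b ∈ A, a * b = b * a := by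
          rw [hAdef]
          apply closure_comm
          rintro a (ha | ha | ha) b (hb | hb | hb)
          · exact hcent a ha b (hN₀X hb)
          · rw [Set.mem_singleton_iff.1 hb]; exact hcent a ha x hxX
          · rw [Set.mem_singleton_iff.1 hb]; exact hcent a ha y hyX
          · rw [Set.mem_singleton_iff.1 ha]; exact (hcent b hb x hxX).symm
          · rw [Set.mem_singleton_iff.1 ha, Set.mem_singleton_iff.1 hb]
          · rw [Set.mem_singleton_iff.1 ha, Set.mem_singleton_iff.1 hb]; exact hyx.symm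
          · rw [Set.mem_singleton_iff.1 ha]; exact (hcent b hb y hyX).symm
          · rw [Set.mem_singleton_iff.1 ha, Set.mem_singleton_iff.1 hb]; exact hyx
          · rw [Set.mem_singleton_iff.1 ha, Set.mem_singleton_iff.1 hb]
        have hAcard := hrkX A hAX hAcomm
        have hA₁A : A₁ < A := by
          refine lt_of_le_of_ne ?_ ?_
          · rw [hA₁, hAdef]
            apply Subgroup.closure_mono
            rintro a (ha | ha)
            · exact Or.inl ha
            · exact Or.inr (Or.inl ha)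
          · intro h
            apply hyA
            rw [h, hAdef]
            exact Subgroup.subset_closure (Or.inr (Or.inr rfl))
        have h1 := card_mul_le_of_lt hR hN₀A₁
        have h2 := card_mul_le_of_lt hR hA₁A
        have h3 : p * p * p ≤ Nat.card A := by
          calc p * p * p = p * (p * p) := by ring
            _ ≤ p * (p * Nat.card N₀) := Nat.mul_le_mul_left _ (Nat.mul_le_mul_left _ hN₀p)
            _ ≤ p * Nat.card A₁ := Nat.mul_le_mul_left _ h1
            _ ≤ Nat.card A := h2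
        have e3 : p ^ 3 = p * p * p := by ring
        omega
  have h1 : q ∣ p ^ n - 1 := by
    rw [← hn]
    exact (Nat.modEq_iff_dvd' Nat.card_pos).1 hcard1.symm
  have hn' : n = 1 ∨ n = 2 := by omega
  have hpm : p ^ 2 - 1 = (p + 1) * (p - 1) := by
    have h := Nat.sq_sub_sq p 1
    simpa using h
  have hp2le := hp.two_le
  rcases hn' with rfl | rfl
  · rw [pow_one] at h1
    refine ⟨by rw [hpm]; exact Dvd.dvd.mul_left h1 _, ?_⟩
    have := Nat.le_of_dvd (by omega) h1
    omega
  · refine ⟨h1, ?_⟩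
    rw [hpm] at h1
    rcases (Nat.Prime.dvd_mul hq).1 h1 with h2 | h2
    · have hle := Nat.le_of_dvd (by omega) h2
      have hne : q ≠ p + 1 := by
        intro h
        have hodd : p % 2 = 1 := (hp.eq_two_or_odd).resolve_left hp2
        have h2q : 2 ∣ q := by rw [h]; omega
        have := (Nat.prime_dvd_prime_iff_eq Nat.prime_two hq).1 h2q
        omega
      omega
    · have := Nat.le_of_dvd (by omega) h2
      omega

end Cfsg.Agent.Helper3.AutRank
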