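import Cfsg.Agent.Helper3.SchurZ
import Cfsg.Agent.Helper4.FittingQuot

/-! Nilpotent subgroups: prime-power induction, central elements of prime order. -/

set_option autoImplicit false

universe u

namespace Cfsg.Agent.Helper3

/-- Prime-power induction: if all powers of `g` of prime power order lie in `S` then `g ∈ S`. -/
theorem mem_of_prime_pow_powers {G : Type*} [Group G] [Finite G] (S : Subgroup G) (g : G)
    (hg : ∀ k : ℤ, (∃ q : ℕ, q.Prime ∧ ∃ b : ℕ, orderOf (g ^ k) = q ^ b) → g ^ k ∈ S) :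
    g ∈ S := by
  have key : ∀ n : ℕ, ∀ g : G, orderOf g = n →
      (∀ k : ℤ, (∃ q : ℕ, q.Prime ∧ ∃ b : ℕ, orderOf (g ^ k) = q ^ b) → g ^ k ∈ S) → g ∈ S := by
    intro n
    induction n using Nat.strong_induction_on with
    | _ n ih =>
    intro g h hg
    by_cases h1 : n = 1
    · rw [h1, orderOf_eq_one_iff] at h
      rw [h]
      exact S.one_mem
    · have hn0 : n ≠ 0 := by
        rw [← h]
        exact (orderOf_pos g).ne'
      have hgn : g ^ n = 1 := by
        rw [← h]
        exact pow_orderOf_eq_one g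
      obtain ⟨q, hq, hqn⟩ := Nat.exists_prime_and_dvd h1
      obtain ⟨a, m, hqm, hnm⟩ := Nat.exists_eq_pow_mul_and_not_dvd hn0 q hq.ne_one
      have ha : a ≠ 0 := by
        rintro rfl
        rw [pow_zero, one_mul] at hnm
        exact hqm (hnm ▸ hqn)
      have hcop : Nat.Coprime (q ^ a) m :=
        Nat.Coprime.pow_left a ((Nat.Prime.coprime_iff_not_dvd hq).mpr hqm)
      have hb0 := Nat.gcd_eq_gcd_ab (q ^ a) m
      rw [hcop.gcd_eq_one, Nat.cast_one] at hb0
      obtain ⟨v, hv⟩ : ∃ v : ℤ, v = Nat.gcdA (q ^ a) m := ⟨_, rfl⟩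
      obtain ⟨u, hu⟩ : ∃ u : ℤ, u = Nat.gcdB (q ^ a) m := ⟨_, rfl⟩
      rw [← hv, ← hu] at hb0
      have hmpos : 0 < m := by
        rcases Nat.eq_zero_or_pos m with h0 | h0
        · rw [h0, mul_zero] at hnm
          exact absurd hnm hn0
        · exact h0
      have hg1 : g ^ ((m : ℤ) * u) ∈ S := by
        apply hg
        refine ⟨q, hq, ?_⟩
        have hpow : (g ^ ((m : ℤ) * u)) ^ (q ^ a) = 1 := by
          rw [← zpow_natCast, ← zpow_mul]
          have e : (m : ℤ) * u * ((q ^ a : ℕ) : ℤ) = (n : ℤ) * u := by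
            rw [hnm]
            push_cast
            ring
          rw [e, zpow_mul, zpow_natCast, hgn, one_zpow]
        obtain ⟨b, -, hb⟩ := (Nat.dvd_prime_pow hq).mp (orderOf_dvd_of_pow_eq_one hpow)
        exact ⟨b, hb⟩
      have hg2 : g ^ (((q ^ a : ℕ) : ℤ) * v) ∈ S := by
        have hpow : (g ^ (((q ^ a : ℕ) : ℤ) * v)) ^ m = 1 := by
          rw [← zpow_natCast, ← zpow_mul]
          have e : ((q ^ a : ℕ) : ℤ) * v * (m : ℤ) = (n : ℤ) * v := by
            rw [hnm]
            push_cast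
            ring
          rw [e, zpow_mul, zpow_natCast, hgn, one_zpow]
        have hlt : orderOf (g ^ (((q ^ a : ℕ) : ℤ) * v)) < n := by
          have hd := orderOf_dvd_of_pow_eq_one hpow
          have hmlt : m < n := by
            rw [hnm]
            exact lt_mul_of_one_lt_left hmpos (Nat.one_lt_pow ha hq.one_lt)
          exact lt_of_le_of_lt (Nat.le_of_dvd hmpos hd) hmlt
        apply ih _ hlt _ rfl
        intro k hk
        rw [← zpow_mul] at hk ⊢
        exact hg _ hk
      have e : g = g ^ ((m : ℤ) * u) * g ^ (((q ^ a : ℕ) : ℤ) * v) := by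
        rw [← zpow_add, add_comm, ← hb0, zpow_one]
      rw [e]
      exact S.mul_mem hg1 hg2
  exact key _ g rfl hg

theorem commute_in_nilpotent {G : Type*} [Group G] [Finite G] (N : Subgroup G)
    (hN : Group.IsNilpotent N) {p q : ℕ} (hp : p.Prime) (hq : q.Prime) (hpq : p ≠ q) {a b : G}
    (ha : a ∈ N) (hb : b ∈ N) {i j : ℕ} (hao : orderOf a = p ^ i) (hbo : orderOf b = q ^ j) :
    a * b = b * a := by
  haveI : Fact p.Prime := ⟨hp⟩
  haveI : Fact q.Prime := ⟨hq⟩
  have h := Helper4.commute_of_isNilpotent_of_prime_powers hN hpq (⟨a, ha⟩ : N) ⟨b, hb⟩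
    ⟨i, by rw [Subgroup.orderOf_mk]; exact hao⟩ ⟨j, by rw [Subgroup.orderOf_mk]; exact hbo⟩
  exact congrArg Subtype.val h.eq

/-- In a finite nilpotent group, every `p`-element lies in every Sylow `p`-subgroup. -/
theorem mem_sylow_of_nilpotent {X : Type*} [Group X] [Finite X] (hX : Group.IsNilpotent X)
    (p : ℕ) [Fact p.Prime] (P : Sylow p X) (h : X) (b : ℕ) (hb : orderOf h = p ^ b) :
    h ∈ (P : Subgroup X) := by
  have hnc := Group.normalizerCondition_of_isNilpotent (G := X)
  haveI hPn : (P : Subgroup X).Normal := Sylow.normal_of_normalizerCondition hnc P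
  have hpg : IsPGroup p (Subgroup.zpowers h) :=
    IsPGroup.of_card (n := b) (by rw [Nat.card_zpowers, hb])
  obtain ⟨Q, hQ⟩ := hpg.exists_le_sylow
  obtain ⟨g, hg⟩ := MulAction.exists_smul_eq X P Q
  have hQP : Q = P := by
    rw [← hg]
    exact Sylow.smul_eq_of_normal
  rw [← hQP]
  exact hQ (Subgroup.mem_zpowers _)

/-- A finite nilpotent group of order divisible by `p` has a central element of order `p`. -/
theorem exists_center_orderOf_eq_prime (X : Type*) [Group X] [Finite X]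
    (hX : Group.IsNilpotent X) (p : ℕ) [Fact p.Prime] (hp : p ∣ Nat.card X) :
    ∃ z : X, z ∈ Subgroup.center X ∧ orderOf z = p := by
  classical
  have hpp : p.Prime := Fact.out
  obtain ⟨P⟩ : Nonempty (Sylow p X) := inferInstance
  have hPne : (P : Subgroup X) ≠ ⊥ := P.ne_bot_of_dvd_card hp
  haveI : Nontrivial (P : Subgroup X) := (Subgroup.nontrivial_iff_ne_bot _).mpr hPne
  haveI hcn : Nontrivial (Subgroup.center (P : Subgroup X)) := P.2.center_nontrivial
  have hcp : IsPGroup p (Subgroup.center (P : Subgroup X)) := P.2.to_subgroup _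
  obtain ⟨n, hn⟩ := (IsPGroup.iff_card).mp hcp
  have hn0 : n ≠ 0 := by
    rintro rfl
    rw [pow_zero] at hn
    have h1 := Finite.one_lt_card_iff_nontrivial.mpr hcn
    omega
  have hpd : p ∣ Nat.card (Subgroup.center (P : Subgroup X)) := by
    rw [hn]
    exact dvd_pow_self p hn0
  obtain ⟨z₀, hz₀⟩ := exists_prime_orderOf_dvd_card' p hpd
  have hzo : orderOf (((z₀ : (P : Subgroup X)) : X)) = p := by
    rw [Subgroup.orderOf_coe, Subgroup.orderOf_coe]
    exact hz₀
  refine ⟨((z₀ : (P : Subgroup X)) : X), ?_, hzo⟩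
  rw [Subgroup.mem_center_iff]
  intro h
  have hmem : h ∈ Subgroup.centralizer ({((z₀ : (P : Subgroup X)) : X)} : Set X) := by
    apply mem_of_prime_pow_powers
    rintro k ⟨q, hq, b, hb⟩
    rw [Helper5.mem_centralizer_singleton_iff]
    by_cases hqp : q = p
    · rw [hqp] at hb
      have hkP : h ^ k ∈ (P : Subgroup X) := mem_sylow_of_nilpotent hX p P (h ^ k) b hb
      have hcen := Subgroup.mem_center_iff.mp z₀.2 ⟨h ^ k, hkP⟩
      exact congrArg Subtype.val hcen
    · haveI : Fact q.Prime := ⟨hq⟩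
      have hc := Helper4.commute_of_isNilpotent_of_prime_powers hX hqp (h ^ k)
        ((z₀ : (P : Subgroup X)) : X) ⟨b, hb⟩ ⟨1, by rw [hzo, pow_one]⟩
      exact hc.eq
  rw [Helper5.mem_centralizer_singleton_iff] at hmem
  exact hmem

theorem exists_central_of_order {G : Type*} [Group G] [Finite G] (H : Subgroup G)
    (hH : Group.IsNilpotent H) (p : ℕ) [Fact p.Prime] (hp : p ∣ Nat.card H) :
    ∃ z ∈ H, orderOf z = p ∧ ∀ h ∈ H, h * z = z * h := by
  obtain ⟨z, hz, hzo⟩ := exists_center_orderOf_eq_prime ↥H hH p hp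
  refine ⟨(z : G), z.2, by rw [Subgroup.orderOf_coe]; exact hzo, ?_⟩
  intro h hh
  exact congrArg Subtype.val (Subgroup.mem_center_iff.mp hz ⟨h, hh⟩)

/-- A `p`-subgroup of a nilpotent subgroup `H` containing all its `p`-elements. -/
theorem exists_sylow_of_nilpotent {G : Type*} [Group G] [Finite G] (H : Subgroup G)
    (hH : Group.IsNilpotent H) (p : ℕ) [Fact p.Prime] :
    ∃ P : Subgroup G, P ≤ H ∧ IsPGroup p P ∧ ∀ h ∈ H, ∀ b : ℕ, orderOf h = p ^ b → h ∈ P := by
  obtain ⟨P₀⟩ : Nonempty (Sylow p ↥H) := inferInstance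
  refine ⟨(P₀ : Subgroup ↥H).map H.subtype, Subgroup.map_subtype_le _, P₀.2.map _, ?_⟩
  intro h hh b hb
  have h1 : (⟨h, hh⟩ : H) ∈ (P₀ : Subgroup ↥H) :=
    mem_sylow_of_nilpotent hH p P₀ ⟨h, hh⟩ b (by rw [Subgroup.orderOf_mk]; exact hb)
  exact ⟨⟨h, hh⟩, h1, rfl⟩

end Cfsg.Agent.Helper3
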