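import Mathlib
import Cfsg.Prelude
import Cfsg.Agent.Helper3.GlaubRepl
import Cfsg.Agent.Helper3.GlaubFam
import Cfsg.Agent.Helper3.Layer2
import Cfsg.Agent.Helper5.Basic
import Cfsg.Agent.S0649

set_option autoImplicit false

namespace Cfsg.Agent.Helper3.DS

open scoped commutatorElement

universe u

variable {G : Type u} [Group G]

theorem mem_centralizer_sup_zpowers {A : Subgroup G} {b c : G} (hA : ∀ a ∈ A, a * c = c * a)
    (hb : b * c = c * b) :
    c ∈ Subgroup.centralizer ((A ⊔ Subgroup.zpowers b : Subgroup G) : Set G) := by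
  have hH : A ⊔ Subgroup.zpowers b = Subgroup.closure ((A : Set G) ∪ {b}) := by
    rw [Subgroup.closure_union, Subgroup.closure_eq, Subgroup.zpowers_eq_closure]
  rw [Subgroup.mem_centralizer_iff]
  intro h hh
  have hh' : h ∈ Subgroup.closure ((A : Set G) ∪ {b}) := by rw [← hH]; exact hh
  clear hh
  induction hh' using Subgroup.closure_induction with
  | mem x hx =>
    rcases hx with hx | hx
    · exact hA x hx
    · rw [Set.mem_singleton_iff.1 hx]; exact hb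
  | one => rw [one_mul, mul_one]
  | mul x y _ _ hx hy => rw [mul_assoc, hy, ← mul_assoc, hx, mul_assoc]
  | inv x _ hx => exact (Commute.inv_left (show Commute x c from hx)).eq

/-- `⟨A, b⟩` has class at most two when `A` is abelian and all `[a, b]` are central. -/
theorem class_two_sup_zpowers {A : Subgroup G} {b : G} (hAc : ∀ x ∈ A, ∀ y ∈ A, x * y = y * x)
    (hc : ∀ a ∈ A, ⁅a, b⁆ ∈
      Subgroup.centralizer ((A ⊔ Subgroup.zpowers b : Subgroup G) : Set G)) :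
    ⁅⁅A ⊔ Subgroup.zpowers b, A ⊔ Subgroup.zpowers b⁆, A ⊔ Subgroup.zpowers b⁆ = ⊥ := by
  have hH : A ⊔ Subgroup.zpowers b = Subgroup.closure ((A : Set G) ∪ {b}) := by
    rw [Subgroup.closure_union, Subgroup.closure_eq, Subgroup.zpowers_eq_closure]
  obtain ⟨H, hHd⟩ : ∃ H : Subgroup G, H = A ⊔ Subgroup.zpowers b := ⟨_, rfl⟩
  rw [← hHd] at hc hH ⊢
  have hcl : ∀ z, z ∈ Subgroup.closure ((A : Set G) ∪ {b}) → z ∈ H := fun z hz => by
    rw [hH]; exact hz
  have hcc : ∀ c ∈ Subgroup.centralizer (H : Set G), ∀ h ∈ H, h * c * h⁻¹ = c := by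
    intro c hc' h hh
    rw [Subgroup.mem_centralizer_iff.1 hc' h hh]; group
  have h1 : ∀ x ∈ (A : Set G) ∪ {b}, ∀ y ∈ (A : Set G) ∪ {b},
      ⁅x, y⁆ ∈ Subgroup.centralizer (H : Set G) := by
    intro x hx y hy
    rcases hx with hx | hx <;> rcases hy with hy | hy
    · rw [commutatorElement_eq_one_iff_mul_comm.2 (hAc x hx y hy)]; exact Subgroup.one_mem _
    · rw [Set.mem_singleton_iff.1 hy]; exact hc x hx
    · rw [Set.mem_singleton_iff.1 hx, ← commutatorElement_inv]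
      exact Subgroup.inv_mem _ (hc y hy)
    · rw [Set.mem_singleton_iff.1 hx, Set.mem_singleton_iff.1 hy, commutatorElement_self]
      exact Subgroup.one_mem _
  have h2 : ∀ y ∈ (A : Set G) ∪ {b}, ∀ h ∈ H, ⁅h, y⁆ ∈ Subgroup.centralizer (H : Set G) := by
    intro y hy h hh
    have hh' : h ∈ Subgroup.closure ((A : Set G) ∪ {b}) := by rw [← hH]; exact hh
    clear hh
    induction hh' using Subgroup.closure_induction with
    | mem x hx => exact h1 x hx y hy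
    | one => rw [commutatorElement_one_left]; exact Subgroup.one_mem _
    | mul h₁ h₂ hh₁ _ ih₁ ih₂ =>
      have e : ⁅h₁ * h₂, y⁆ = h₁ * ⁅h₂, y⁆ * h₁⁻¹ * ⁅h₁, y⁆ := by
        simp only [commutatorElement_def]; group
      rw [e, hcc _ ih₂ h₁ (hcl _ hh₁)]
      exact Subgroup.mul_mem _ ih₂ ih₁
    | inv h₁ hh₁ ih =>
      have e : ⁅h₁⁻¹, y⁆ = h₁⁻¹ * ⁅h₁, y⁆⁻¹ * h₁⁻¹⁻¹ := by
        simp only [commutatorElement_def]; group
      rw [e, hcc _ (Subgroup.inv_mem _ ih) h₁⁻¹ (Subgroup.inv_mem _ (hcl _ hh₁))]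
      exact Subgroup.inv_mem _ ih
  have h3 : ∀ h ∈ H, ∀ k ∈ H, ⁅h, k⁆ ∈ Subgroup.centralizer (H : Set G) := by
    intro h hh k hk
    have hk' : k ∈ Subgroup.closure ((A : Set G) ∪ {b}) := by rw [← hH]; exact hk
    clear hk
    induction hk' using Subgroup.closure_induction with
    | mem x hx => exact h2 x hx h hh
    | one => rw [commutatorElement_one_right]; exact Subgroup.one_mem _
    | mul k₁ k₂ hk₁ _ ih₁ ih₂ =>
      have e : ⁅h, k₁ * k₂⁆ = ⁅h, k₁⁆ * (k₁ * ⁅h, k₂⁆ * k₁⁻¹) := by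
        simp only [commutatorElement_def]; group
      rw [e, hcc _ ih₂ k₁ (hcl _ hk₁)]
      exact Subgroup.mul_mem _ ih₁ ih₂
    | inv k₁ hk₁ ih =>
      have e : ⁅h, k₁⁻¹⁆ = k₁⁻¹ * ⁅h, k₁⁆⁻¹ * k₁⁻¹⁻¹ := by
        simp only [commutatorElement_def]; group
      rw [e, hcc _ (Subgroup.inv_mem _ ih) k₁⁻¹ (Subgroup.inv_mem _ (hcl _ hk₁))]
      exact Subgroup.inv_mem _ ih
  rw [Subgroup.commutator_eq_bot_iff_le_centralizer, Subgroup.commutator_le]
  exact h3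

/-- A member of the `D*` family centralizes every abelian subgroup that it normalizes. -/
theorem centralizes_of_normalizes [Finite G] {p : ℕ} [Fact p.Prime] (hG : IsPGroup p G)
    {A : Subgroup G} (hAc : ∀ x ∈ A, ∀ y ∈ A, x * y = y * x)
    (hA : ∀ x : G, ⁅⁅A ⊔ Subgroup.zpowers x, A ⊔ Subgroup.zpowers x⁆,
      A ⊔ Subgroup.zpowers x⁆ = ⊥ → ∀ a ∈ A, a * x = x * a)
    {B : Subgroup G} (hBc : ∀ x ∈ B, ∀ y ∈ B, x * y = y * x)
    (hAB : A ≤ Subgroup.normalizer (B : Set G)) : ∀ a ∈ A, ∀ b ∈ B, a * b = b * a := by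
  by_contra hcon
  push Not at hcon
  obtain ⟨a₀, ha₀, b₀, hb₀, hne⟩ := hcon
  obtain ⟨C, hC⟩ : ∃ C : Subgroup G, C = B ⊓ Subgroup.centralizer (A : Set G) := ⟨_, rfl⟩
  have hCB : C ≤ B := hC ▸ inf_le_left
  have hCcent : ∀ c ∈ C, ∀ a ∈ A, a * c = c * a := by
    intro c hc a ha
    rw [hC] at hc
    exact Subgroup.mem_centralizer_iff.1 hc.2 a ha
  have hCA : C ≤ Subgroup.normalizer (A : Set G) := by
    intro c hc
    apply Helper5.mem_normalizer_of_conj_le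
    rintro _ ⟨a, ha, rfl⟩
    show c * a * c⁻¹ ∈ A
    have e : c * a * c⁻¹ = a := by rw [← hCcent c hc a ha]; group
    rw [e]; exact ha
  have hmem : ∀ t ∈ A ⊔ C, t ∈ B → t ∈ C := by
    intro t ht htB
    obtain ⟨a, ha, c, hc, rfl⟩ := mem_sup_of_le_normalizer_right A C hCA ht
    have haB : a ∈ B := by
      have e : a = (a * c) * c⁻¹ := by group
      rw [e]; exact B.mul_mem htB (B.inv_mem (hCB hc))
    have haC : a ∈ C := by
      rw [hC]; exact ⟨haB, Subgroup.mem_centralizer_iff.2 (fun x hx => hAc x hx a ha)⟩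
    exact C.mul_mem haC hc
  have hlt : A ⊔ C ≠ A ⊔ B := by
    intro heq
    apply hne
    have h1 : b₀ ∈ A ⊔ C := by rw [heq]; exact (le_sup_right : B ≤ A ⊔ B) hb₀
    exact hCcent b₀ (hmem b₀ h1 hb₀) a₀ ha₀
  obtain ⟨y, hyT, hyN, hyn⟩ := Helper5.exists_mem_normalizer_not_mem (A ⊔ B) (A ⊔ C)
    (hG.to_subgroup _) (sup_le_sup_left hCB A) hlt
  rw [sup_comm] at hyT
  obtain ⟨b', hb', a', ha', rfl⟩ := mem_sup_of_le_normalizer_right B A hAB hyT
  have ha'T : a' ∈ A ⊔ C := (le_sup_left : A ≤ A ⊔ C) ha'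
  have hb'N : b' ∈ Subgroup.normalizer ((A ⊔ C : Subgroup G) : Set G) := by
    have e : b' = (b' * a') * a'⁻¹ := by group
    rw [e]; exact Subgroup.mul_mem _ hyN (Subgroup.inv_mem _ (Subgroup.le_normalizer ha'T))
  have hb'n : b' ∉ A ⊔ C := fun h => hyn (Subgroup.mul_mem _ h ha'T)
  have hcomm : ∀ a ∈ A, ⁅a, b'⁆ ∈ C := by
    intro a ha
    apply hmem
    · rw [commutatorElement_def]
      have h1 : b' * a⁻¹ * b'⁻¹ ∈ A ⊔ C :=
        (Subgroup.mem_normalizer_iff.1 hb'N a⁻¹).1 ((le_sup_left : A ≤ A ⊔ C) (A.inv_mem ha))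
      have e : a * b' * a⁻¹ * b'⁻¹ = a * (b' * a⁻¹ * b'⁻¹) := by group
      rw [e]; exact Subgroup.mul_mem _ ((le_sup_left : A ≤ A ⊔ C) ha) h1
    · rw [commutatorElement_def]
      exact B.mul_mem ((Subgroup.mem_normalizer_iff.1 (hAB ha) b').1 hb') (B.inv_mem hb')
  have hcl : ⁅⁅A ⊔ Subgroup.zpowers b', A ⊔ Subgroup.zpowers b'⁆, A ⊔ Subgroup.zpowers b'⁆ = ⊥ :=
    class_two_sup_zpowers hAc (fun a ha => mem_centralizer_sup_zpowers
      (fun x hx => hCcent _ (hcomm a ha) x hx) (hBc b' hb' _ (hCB (hcomm a ha))))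
  have hfin := hA b' hcl
  apply hb'n
  refine (le_sup_right : C ≤ A ⊔ C) ?_
  rw [hC]; exact ⟨hb', Subgroup.mem_centralizer_iff.2 (fun a ha => hfin a ha)⟩

/-- Thompson's replacement theorem for an abelian normal subgroup `B` (any prime). -/
theorem thompson_repl [Finite G] {p : ℕ} [Fact p.Prime] (hG : IsPGroup p G) (B : Subgroup G)
    [B.Normal] (hBc : ∀ x ∈ B, ∀ y ∈ B, x * y = y * x) {E : Subgroup G}
    (hE : E ∈ Cfsg.maxAbelianSubgroups G) (hnot : ¬ B ≤ Subgroup.normalizer (E : Set G)) :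
    ∃ E' ∈ Cfsg.maxAbelianSubgroups G, E ⊓ B < E' ⊓ B ∧
      E' ≤ Subgroup.normalizer (E : Set G) ∧ E' ≤ Subgroup.normalClosure (E : Set G) := by
  have hBc' : IsMulCommutative ↥B := ⟨⟨fun x y => Subtype.ext (hBc x.1 x.2 y.1 y.2)⟩⟩
  have hder : ⁅B, B⁆ ≤ E := by
    rw [(Subgroup.commutator_eq_bot_iff_le_centralizer).2
      (fun x hx => Subgroup.mem_centralizer_iff.2 (fun y hy => hBc y hy x hx))]
    exact bot_le
  haveI := hE.1
  obtain ⟨b, hb, hbN, hbA⟩ := S0649.result hG B (fun _ => hBc') E hE.1 hder hnot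
  have hEc : ∀ x ∈ E, ∀ y ∈ E, x * y = y * x := fun x hx y hy =>
    congrArg Subtype.val (mul_comm' (⟨x, hx⟩ : E) ⟨y, hy⟩)
  have h : GR.Hyp E B b := ⟨hEc, inferInstance, hder, hb, hbN⟩
  have hsc := h.star_comm hG (fun _ => hBc)
  refine ⟨GR.star E b, ⟨⟨⟨fun x y => Subtype.ext (hsc x.1 x.2 y.1 y.2)⟩⟩, fun B' hB' => ?_⟩,
    h.inf_lt hbA, h.star_le_N, GR.star_le_of_normal _ h Subgroup.le_normalClosure⟩
  rw [h.card_star]; exact hE.2 B' hB'

end Cfsg.Agent.Helper3.DS
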