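import Mathlib
import Cfsg.Prelude
import Cfsg.Agent.Helper3.FC1
import Cfsg.Agent.Helper3.Component

set_option autoImplicit false

/-!
# The diagonal of `L L^a` together with any element outside `J Z(M)` generates `M`
-/

namespace Cfsg.Agent.Helper3.DiagGen

universe u

theorem diag_gen {H : Type u} [Group H] [Finite H] (a : H) (L : Subgroup H)
    (hL : Cfsg.IsComponent L) (hLa : L.map (MulAut.conj a).toMonoidHom ≠ L) (x : H)
    (hxM : x ∈ L ⊔ L.map (MulAut.conj a).toMonoidHom)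
    (hxJ : x ∉ Subgroup.closure {y : H | ∃ l ∈ L, y = l * (a * l * a⁻¹)} ⊔
      ((L ⊔ L.map (MulAut.conj a).toMonoidHom) ⊓
        Subgroup.centralizer ((L ⊔ L.map (MulAut.conj a).toMonoidHom : Subgroup H) : Set H))) :
    Subgroup.closure {y : H | ∃ l ∈ L, y = l * (a * l * a⁻¹)} ⊔ Subgroup.zpowers x =
      L ⊔ L.map (MulAut.conj a).toMonoidHom := by
  obtain ⟨L₂, hL₂⟩ : ∃ L₂ : Subgroup H, L₂ = L.map (MulAut.conj a).toMonoidHom := ⟨_, rfl⟩
  obtain ⟨J, hJ⟩ : ∃ J : Subgroup H,
      J = Subgroup.closure {y : H | ∃ l ∈ L, y = l * (a * l * a⁻¹)} := ⟨_, rfl⟩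
  rw [← hL₂] at hxM hxJ ⊢
  rw [← hJ] at hxJ ⊢
  have hL₂c : Cfsg.IsComponent L₂ := by
    rw [hL₂]; exact component_map_equiv (MulAut.conj a) L hL
  have hmemL₂ : ∀ z, z ∈ L₂ ↔ ∃ l ∈ L, a * l * a⁻¹ = z := by
    intro z; rw [hL₂]; exact FC.mem_cj
  have hbot : ⁅L, L₂⁆ = ⊥ :=
    components_commute L L₂ hL hL₂c (fun h => hLa (by rw [← hL₂]; exact h.symm))
  have hcomm : ∀ l ∈ L, ∀ v ∈ L₂, v * l = l * v := by
    intro l hl v hv
    have h1 : L ≤ Subgroup.centralizer (L₂ : Set H) :=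
      Subgroup.commutator_eq_bot_iff_le_centralizer.1 hbot
    exact Subgroup.mem_centralizer_iff.1 (h1 hl) v hv
  have hJgen : ∀ l ∈ L, l * (a * l * a⁻¹) ∈ J := by
    intro l hl; rw [hJ]; exact Subgroup.subset_closure ⟨l, hl, rfl⟩
  have hdecomp : ∀ z ∈ L ⊔ L₂, ∃ u ∈ L, ∃ v ∈ L₂, z = u * v := by
    have hle : L ⊔ L₂ ≤ ({ carrier := {z | ∃ u ∈ L, ∃ v ∈ L₂, z = u * v}
                           mul_mem' := by
                             rintro _ _ ⟨u, hu, v, hv, rfl⟩ ⟨u', hu', v', hv', rfl⟩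
                             refine ⟨u * u', L.mul_mem hu hu', v * v', L₂.mul_mem hv hv', ?_⟩
                             have h := hcomm u' hu' v hv
                             calc u * v * (u' * v') = u * (v * u') * v' := by group
                               _ = u * (u' * v) * v' := by rw [h]
                               _ = u * u' * (v * v') := by group
                           one_mem' := ⟨1, L.one_mem, 1, L₂.one_mem, by group⟩
                           inv_mem' := by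
                             rintro _ ⟨u, hu, v, hv, rfl⟩
                             refine ⟨u⁻¹, L.inv_mem hu, v⁻¹, L₂.inv_mem hv, ?_⟩
                             have h := hcomm u⁻¹ (L.inv_mem hu) v⁻¹ (L₂.inv_mem hv)
                             calc (u * v)⁻¹ = v⁻¹ * u⁻¹ := by group
                               _ = u⁻¹ * v⁻¹ := h } : Subgroup H) := by
      refine sup_le ?_ ?_
      · intro u hu; exact ⟨u, hu, 1, L₂.one_mem, by group⟩
      · intro v hv; exact ⟨1, L.one_mem, v, hv, by group⟩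
    intro z hz
    exact hle hz
  obtain ⟨K, hK⟩ : ∃ K : Subgroup H, K = J ⊔ Subgroup.zpowers x := ⟨_, rfl⟩
  rw [← hK]
  have hJK : J ≤ K := by rw [hK]; exact le_sup_left
  have hxK : x ∈ K := by rw [hK]; exact Subgroup.mem_sup_right (Subgroup.mem_zpowers x)
  apply le_antisymm
  · rw [hK]
    refine sup_le ?_ ?_
    · rw [hJ, Subgroup.closure_le]
      rintro _ ⟨l, hl, rfl⟩
      exact Subgroup.mul_mem _ (Subgroup.mem_sup_left hl)
        (Subgroup.mem_sup_right ((hmemL₂ _).2 ⟨l, hl, rfl⟩))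
    · rw [Subgroup.zpowers_le]; exact hxM
  · obtain ⟨u, hu, v, hv, hxe⟩ := hdecomp x hxM
    obtain ⟨w, hw, hve⟩ := (hmemL₂ v).1 hv
    have hd : w * (a * w * a⁻¹) ∈ J := hJgen w hw
    have hy : u * w⁻¹ ∈ K := by
      have e : u * w⁻¹ = x * (w * (a * w * a⁻¹))⁻¹ := by rw [hxe, ← hve]; group
      rw [e]
      exact K.mul_mem hxK (K.inv_mem (hJK hd))
    have hyL : u * w⁻¹ ∈ L := L.mul_mem hu (L.inv_mem hw)
    have hN : (K.subgroupOf L).Normal := by
      refine ⟨fun n hn g => ?_⟩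
      rw [Subgroup.mem_subgroupOf] at hn ⊢
      have hc := hcomm (n : H) n.2 (a * (g : H) * a⁻¹) ((hmemL₂ _).2 ⟨g, g.2, rfl⟩)
      have e : ((g * n * g⁻¹ : ↥L) : H) =
          ((g : H) * (a * (g : H) * a⁻¹)) * n * ((g : H) * (a * (g : H) * a⁻¹))⁻¹ := by
        calc ((g * n * g⁻¹ : ↥L) : H) = (g : H) * ((n : H) * (a * (g : H) * a⁻¹)) *
              (a * (g : H) * a⁻¹)⁻¹ * (g : H)⁻¹ := by
              show (g : H) * n * (g : H)⁻¹ = _
              group
          _ = (g : H) * ((a * (g : H) * a⁻¹) * (n : H)) * (a * (g : H) * a⁻¹)⁻¹ *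
              (g : H)⁻¹ := by rw [hc]
          _ = _ := by group
      rw [e]
      exact K.mul_mem (K.mul_mem (hJK (hJgen g g.2)) hn) (K.inv_mem (hJK (hJgen g g.2)))
    rcases quasisimple_normal hL.2 (K.subgroupOf L) with h1 | h1
    · have hLK : L ≤ K := by
        intro l hl
        have hl' : (⟨l, hl⟩ : ↥L) ∈ K.subgroupOf L := by rw [h1]; exact Subgroup.mem_top _
        exact Subgroup.mem_subgroupOf.1 hl'
      refine sup_le hLK ?_
      intro v' hv'
      obtain ⟨l, hl, rfl⟩ := (hmemL₂ v').1 hv'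
      have e : a * l * a⁻¹ = l⁻¹ * (l * (a * l * a⁻¹)) := by group
      rw [e]
      exact K.mul_mem (K.inv_mem (hLK hl)) (hJK (hJgen l hl))
    · exfalso
      apply hxJ
      have hyc : (⟨u * w⁻¹, hyL⟩ : ↥L) ∈ Subgroup.center ↥L :=
        h1 (Subgroup.mem_subgroupOf.2 hy)
      have hyZ : u * w⁻¹ ∈ (L ⊔ L₂) ⊓ Subgroup.centralizer ((L ⊔ L₂ : Subgroup H) : Set H) := by
        refine Subgroup.mem_inf.2 ⟨Subgroup.mem_sup_left hyL, ?_⟩
        rw [Subgroup.mem_centralizer_iff]
        intro m hm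
        obtain ⟨u', hu', v', hv', rfl⟩ := hdecomp m hm
        have h2 : u' * (u * w⁻¹) = (u * w⁻¹) * u' := by
          have h3 := Subgroup.mem_center_iff.1 hyc ⟨u', hu'⟩
          exact congrArg Subtype.val h3
        have h4 := hcomm (u * w⁻¹) hyL v' hv'
        calc u' * v' * (u * w⁻¹) = u' * (v' * (u * w⁻¹)) := by group
          _ = u' * ((u * w⁻¹) * v') := by rw [h4]
          _ = (u' * (u * w⁻¹)) * v' := by group
          _ = (u * w⁻¹) * u' * v' := by rw [h2]
          _ = u * w⁻¹ * (u' * v') := by group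
      have e : x = (u * w⁻¹) * (w * (a * w * a⁻¹)) := by rw [hxe, ← hve]; group
      rw [e]
      exact Subgroup.mul_mem _ (Subgroup.mem_sup_right hyZ) (Subgroup.mem_sup_left hd)

end Cfsg.Agent.Helper3.DiagGen
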