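import Mathlib
import Cfsg.Prelude
import Cfsg.Agent.Helper3.FC11
import Cfsg.Agent.Helper6.FrobNPC

set_option autoImplicit false

/-!
# Normal `p`-complements and elements of order the exponent in sections
-/

namespace Cfsg.Agent.Helper3.ExpSec
open Cfsg.Agent

universe u

variable {G : Type u} [Group G]

/-- a finite `p`-group has an element whose order is the exponent. -/
theorem exists_orderOf_eq_exponent_of_isPGroup {p : ℕ} [Fact p.Prime] (Q : Type*) [Group Q]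
    [Finite Q] (hQ : IsPGroup p Q) : ∃ k : Q, orderOf k = Monoid.exponent Q := by
  have hp : p.Prime := Fact.out
  obtain ⟨g, hg⟩ := Finite.exists_max (fun x : Q => orderOf x)
  refine ⟨g, Nat.dvd_antisymm (Monoid.order_dvd_exponent g) ?_⟩
  apply Monoid.exponent_dvd_of_forall_pow_eq_one
  intro h
  obtain ⟨a, ha⟩ := hQ h
  obtain ⟨b, hb⟩ := hQ g
  obtain ⟨a', ha'l, ha'⟩ := (Nat.dvd_prime_pow hp).1 (orderOf_dvd_of_pow_eq_one ha)
  obtain ⟨b', hb'l, hb'⟩ := (Nat.dvd_prime_pow hp).1 (orderOf_dvd_of_pow_eq_one hb)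
  have hle : orderOf h ≤ orderOf g := hg h
  rw [ha', hb'] at hle
  have hab : a' ≤ b' := (Nat.pow_le_pow_iff_right hp.one_lt).1 hle
  rw [hb']
  apply orderOf_dvd_iff_pow_eq_one.1
  rw [ha']
  exact pow_dvd_pow p hab

/-- sections with trivial `p'`-core of a group with a normal `p`-complement are `p`-groups. -/
theorem sections_of_npc [Finite G] (p : ℕ) [Fact p.Prime] (hG : Cfsg.HasNormalPComplement p G)
    (H : Subgroup G) (N : Subgroup H) [N.Normal] (hO : Cfsg.pPrimeCore p (H ⧸ N) = ⊥) :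
    ∃ k : H ⧸ N, orderOf k = Monoid.exponent (H ⧸ N) := by
  have hH := Helper6.hasNormalPComplement_subgroup hG H
  obtain ⟨K, hKn, hKc, hKpow⟩ := Helper6.exists_isNPC_of_hasNormalPComplement hH
  haveI hmapn : (K.map (QuotientGroup.mk' N)).Normal :=
    Subgroup.Normal.map hKn _ (QuotientGroup.mk'_surjective N)
  have hcard : (Nat.card (K.map (QuotientGroup.mk' N))).Coprime p := by
    have hsurj := (QuotientGroup.mk' N).subgroupMap_surjective K
    have hdvd : Nat.card (K.map (QuotientGroup.mk' N)) ∣ Nat.card K :=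
      Subgroup.card_dvd_of_surjective _ hsurj
    exact Nat.Coprime.coprime_dvd_left hdvd hKc
  have hle := Helper3.le_pPrimeCore (K.map (QuotientGroup.mk' N)) hcard
  rw [hO] at hle
  have hQ : IsPGroup p (H ⧸ N) := by
    intro x
    obtain ⟨h, rfl⟩ := QuotientGroup.mk_surjective x
    obtain ⟨k, hk⟩ := hKpow h
    refine ⟨k, ?_⟩
    have h1 : QuotientGroup.mk' N (h ^ p ^ k) ∈ K.map (QuotientGroup.mk' N) := ⟨_, hk, rfl⟩
    have h2 := hle h1
    rw [Subgroup.mem_bot] at h2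
    rw [← h2]
    rfl
  exact exists_orderOf_eq_exponent_of_isPGroup _ hQ

/-- the converse: the Frobenius condition from elements of order the exponent in sections. -/
theorem frobCond_of_sections [Finite G] (p : ℕ) [Fact p.Prime]
    (hyp : ∀ (H : Subgroup G) (N : Subgroup H) [N.Normal], Cfsg.pPrimeCore p (H ⧸ N) = ⊥ →
      ∃ k : H ⧸ N, orderOf k = Monoid.exponent (H ⧸ N)) : Helper6.FrobCond p G := by
  have hp : p.Prime := Fact.out
  by_contra hF
  unfold Helper6.FrobCond at hF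
  push Not at hF
  obtain ⟨X₀, hX₀p, g₀, hg₀N, hg₀c, hg₀C⟩ := hF
  -- minimal `X`
  obtain ⟨X, ⟨hXp, g₁, hg₁N, hg₁c, hg₁C⟩, hXmin⟩ := Set.exists_min_image
    {X : Subgroup G | IsPGroup p X ∧ ∃ g ∈ Subgroup.normalizer (X : Set G),
      (orderOf g).Coprime p ∧ g ∉ Subgroup.centralizer (X : Set G)}
    (fun X => Nat.card X) (Set.toFinite _) ⟨X₀, hX₀p, g₀, hg₀N, hg₀c, hg₀C⟩
  -- minimal `g`
  obtain ⟨g, ⟨hgN, hgc, hgC⟩, hgmin⟩ := Set.exists_min_image
    {g : G | g ∈ Subgroup.normalizer (X : Set G) ∧ (orderOf g).Coprime p ∧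
      g ∉ Subgroup.centralizer (X : Set G)}
    orderOf (Set.toFinite _) ⟨g₁, hg₁N, hg₁c, hg₁C⟩
  have hA : ∀ Y : Subgroup G, Y ≤ X → Y ≠ X → g ∈ Subgroup.normalizer (Y : Set G) →
      g ∈ Subgroup.centralizer (Y : Set G) := by
    intro Y hYX hne hgY
    by_contra hgCY
    have h1 : Nat.card X ≤ Nat.card Y := hXmin Y ⟨hXp.to_le hYX, g, hgY, hgc, hgCY⟩
    have h2 : Nat.card Y < Nat.card X := Helper6.card_lt_of_lt' (lt_of_le_of_ne hYX hne)
    omega
  have hg1 : orderOf g ≠ 1 := by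
    intro h
    rw [orderOf_eq_one_iff] at h
    apply hgC
    rw [h]
    exact one_mem _
  obtain ⟨q, hq, hqd⟩ := Nat.exists_prime_and_dvd hg1
  have hqp : q ≠ p := by
    rintro rfl
    exact hp.ne_one (Nat.Coprime.eq_one_of_dvd hgc.symm hqd)
  have hgq : g ^ q ∈ Subgroup.centralizer (X : Set G) := by
    by_contra hc
    have h0 : (orderOf (g ^ q)).Coprime p :=
      Nat.Coprime.coprime_dvd_left (orderOf_pow_dvd q) hgc
    have h1 : orderOf g ≤ orderOf (g ^ q) := hgmin (g ^ q) ⟨pow_mem hgN q, h0, hc⟩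
    have h2 : orderOf (g ^ q) = orderOf g / q := orderOf_pow_of_dvd hq.ne_zero hqd
    have h3 : orderOf g / q < orderOf g := Nat.div_lt_self (orderOf_pos g) hq.one_lt
    omega
  have hgqX : ∀ x ∈ X, Commute x (g ^ q) := fun x hx =>
    Subgroup.mem_centralizer_iff.1 hgq x hx
  obtain ⟨N₀, hN₀⟩ : ∃ N₀ : Subgroup G, N₀ = X ⊓ Subgroup.centralizer ({g} : Set G) :=
    ⟨_, rfl⟩
  have hN₀mem : ∀ y, y ∈ N₀ ↔ y ∈ X ∧ g * y = y * g := by
    intro y
    rw [hN₀, Subgroup.mem_inf, Subgroup.mem_centralizer_iff]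
    constructor
    · rintro ⟨h1, h2⟩
      exact ⟨h1, h2 g rfl⟩
    · rintro ⟨h1, h2⟩
      exact ⟨h1, fun h hh => by rw [Set.mem_singleton_iff.1 hh]; exact h2⟩
  have hP1 : ∀ y ∈ X, ∀ m : ℕ, m.Coprime p → y ^ m = 1 → y = 1 := by
    intro y hy m hm hym
    obtain ⟨a, ha⟩ := hXp ⟨y, hy⟩
    have ha' : y ^ p ^ a = 1 := by simpa using congrArg Subtype.val ha
    exact Helper6.eq_one_of_pow_of_coprime ha'
      (Nat.Coprime.coprime_dvd_left (orderOf_dvd_of_pow_eq_one hym) hm)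
  have hP2 : ∀ y ∈ X, y ∈ Subgroup.zpowers g → y = 1 := by
    intro y hy hyg
    apply hP1 y hy (orderOf y)
      (Nat.Coprime.coprime_dvd_left (orderOf_dvd_of_mem_zpowers hyg) hgc)
    exact pow_orderOf_eq_one y
  -- an index `p` normal subgroup of `X`
  have hXne : X ≠ ⊥ := by
    rintro rfl
    apply hgC
    rw [Subgroup.mem_centralizer_iff]
    intro h hh
    rw [Subgroup.mem_bot.1 hh]
    simp
  haveI : Nontrivial ↥X := (Subgroup.nontrivial_iff_ne_bot X).2 hXne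
  obtain ⟨M, hMn, hMi⟩ := FC.exists_normal_index_p_of_pgroup (p := p) ↥X hXp inferInstance
  haveI := hMn
  have hcardQ : Nat.card (↥X ⧸ M) = p := by rw [← Subgroup.index_eq_card]; exact hMi
  have hMpow : ∀ x : ↥X, x ^ p ∈ M := by
    intro x
    rw [← QuotientGroup.eq_one_iff, QuotientGroup.mk_pow, ← hcardQ]
    exact pow_card_eq_one'
  have hMcomm : ∀ x y : ↥X, x * y * x⁻¹ * y⁻¹ ∈ M := by
    intro x y
    haveI : IsCyclic (↥X ⧸ M) := isCyclic_of_prime_card hcardQ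
    obtain ⟨z, hz⟩ := IsCyclic.exists_generator (α := ↥X ⧸ M)
    rw [← QuotientGroup.eq_one_iff]
    obtain ⟨i, hi⟩ := Subgroup.mem_zpowers_iff.1 (hz (QuotientGroup.mk x))
    obtain ⟨j, hj⟩ := Subgroup.mem_zpowers_iff.1 (hz (QuotientGroup.mk y))
    rw [QuotientGroup.mk_mul, QuotientGroup.mk_mul, QuotientGroup.mk_mul, QuotientGroup.mk_inv,
      QuotientGroup.mk_inv, ← hi, ← hj, zpow_mul_comm z i j]
    group
  obtain ⟨T, hT⟩ : ∃ T : Subgroup G, T = Subgroup.closure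
      ({z | ∃ x ∈ X, z = x ^ p} ∪ {z | ∃ x ∈ X, ∃ y ∈ X, z = x * y * x⁻¹ * y⁻¹}) := ⟨_, rfl⟩
  have hMX' : M.map X.subtype ≤ X := by
    rintro _ ⟨y, _, rfl⟩
    exact y.2
  have hTM : T ≤ M.map X.subtype := by
    rw [hT, Subgroup.closure_le]
    rintro z (⟨x, hx, rfl⟩ | ⟨x, hx, y, hy, rfl⟩)
    · exact ⟨⟨x, hx⟩ ^ p, hMpow ⟨x, hx⟩, rfl⟩
    · exact ⟨⟨x, hx⟩ * ⟨y, hy⟩ * ⟨x, hx⟩⁻¹ * ⟨y, hy⟩⁻¹, hMcomm _ _, rfl⟩
  have hMX : M.map X.subtype ≠ X := by
    intro h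
    have hMtop : M = ⊤ := by
      rw [eq_top_iff]
      intro x _
      have hx : (x : G) ∈ M.map X.subtype := by rw [h]; exact x.2
      obtain ⟨y, hy, hyx⟩ := hx
      have hyx' : y = x := Subtype.ext hyx
      rwa [← hyx']
    rw [hMtop, Subgroup.index_top] at hMi
    exact hp.one_lt.ne hMi
  have hTX : T ≤ X := hTM.trans hMX'
  have hTne : T ≠ X := fun h => hMX (le_antisymm hMX' (h ▸ hTM))
  have hgT : g ∈ Subgroup.normalizer (T : Set G) := by
    apply FC.mem_normalizer_of_cj_le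
    rw [hT]
    unfold FC.cj
    rw [MonoidHom.map_closure, Subgroup.closure_le]
    rintro _ ⟨z, (⟨x, hx, rfl⟩ | ⟨x, hx, y, hy, rfl⟩), rfl⟩
    · apply Subgroup.subset_closure
      left
      refine ⟨g * x * g⁻¹, (Subgroup.mem_normalizer_iff.1 hgN x).1 hx, ?_⟩
      show g * x ^ p * g⁻¹ = (g * x * g⁻¹) ^ p
      rw [conj_pow]
    · apply Subgroup.subset_closure
      right
      refine ⟨g * x * g⁻¹, (Subgroup.mem_normalizer_iff.1 hgN x).1 hx, g * y * g⁻¹,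
        (Subgroup.mem_normalizer_iff.1 hgN y).1 hy, ?_⟩
      show g * (x * y * x⁻¹ * y⁻¹) * g⁻¹ = _
      group
  have hgCT := hA T hTX hTne hgT
  have hF2 : ∀ x ∈ X, x ^ p ∈ N₀ := by
    intro x hx
    rw [hN₀mem]
    refine ⟨pow_mem hx p, ?_⟩
    have h1 : x ^ p ∈ T := by rw [hT]; exact Subgroup.subset_closure (Or.inl ⟨x, hx, rfl⟩)
    exact (Subgroup.mem_centralizer_iff.1 hgCT _ h1).symm
  have hF1 : ∀ x ∈ X, ∀ y ∈ X, x * y * x⁻¹ * y⁻¹ ∈ N₀ := by
    intro x hx y hy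
    rw [hN₀mem]
    refine ⟨mul_mem (mul_mem (mul_mem hx hy) (inv_mem hx)) (inv_mem hy), ?_⟩
    have h1 : x * y * x⁻¹ * y⁻¹ ∈ T := by
      rw [hT]; exact Subgroup.subset_closure (Or.inr ⟨x, hx, y, hy, rfl⟩)
    exact (Subgroup.mem_centralizer_iff.1 hgCT _ h1).symm
  have hN₀X : N₀ ≤ X := fun y hy => ((hN₀mem y).1 hy).1
  have hN₀norm : ∀ x ∈ X, ∀ c ∈ N₀, x * c * x⁻¹ ∈ N₀ := by
    intro x hx c hc
    have h1 := hF1 x hx c (hN₀X hc)
    have e : x * c * x⁻¹ = (x * c * x⁻¹ * c⁻¹) * c := by group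
    rw [e]
    exact mul_mem h1 hc
  have hN₀ne : N₀ ≠ X := by
    intro h
    apply hgC
    rw [Subgroup.mem_centralizer_iff]
    intro x hx
    have hx' : x ∈ N₀ := by rw [h]; exact hx
    exact ((hN₀mem x).1 hx').2.symm
  -- commuting with a power `g ^ i` (`q ∤ i`) forces commuting with `g`
  have hcomm_of : ∀ i : ℤ, ¬ (q : ℤ) ∣ i → ∀ y ∈ X, Commute (g ^ i) y → Commute g y := by
    intro i hi y hy hc
    have hcop : IsCoprime (q : ℤ) i :=
      (Nat.prime_iff_prime_int.1 hq).coprime_iff_not_dvd.2 hi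
    obtain ⟨a, b, hab⟩ := hcop
    have h1 : g = (g ^ q) ^ a * (g ^ i) ^ b := by
      rw [← zpow_natCast g q, ← zpow_mul, ← zpow_mul, ← zpow_add]
      have e : (q : ℤ) * a + i * b = 1 := by rw [← hab]; ring
      rw [e, zpow_one]
    have h2 : Commute (g ^ q) y := (hgqX y hy).symm
    rw [h1]
    exact (h2.zpow_left a).mul_left (hc.zpow_left b)
  have hD : ∀ i : ℤ, ¬ (q : ℤ) ∣ i → ∀ y ∈ X, g ^ i * y * (g ^ i)⁻¹ * y⁻¹ ∈ N₀ → y ∈ N₀ := by
    intro i hi y hy hc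
    obtain ⟨h, hh⟩ : ∃ h, h = g ^ i := ⟨_, rfl⟩
    rw [← hh] at hc
    obtain ⟨c, hcdef⟩ : ∃ c, c = h * y * h⁻¹ * y⁻¹ := ⟨_, rfl⟩
    rw [← hcdef] at hc
    have hcX : c ∈ X := hN₀X hc
    have hgc' : Commute g c := ((hN₀mem c).1 hc).2
    have hhc : Commute h c := by rw [hh]; exact hgc'.zpow_left i
    have e3 : h * y * h⁻¹ = c * y := by rw [hcdef]; group
    have e4 : h * c * h⁻¹ = c := by rw [hhc.eq]; group
    have hpow : ∀ m : ℕ, h ^ m * y * (h ^ m)⁻¹ = c ^ m * y := by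
      intro m
      induction m with
      | zero => simp
      | succ m ihm =>
        have e1 : h ^ (m + 1) * y * (h ^ (m + 1))⁻¹ = h * (h ^ m * y * (h ^ m)⁻¹) * h⁻¹ := by
          rw [pow_succ']; group
        have e2 : h * (c ^ m * y) * h⁻¹ = (h * c * h⁻¹) ^ m * (h * y * h⁻¹) := by
          rw [conj_pow]; group
        rw [e1, ihm, e2, e4, e3, pow_succ, mul_assoc]
    have h2 : c ^ orderOf h = 1 := by
      have h3 := hpow (orderOf h)
      rw [pow_orderOf_eq_one, one_mul, inv_one, mul_one] at h3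
      calc c ^ orderOf h = (c ^ orderOf h * y) * y⁻¹ := by group
        _ = y * y⁻¹ := by rw [← h3]
        _ = 1 := mul_inv_cancel y
    have hoh : (orderOf h).Coprime p := by
      rw [hh]
      exact Nat.Coprime.coprime_dvd_left
        (orderOf_dvd_of_mem_zpowers (Subgroup.zpow_mem_zpowers g i)) hgc
    have hc1 : c = 1 := hP1 c hcX _ hoh h2
    have hcomm1 : Commute h y := by
      show h * y = y * h
      calc h * y = (h * y * h⁻¹) * h := by group
        _ = y * h := by rw [e3, hc1, one_mul]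
    have hcomm2 : Commute g y := hcomm_of i hi y hy (hh ▸ hcomm1)
    exact (hN₀mem y).2 ⟨hy, hcomm2.eq⟩
  -- the section
  obtain ⟨H, hH⟩ : ∃ H : Subgroup G, H = X ⊔ Subgroup.zpowers g := ⟨_, rfl⟩
  obtain ⟨N, hN⟩ : ∃ N : Subgroup G, N = N₀ ⊔ Subgroup.zpowers (g ^ q) := ⟨_, rfl⟩
  have hXH : X ≤ H := hH ▸ le_sup_left
  have hgH : g ∈ H := by
    rw [hH]
    exact (le_sup_right : Subgroup.zpowers g ≤ _) (Subgroup.mem_zpowers g)
  have hN₀N : N₀ ≤ N := hN ▸ le_sup_left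
  have hgqN : ∀ j : ℤ, (g ^ q) ^ j ∈ N := fun j => by
    rw [hN]
    exact (le_sup_right : Subgroup.zpowers (g ^ q) ≤ _) (Subgroup.zpow_mem_zpowers _ j)
  have hNH : N ≤ H := by
    rw [hN]
    refine sup_le (hN₀X.trans hXH) ?_
    rw [Subgroup.zpowers_le]
    exact pow_mem hgH q
  have hHmem : ∀ h ∈ H, ∃ x ∈ X, ∃ i : ℤ, h = x * g ^ i := by
    intro h hh
    rw [hH] at hh
    obtain ⟨x, hx, b, hb, rfl⟩ := Helper3.mem_sup_of_le_normalizer_right X (Subgroup.zpowers g)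
      (by rw [Subgroup.zpowers_le]; exact hgN) hh
    obtain ⟨i, rfl⟩ := Subgroup.mem_zpowers_iff.1 hb
    exact ⟨x, hx, i, rfl⟩
  have hgconj : ∀ c ∈ N₀, g * c * g⁻¹ = c := by
    intro c hc
    have h1 := ((hN₀mem c).1 hc).2
    rw [h1]; group
  have hNmem : ∀ n ∈ N, ∃ c ∈ N₀, ∃ j : ℤ, n = c * (g ^ q) ^ j := by
    intro n hn
    rw [hN] at hn
    have hnorm : Subgroup.zpowers (g ^ q) ≤ Subgroup.normalizer (N₀ : Set G) := by
      rw [Subgroup.zpowers_le]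
      apply pow_mem
      apply FC.mem_normalizer_of_cj_le
      rintro _ ⟨c, hc, rfl⟩
      show g * c * g⁻¹ ∈ N₀
      rw [hgconj c hc]
      exact hc
    obtain ⟨c, hc, b, hb, rfl⟩ :=
      Helper3.mem_sup_of_le_normalizer_right N₀ (Subgroup.zpowers (g ^ q)) hnorm hn
    obtain ⟨j, rfl⟩ := Subgroup.mem_zpowers_iff.1 hb
    exact ⟨c, hc, j, rfl⟩
  have hG1a : ∀ x ∈ X, x ∈ N → x ∈ N₀ := by
    intro x hx hxN
    obtain ⟨c, hc, j, rfl⟩ := hNmem x hxN
    have h1 : (g ^ q) ^ j ∈ X := by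
      have h := mul_mem (inv_mem (hN₀X hc)) hx
      simpa using h
    have h2 : (g ^ q) ^ j ∈ Subgroup.zpowers g :=
      zpow_mem (pow_mem (Subgroup.mem_zpowers g) q) j
    rw [hP2 _ h1 h2, mul_one]
    exact hc
  have hgN' : g ∉ N := by
    intro hgN'
    obtain ⟨c, hc, j, hcj⟩ := hNmem g hgN'
    have h1 : c ∈ Subgroup.zpowers g := by
      have e : c = g * ((g ^ q) ^ j)⁻¹ := eq_mul_inv_of_mul_eq hcj.symm
      rw [e]
      exact mul_mem (Subgroup.mem_zpowers g)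
        (inv_mem (zpow_mem (pow_mem (Subgroup.mem_zpowers g) q) j))
    have hc1 : c = 1 := hP2 c (hN₀X hc) h1
    rw [hc1, one_mul] at hcj
    apply hgC
    rw [hcj]
    exact zpow_mem hgq j
  have hHN : H ≤ Subgroup.normalizer (N : Set G) := by
    rw [hH]
    refine sup_le ?_ ?_
    · intro x hx
      apply FC.mem_normalizer_of_cj_le
      rintro _ ⟨n, hn, rfl⟩
      obtain ⟨c, hc, j, rfl⟩ := hNmem n hn
      have h1 : Commute x ((g ^ q) ^ j) := (hgqX x hx).zpow_right j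
      have e1 : x * (g ^ q) ^ j * x⁻¹ = (g ^ q) ^ j := by rw [h1.eq]; group
      have e : x * (c * (g ^ q) ^ j) * x⁻¹ = (x * c * x⁻¹) * (x * (g ^ q) ^ j * x⁻¹) := by group
      show x * (c * (g ^ q) ^ j) * x⁻¹ ∈ N
      rw [e, e1]
      exact mul_mem (hN₀N (hN₀norm x hx c hc)) (hgqN j)
    · rw [Subgroup.zpowers_le]
      apply FC.mem_normalizer_of_cj_le
      rintro _ ⟨n, hn, rfl⟩
      obtain ⟨c, hc, j, rfl⟩ := hNmem n hn
      have h2 : Commute g ((g ^ q) ^ j) := ((Commute.refl g).pow_right q).zpow_right j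
      have e1 : g * (g ^ q) ^ j * g⁻¹ = (g ^ q) ^ j := by rw [h2.eq]; group
      have e : g * (c * (g ^ q) ^ j) * g⁻¹ = (g * c * g⁻¹) * (g * (g ^ q) ^ j * g⁻¹) := by group
      show g * (c * (g ^ q) ^ j) * g⁻¹ ∈ N
      rw [e, e1, hgconj c hc]
      exact mul_mem (hN₀N hc) (hgqN j)
  haveI hN'n : (N.subgroupOf H).Normal :=
    (Subgroup.normal_subgroupOf_iff_le_normalizer hNH).2 hHN
  -- powers
  have hi1 : ∀ x ∈ X, ∀ i : ℤ, (q : ℤ) ∣ i → (x * g ^ i) ^ p ∈ N := by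
    intro x hx i hqi
    obtain ⟨j, rfl⟩ := hqi
    have hz : g ^ ((q : ℤ) * j) = (g ^ q) ^ j := by rw [zpow_mul, zpow_natCast]
    rw [hz]
    have h1 : Commute x ((g ^ q) ^ j) := (hgqX x hx).zpow_right j
    rw [h1.mul_pow]
    refine mul_mem (hN₀N (hF2 x hx)) ?_
    rw [← zpow_natCast, ← zpow_mul]
    exact hgqN _
  have hi2 : ∀ x ∈ X, ∀ i : ℤ, ¬ (q : ℤ) ∣ i → (x * g ^ i) ^ q ∈ N := by
    intro x hx i hqi
    obtain ⟨h, hh⟩ : ∃ h, h = g ^ i := ⟨_, rfl⟩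
    rw [← hh]
    have hhN : h ∈ Subgroup.normalizer (X : Set G) := by rw [hh]; exact zpow_mem hgN i
    have hhq : h ^ q = (g ^ q) ^ i := by
      rw [hh, ← zpow_natCast, ← zpow_mul, mul_comm, zpow_mul, zpow_natCast]
    have key : ∀ m : ℕ, ∃ n ∈ X, (x * h) ^ m = n * h ^ m ∧
        h * n * h⁻¹ = x⁻¹ * n * (h ^ m * x * (h ^ m)⁻¹) := by
      intro m
      induction m with
      | zero => exact ⟨1, one_mem _, by simp, by simp⟩
      | succ m ih =>
        obtain ⟨n, hn, h1, h2⟩ := ih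
        have hc : h ^ m * x * (h ^ m)⁻¹ ∈ X :=
          (Subgroup.mem_normalizer_iff.1 (pow_mem hhN m) x).1 hx
        refine ⟨n * (h ^ m * x * (h ^ m)⁻¹), mul_mem hn hc, ?_, ?_⟩
        · rw [pow_succ, h1, pow_succ]; group
        · have e : h * (n * (h ^ m * x * (h ^ m)⁻¹)) * h⁻¹ =
              (h * n * h⁻¹) * (h ^ (m + 1) * x * (h ^ (m + 1))⁻¹) := by
            rw [pow_succ']; group
          rw [e, h2]; group
    obtain ⟨n, hn, h1, h2⟩ := key q
    rw [h1, hhq]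
    refine mul_mem (hN₀N ?_) (hgqN i)
    apply hD i hqi n hn
    rw [← hh]
    have h3 : h ^ q * x * (h ^ q)⁻¹ = x := by
      rw [hhq]
      have hc : Commute ((g ^ q) ^ i) x := ((hgqX x hx).symm).zpow_left i
      rw [hc.eq]; group
    rw [h2, h3]
    have h4 := hF1 x⁻¹ (inv_mem hx) n hn
    simpa using h4
  -- the `p'`-core of the section is trivial
  have hO : Cfsg.pPrimeCore p (↥H ⧸ N.subgroupOf H) = ⊥ := by
    rw [eq_bot_iff]
    intro m hm
    rw [Subgroup.mem_bot]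
    have hOn := Helper4.pPrimeCore_normal p (↥H ⧸ N.subgroupOf H)
    have hOc := Helper3.pPrimeCore_coprime p (↥H ⧸ N.subgroupOf H)
    have hord : ∀ m' ∈ Cfsg.pPrimeCore p (↥H ⧸ N.subgroupOf H), ∀ a : ℕ,
        m' ^ p ^ a = 1 → m' = 1 := by
      intro m' hm' a ha
      have h1 : orderOf m' ∣ Nat.card (Cfsg.pPrimeCore p (↥H ⧸ N.subgroupOf H)) := by
        have h := orderOf_dvd_natCard
          (⟨m', hm'⟩ : ↥(Cfsg.pPrimeCore p (↥H ⧸ N.subgroupOf H)))
        rwa [Subgroup.orderOf_mk] at h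
      exact Helper6.eq_one_of_pow_of_coprime ha (Nat.Coprime.coprime_dvd_left h1 hOc)
    obtain ⟨h, rfl⟩ := QuotientGroup.mk_surjective m
    obtain ⟨x, hx, i, hxi⟩ := hHmem (h : G) h.2
    by_cases hqi : (q : ℤ) ∣ i
    · apply hord _ hm 1
      rw [pow_one, ← QuotientGroup.mk_pow, QuotientGroup.eq_one_iff, Subgroup.mem_subgroupOf,
        Subgroup.coe_pow, hxi]
      exact hi1 x hx i hqi
    · exfalso
      apply hN₀ne
      apply le_antisymm hN₀X
      intro y hy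
      apply hD i hqi y hy
      obtain ⟨h', hh'def⟩ : ∃ h', h' = g ^ i := ⟨_, rfl⟩
      rw [← hh'def] at hxi ⊢
      have hh'N : h' ∈ Subgroup.normalizer (X : Set G) := by rw [hh'def]; exact zpow_mem hgN i
      obtain ⟨u, hudef⟩ : ∃ u, u = h' * y⁻¹ * h'⁻¹ := ⟨_, rfl⟩
      have hu : u ∈ X := by
        rw [hudef]; exact (Subgroup.mem_normalizer_iff.1 hh'N _).1 (inv_mem hy)
      have hwX : y * (x * h') * y⁻¹ * (x * h')⁻¹ ∈ X := by
        have e : y * (x * h') * y⁻¹ * (x * h')⁻¹ = y * x * u * x⁻¹ := by rw [hudef]; group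
        rw [e]
        exact mul_mem (mul_mem (mul_mem hy hx) hu) (inv_mem hx)
      have hwN : y * (x * h') * y⁻¹ * (x * h')⁻¹ ∈ N := by
        obtain ⟨a, ha⟩ := hXp ⟨_, hwX⟩
        have ha' : (y * (x * h') * y⁻¹ * (x * h')⁻¹) ^ p ^ a = 1 := by
          simpa using congrArg Subtype.val ha
        have hmem : (QuotientGroup.mk (⟨y, hXH hy⟩ * h * ⟨y, hXH hy⟩⁻¹ * h⁻¹ : ↥H) :
            ↥H ⧸ N.subgroupOf H) ∈ Cfsg.pPrimeCore p (↥H ⧸ N.subgroupOf H) := by
          have h1 := hOn.conj_mem _ hm (QuotientGroup.mk (⟨y, hXH hy⟩ : ↥H))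
          exact mul_mem h1 (inv_mem hm)
        have hpow1 : (QuotientGroup.mk (⟨y, hXH hy⟩ * h * ⟨y, hXH hy⟩⁻¹ * h⁻¹ : ↥H) :
            ↥H ⧸ N.subgroupOf H) ^ p ^ a = 1 := by
          rw [← QuotientGroup.mk_pow]
          have h2 : ((⟨y, hXH hy⟩ * h * ⟨y, hXH hy⟩⁻¹ * h⁻¹ : ↥H) ^ p ^ a : ↥H) = 1 := by
            apply Subtype.ext
            simp only [Subgroup.coe_pow, Subgroup.coe_mul, Subgroup.coe_inv, Subgroup.coe_one,
              hxi]
            exact ha'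
          rw [h2]
          rfl
        have h3 := hord _ hmem a hpow1
        rw [QuotientGroup.eq_one_iff, Subgroup.mem_subgroupOf] at h3
        simpa only [Subgroup.coe_mul, Subgroup.coe_inv, hxi] using h3
      have hwN₀ := hG1a _ hwX hwN
      have e1 : y * (x * h') * y⁻¹ * (x * h')⁻¹ =
          (y * (x * u * x⁻¹ * u⁻¹) * y⁻¹) * (y * u) := by rw [hudef]; group
      have h5 : y * (x * u * x⁻¹ * u⁻¹) * y⁻¹ ∈ N₀ := hN₀norm y hy _ (hF1 x hx u hu)
      have h6 : y * u ∈ N₀ := by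
        rw [e1] at hwN₀
        have h := mul_mem (inv_mem h5) hwN₀
        rwa [inv_mul_cancel_left] at h
      have h7 := inv_mem h6
      have e2 : (y * u)⁻¹ = h' * y * h'⁻¹ * y⁻¹ := by rw [hudef]; group
      rwa [e2] at h7
  -- the element of order the exponent
  obtain ⟨k, hk⟩ := hyp H (N.subgroupOf H) hO
  obtain ⟨x₀, hx₀X, hx₀N⟩ : ∃ x₀ ∈ X, x₀ ∉ N₀ := by
    by_contra hcon
    push Not at hcon
    exact hN₀ne (le_antisymm hN₀X hcon)
  have hpe : p ∣ Monoid.exponent (↥H ⧸ N.subgroupOf H) := by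
    have h1 : orderOf (QuotientGroup.mk (⟨x₀, hXH hx₀X⟩ : ↥H) : ↥H ⧸ N.subgroupOf H) = p := by
      apply orderOf_eq_prime
      · rw [← QuotientGroup.mk_pow, QuotientGroup.eq_one_iff, Subgroup.mem_subgroupOf]
        exact hN₀N (hF2 x₀ hx₀X)
      · intro h1
        rw [QuotientGroup.eq_one_iff, Subgroup.mem_subgroupOf] at h1
        exact hx₀N (hG1a x₀ hx₀X h1)
    rw [← h1]
    exact Monoid.order_dvd_exponent _
  have hqe : q ∣ Monoid.exponent (↥H ⧸ N.subgroupOf H) := by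
    haveI : Fact q.Prime := ⟨hq⟩
    have h1 : orderOf (QuotientGroup.mk (⟨g, hgH⟩ : ↥H) : ↥H ⧸ N.subgroupOf H) = q := by
      apply orderOf_eq_prime
      · rw [← QuotientGroup.mk_pow, QuotientGroup.eq_one_iff, Subgroup.mem_subgroupOf]
        have h := hgqN 1
        simpa using h
      · intro h1
        rw [QuotientGroup.eq_one_iff, Subgroup.mem_subgroupOf] at h1
        exact hgN' h1
    rw [← h1]
    exact Monoid.order_dvd_exponent _
  have hpq : p * q ∣ Monoid.exponent (↥H ⧸ N.subgroupOf H) :=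
    Nat.Coprime.mul_dvd_of_dvd_of_dvd ((Nat.coprime_primes hp hq).2 (Ne.symm hqp)) hpe hqe
  rw [← hk] at hpq
  obtain ⟨h, rfl⟩ := QuotientGroup.mk_surjective k
  obtain ⟨x, hx, i, hxi⟩ := hHmem (h : G) h.2
  by_cases hqi : (q : ℤ) ∣ i
  · have h1 : (QuotientGroup.mk h : ↥H ⧸ N.subgroupOf H) ^ p = 1 := by
      rw [← QuotientGroup.mk_pow, QuotientGroup.eq_one_iff, Subgroup.mem_subgroupOf,
        Subgroup.coe_pow, hxi]
      exact hi1 x hx i hqi
    have h2 := orderOf_dvd_of_pow_eq_one h1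
    have h3 : p * q ∣ p * 1 := by rw [mul_one]; exact hpq.trans h2
    have h4 : q ∣ 1 := Nat.dvd_of_mul_dvd_mul_left hp.pos h3
    exact hq.one_lt.ne' (Nat.dvd_one.1 h4)
  · have h1 : (QuotientGroup.mk h : ↥H ⧸ N.subgroupOf H) ^ q = 1 := by
      rw [← QuotientGroup.mk_pow, QuotientGroup.eq_one_iff, Subgroup.mem_subgroupOf,
        Subgroup.coe_pow, hxi]
      exact hi2 x hx i hqi
    have h2 := orderOf_dvd_of_pow_eq_one h1
    have h3 : q * p ∣ q * 1 := by rw [mul_one, mul_comm]; exact hpq.trans h2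
    have h4 : p ∣ 1 := Nat.dvd_of_mul_dvd_mul_left hq.pos h3
    exact hp.one_lt.ne' (Nat.dvd_one.1 h4)

end Cfsg.Agent.Helper3.ExpSec
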