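import Mathlib
import Cfsg.Prelude
import Cfsg.Agent.Helper3.FC16

set_option autoImplicit false

/-!
# Strongly closed subgroups with a strongly closed central series lie in every
Alperin–Goldschmidt subgroup; lifting strong control of fusion from a normal subgroup
-/

namespace Cfsg.Agent.Helper3.FC
open Cfsg.Agent

universe u

variable {G : Type u} [Group G]

/-- an element of order prime to `p` stabilizing a series of a `p`-group centralizes it. -/
theorem series_centralize {p : ℕ} [Fact p.Prime] (E : ℕ → Subgroup G) (hE0 : IsPGroup p (E 0))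
    (hEanti : ∀ i, E (i + 1) ≤ E i) (k : ℕ) (hEk : E k = ⊥) (x : G)
    (hx : ∀ i, ∀ d ∈ E i, x * d * x⁻¹ * d⁻¹ ∈ E (i + 1)) (hord : (orderOf x).Coprime p) :
    ∀ d ∈ E 0, x * d * x⁻¹ = d := by
  have hmono : ∀ i j, i ≤ j → E j ≤ E i := by
    intro i j hij
    induction hij with
    | refl => exact le_rfl
    | step _ ih => exact (hEanti _).trans ih
  have key : ∀ n j, k ≤ j + n → ∀ d ∈ E j, x * d * x⁻¹ = d := by
    intro n
    induction n with
    | zero =>
      intro j hj d hd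
      have h1 : d ∈ E k := hmono k j (by omega) hd
      rw [hEk, Subgroup.mem_bot] at h1
      rw [h1]; group
    | succ n ih =>
      intro j hj d hd
      have hq := ih (j + 1) (by omega)
      obtain ⟨e, he⟩ : ∃ e, e = x * d * x⁻¹ * d⁻¹ := ⟨_, rfl⟩
      have heE : e ∈ E (j + 1) := he ▸ hx j d hd
      have hxe : x * e * x⁻¹ = e := hq e heE
      have e3 : x * d * x⁻¹ = e * d := by rw [he]; group
      have hpow : ∀ m : ℕ, x ^ m * d * (x ^ m)⁻¹ = e ^ m * d := by
        intro m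
        induction m with
        | zero => simp
        | succ m ihm =>
          have e1 : x ^ (m + 1) * d * (x ^ (m + 1))⁻¹ = x * (x ^ m * d * (x ^ m)⁻¹) * x⁻¹ := by
            rw [pow_succ']; group
          have e2 : x * (e ^ m * d) * x⁻¹ = (x * e * x⁻¹) ^ m * (x * d * x⁻¹) := by
            rw [conj_pow]; group
          rw [e1, ihm, e2, hxe, e3, pow_succ, mul_assoc]
      have h2 : e ^ orderOf x = 1 := by
        have h := hpow (orderOf x)
        rw [pow_orderOf_eq_one, one_mul, inv_one, mul_one] at h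
        calc e ^ orderOf x = (e ^ orderOf x * d) * d⁻¹ := by group
          _ = d * d⁻¹ := by rw [← h]
          _ = 1 := mul_inv_cancel d
      obtain ⟨a, ha⟩ := hE0 ⟨e, hmono 0 (j + 1) (by omega) heE⟩
      have ha' : e ^ p ^ a = 1 := by simpa using congrArg Subtype.val ha
      have hc : (orderOf e).Coprime p :=
        Nat.Coprime.coprime_dvd_left (orderOf_dvd_of_pow_eq_one h2) hord
      have he1 : e = 1 := Helper6.eq_one_of_pow_of_coprime ha' hc
      rw [e3, he1, one_mul]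
  exact key k 0 (by omega)

/-- the stabilizer of a series in `N_G(D)`. -/
def seriesStab (D : Subgroup G) (E : ℕ → Subgroup G)
    (hEinv : ∀ i, ∀ m ∈ Subgroup.normalizer (D : Set G), ∀ d ∈ E i, m * d * m⁻¹ ∈ E i) :
    Subgroup ↥(Subgroup.normalizer (D : Set G)) where
  carrier := {x | ∀ i, ∀ d ∈ E i, (x : G) * d * (x : G)⁻¹ * d⁻¹ ∈ E (i + 1)}
  mul_mem' := by
    intro x y hx hy i d hd
    have h1 := hy i d hd
    have h2 := hEinv (i + 1) (x : G) x.2 _ h1
    have h3 := hx i d hd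
    have e : ((x * y : ↥(Subgroup.normalizer (D : Set G))) : G) * d *
        ((x * y : ↥(Subgroup.normalizer (D : Set G))) : G)⁻¹ * d⁻¹ =
        ((x : G) * ((y : G) * d * (y : G)⁻¹ * d⁻¹) * (x : G)⁻¹) *
          ((x : G) * d * (x : G)⁻¹ * d⁻¹) := by
      rw [Subgroup.coe_mul]; group
    rw [e]
    exact mul_mem h2 h3
  one_mem' := by
    intro i d hd
    simp
  inv_mem' := by
    intro x hx i d hd
    have h1 := hx i d hd
    have h2 := hEinv (i + 1) ((x : G)⁻¹) (inv_mem x.2) _ (inv_mem h1)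
    have e : ((x⁻¹ : ↥(Subgroup.normalizer (D : Set G))) : G) * d *
        ((x⁻¹ : ↥(Subgroup.normalizer (D : Set G))) : G)⁻¹ * d⁻¹ =
        (x : G)⁻¹ * ((x : G) * d * (x : G)⁻¹ * d⁻¹)⁻¹ * ((x : G)⁻¹)⁻¹ := by
      rw [Subgroup.coe_inv]; group
    rw [e]
    exact h2

theorem mem_seriesStab {D : Subgroup G} {E : ℕ → Subgroup G}
    {hEinv : ∀ i, ∀ m ∈ Subgroup.normalizer (D : Set G), ∀ d ∈ E i, m * d * m⁻¹ ∈ E i}
    {x : ↥(Subgroup.normalizer (D : Set G))} :
    x ∈ seriesStab D E hEinv ↔ ∀ i, ∀ d ∈ E i, (x : G) * d * (x : G)⁻¹ * d⁻¹ ∈ E (i + 1) :=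
  Iff.rfl

theorem seriesStab_normal (D : Subgroup G) (E : ℕ → Subgroup G)
    (hEinv : ∀ i, ∀ m ∈ Subgroup.normalizer (D : Set G), ∀ d ∈ E i, m * d * m⁻¹ ∈ E i) :
    (seriesStab D E hEinv).Normal := by
  constructor
  intro x hx m
  rw [mem_seriesStab] at hx ⊢
  intro i d hd
  have hd' : (m : G)⁻¹ * d * ((m : G)⁻¹)⁻¹ ∈ E i := hEinv i _ (inv_mem m.2) d hd
  have h1 := hx i _ hd'
  have h2 := hEinv (i + 1) (m : G) m.2 _ h1
  have e : ((m * x * m⁻¹ : ↥(Subgroup.normalizer (D : Set G))) : G) * d *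
      ((m * x * m⁻¹ : ↥(Subgroup.normalizer (D : Set G))) : G)⁻¹ * d⁻¹ =
      (m : G) * ((x : G) * ((m : G)⁻¹ * d * ((m : G)⁻¹)⁻¹) * (x : G)⁻¹ *
        ((m : G)⁻¹ * d * ((m : G)⁻¹)⁻¹)⁻¹) * (m : G)⁻¹ := by
    simp only [Subgroup.coe_mul, Subgroup.coe_inv]; group
  rw [e]
  exact h2

/-- the stabilizer of an invariant series of an Alperin–Goldschmidt subgroup lies in
`O_{p',p}(N_G(D))`. -/
theorem seriesStab_le [Finite G] {p : ℕ} [Fact p.Prime] (P : Sylow p G) (D : Subgroup G)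
    (hD : D ∈ AGfam p (P : Subgroup G)) (E : ℕ → Subgroup G) (hE0 : E 0 = D)
    (hEanti : ∀ i, E (i + 1) ≤ E i) (k : ℕ) (hEk : E k = ⊥)
    (hEinv : ∀ i, ∀ m ∈ Subgroup.normalizer (D : Set G), ∀ d ∈ E i, m * d * m⁻¹ ∈ E i) :
    seriesStab D E hEinv ≤ Cfsg.pPrimePCore p ↥(Subgroup.normalizer (D : Set G)) := by
  have hpp : p.Prime := Fact.out
  have hDp : IsPGroup p D := P.2.to_le hD.1
  obtain ⟨hCle, ⟨hK'le, _, hcomm, hdisj, hsup⟩, _⟩ := agfam_props P D hD
  haveI hKn := Helper4.pPrimeCore_normal p ↥(Subgroup.normalizer (D : Set G))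
  haveI hUn := seriesStab_normal D E hEinv
  -- p'-elements of the stabilizer lie in O_{p'}
  have hp' : ∀ x ∈ seriesStab D E hEinv, (orderOf x).Coprime p →
      x ∈ Cfsg.pPrimeCore p ↥(Subgroup.normalizer (D : Set G)) := by
    intro x hx hord
    have hord' : (orderOf (x : G)).Coprime p := by rwa [Subgroup.orderOf_coe]
    have hcz : ∀ d ∈ E 0, (x : G) * d * (x : G)⁻¹ = d :=
      series_centralize E (hE0 ▸ hDp) hEanti k hEk (x : G) hx hord'
    have hxC : (x : G) ∈ Subgroup.centralizer (D : Set G) := by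
      refine Subgroup.mem_centralizer_iff.2 ?_
      intro d hd
      have h := hcz d (hE0 ▸ hd)
      calc d * (x : G) = ((x : G) * d * (x : G)⁻¹) * (x : G) := by rw [h]
        _ = (x : G) * d := by group
    have hxO := hCle hxC
    rw [← hsup, sup_comm] at hxO
    have hK'N : (Cfsg.pPrimeCore p ↥(Subgroup.normalizer (D : Set G))).map
        (Subgroup.normalizer (D : Set G)).subtype ≤ Subgroup.normalizer (D : Set G) := by
      rintro _ ⟨k, _, rfl⟩
      exact k.2
    obtain ⟨d, hd, k', hk', hxe⟩ := Helper3.mem_sup_of_le_normalizer_right D _ hK'N hxO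
    obtain ⟨n, hn⟩ : ∃ n, n = orderOf (x : G) := ⟨_, rfl⟩
    have hcomm' : k' * d = d * k' := hcomm k' hk' d hd
    have h1 : (d * k') ^ n = d ^ n * k' ^ n :=
      Commute.mul_pow (show Commute d k' from hcomm'.symm) n
    have h2 : (d * k') ^ n = 1 := by rw [hxe, hn]; exact pow_orderOf_eq_one _
    have h4 : d ^ n = (k' ^ n)⁻¹ := eq_inv_of_mul_eq_one_left (h1 ▸ h2)
    have h5 : d ^ n ∈ (Cfsg.pPrimeCore p ↥(Subgroup.normalizer (D : Set G))).map
        (Subgroup.normalizer (D : Set G)).subtype ⊓ D :=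
      Subgroup.mem_inf.2 ⟨by rw [h4]; exact Subgroup.inv_mem _ (Subgroup.pow_mem _ hk' n),
        Subgroup.pow_mem _ hd n⟩
    rw [hdisj, Subgroup.mem_bot] at h5
    obtain ⟨a, ha⟩ := hDp ⟨d, hd⟩
    have ha' : d ^ p ^ a = 1 := by simpa using congrArg Subtype.val ha
    have hc : (orderOf d).Coprime p :=
      Nat.Coprime.coprime_dvd_left (orderOf_dvd_of_pow_eq_one h5) (hn ▸ hord')
    have hd1 : d = 1 := Helper6.eq_one_of_pow_of_coprime ha' hc
    rw [hd1, one_mul] at hxe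
    obtain ⟨k'', hk'', hk''e⟩ := hk'
    have : x = k'' := Subtype.ext (hk''e.trans hxe).symm
    rw [this]
    exact hk''
  have hpg : IsPGroup p ↥((seriesStab D E hEinv).map
      (QuotientGroup.mk' (Cfsg.pPrimeCore p ↥(Subgroup.normalizer (D : Set G))))) := by
    rintro ⟨z, hz⟩
    obtain ⟨u, hu, rfl⟩ := hz
    have hpos : 0 < orderOf u := orderOf_pos u
    obtain ⟨a, m, hm, hnm⟩ := Nat.exists_eq_pow_mul_and_not_dvd hpos.ne' p hpp.ne_one
    refine ⟨a, ?_⟩
    apply Subtype.ext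
    have hua : u ^ p ^ a ∈ seriesStab D E hEinv := pow_mem hu _
    have hord : (orderOf (u ^ p ^ a)).Coprime p := by
      have h1 : (u ^ p ^ a) ^ m = 1 := by rw [← pow_mul, ← hnm]; exact pow_orderOf_eq_one u
      have h2 : orderOf (u ^ p ^ a) ∣ m := orderOf_dvd_of_pow_eq_one h1
      have h3 : m.Coprime p := ((Nat.Prime.coprime_iff_not_dvd hpp).2 hm).symm
      exact Nat.Coprime.coprime_dvd_left h2 h3
    have h4 := hp' _ hua hord
    have h5 : QuotientGroup.mk' (Cfsg.pPrimeCore p ↥(Subgroup.normalizer (D : Set G)))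
        (u ^ p ^ a) = 1 := (QuotientGroup.eq_one_iff _).2 h4
    rw [map_pow] at h5
    simpa using h5
  have hmapn : ((seriesStab D E hEinv).map
      (QuotientGroup.mk' (Cfsg.pPrimeCore p ↥(Subgroup.normalizer (D : Set G))))).Normal :=
    Subgroup.Normal.map hUn _ (QuotientGroup.mk'_surjective _)
  have hle := Helper5.le_pCore _ hmapn hpg
  intro u hu
  rw [Helper3.mem_pPrimePCore_iff]
  exact hle ⟨u, hu, rfl⟩

/-- a normal subgroup `W` of `P` with a strongly closed central series lies in every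
Alperin–Goldschmidt subgroup. -/
theorem le_of_central_series [Finite G] {p : ℕ} [Fact p.Prime] (P : Sylow p G) (D : Subgroup G)
    (hD : D ∈ AGfam p (P : Subgroup G)) (W : Subgroup G) (hWP : W ≤ P)
    (hWn : ∀ x ∈ (P : Subgroup G), ∀ w ∈ W, x * w * x⁻¹ ∈ W)
    (L : ℕ → Subgroup G) (hL0 : L 0 = W) (hLs : ∀ i, ⁅L i, W⁆ ≤ L (i + 1))
    (hLanti : ∀ i, L (i + 1) ≤ L i) (k : ℕ) (hLk : L k = ⊥)
    (hLsc : ∀ i, ∀ w ∈ L i, ∀ g : G, g * w * g⁻¹ ∈ (P : Subgroup G) → g * w * g⁻¹ ∈ L i) :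
    W ≤ D := by
  have hD' := hD
  obtain ⟨hDP, hfn, hcen, hrad⟩ := hD
  have hDp : IsPGroup p D := P.2.to_le hDP
  obtain ⟨E, hE0, hEs⟩ : ∃ E : ℕ → Subgroup G, E 0 = D ∧ ∀ i, E (i + 1) = D ⊓ L i :=
    ⟨fun i => Nat.casesOn i D (fun j => D ⊓ L j), rfl, fun i => rfl⟩
  have hEanti : ∀ i, E (i + 1) ≤ E i := by
    intro i
    cases i with
    | zero => rw [hEs, hE0]; exact inf_le_left
    | succ j => rw [hEs, hEs]; exact inf_le_inf_left _ (hLanti j)
  have hEk : E (k + 1) = ⊥ := by rw [hEs, hLk, inf_bot_eq]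
  have hEinv : ∀ i, ∀ m ∈ Subgroup.normalizer (D : Set G), ∀ d ∈ E i, m * d * m⁻¹ ∈ E i := by
    intro i m hm d hd
    cases i with
    | zero => rw [hE0] at hd ⊢; exact (Subgroup.mem_normalizer_iff.1 hm d).1 hd
    | succ j =>
      rw [hEs] at hd ⊢
      have h1 : m * d * m⁻¹ ∈ D := (Subgroup.mem_normalizer_iff.1 hm d).1 hd.1
      exact ⟨h1, hLsc j d hd.2 m (hDP h1)⟩
  have hstab := seriesStab_le P D hD' E hE0 hEanti (k + 1) hEk hEinv
  -- `N_W(D) ≤ D`
  have hNW : ∀ u ∈ W, u ∈ Subgroup.normalizer (D : Set G) → u ∈ D := by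
    intro u huW huN
    have h1 : (⟨u, huN⟩ : ↥(Subgroup.normalizer (D : Set G))) ∈ seriesStab D E hEinv := by
      rw [mem_seriesStab]
      intro i d hd
      show u * d * u⁻¹ * d⁻¹ ∈ E (i + 1)
      cases i with
      | zero =>
        rw [hE0] at hd
        rw [hEs, hL0]
        refine ⟨?_, ?_⟩
        · exact D.mul_mem ((Subgroup.mem_normalizer_iff.1 huN d).1 hd) (D.inv_mem hd)
        · have h2 := hWn d (hDP hd) u⁻¹ (W.inv_mem huW)
          have e : u * d * u⁻¹ * d⁻¹ = u * (d * u⁻¹ * d⁻¹) := by group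
          rw [e]
          exact W.mul_mem huW h2
      | succ j =>
        rw [hEs] at hd
        rw [hEs]
        refine ⟨D.mul_mem ((Subgroup.mem_normalizer_iff.1 huN d).1 hd.1) (D.inv_mem hd.1), ?_⟩
        apply hLs j
        rw [Subgroup.commutator_comm]
        have h3 := Subgroup.commutator_mem_commutator huW hd.2
        rwa [commutatorElement_def] at h3
    have h2 := hstab h1
    have h3 : u ∈ Opp p D := ⟨⟨u, huN⟩, h2, rfl⟩
    exact hrad ⟨⟨hWP huW, huN⟩, h3⟩
  -- normalizer growth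
  by_contra hne
  have hWD : W ⊔ D ≤ P := sup_le hWP hDP
  have hXp : IsPGroup p ↥(W ⊔ D) := P.2.to_le hWD
  have hneq : D ≠ W ⊔ D := by
    intro h
    apply hne
    have h2 : W ≤ W ⊔ D := le_sup_left
    rwa [← h] at h2
  obtain ⟨y, hyX, hyN, hyD⟩ :=
    Helper5.exists_mem_normalizer_not_mem (W ⊔ D) D hXp le_sup_right hneq
  have hDW : D ≤ Subgroup.normalizer (W : Set G) := by
    intro d hd
    apply mem_normalizer_of_cj_le
    rintro _ ⟨w, hw, rfl⟩
    exact hWn d (hDP hd) w hw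
  obtain ⟨w, hw, d, hd, rfl⟩ := Helper3.mem_sup_of_le_normalizer_right W D hDW hyX
  apply hyD
  have hwN : w ∈ Subgroup.normalizer (D : Set G) := by
    have h := mul_mem hyN (inv_mem (Subgroup.le_normalizer hd))
    simpa using h
  exact D.mul_mem (hNW w hw hwN) hd

end Cfsg.Agent.Helper3.FC
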