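import Mathlib
import Cfsg.Prelude
import Cfsg.Agent.Helper3.FC17

set_option autoImplicit false

/-!
# Lifting strong control of fusion from a normal subgroup
-/

namespace Cfsg.Agent.Helper3.FC
open Cfsg.Agent

universe u

variable {G : Type u} [Group G]

theorem strong_control_lift [Finite G] {p : ℕ} [Fact p.Prime] (N : Subgroup G) [hNn : N.Normal]
    (P : Sylow p G) (V : Subgroup G) (hV : V ≤ (P : Subgroup G) ⊓ N)
    (hctrl : ∀ A : Subgroup G, A ≤ (P : Subgroup G) ⊓ N → ∀ n ∈ N,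
      cj n A ≤ (P : Subgroup G) ⊓ N →
      ∃ h ∈ N ⊓ Subgroup.normalizer (V : Set G), ∃ c ∈ N ⊓ Subgroup.centralizer (A : Set G),
        n = h * c)
    (W : Subgroup G)
    (hW : W = Subgroup.closure (⋃ x ∈ Subgroup.normalizer
      (((P : Subgroup G) ⊓ N : Subgroup G) : Set G), ((cj x V : Subgroup G) : Set G))) :
    ∀ A : Subgroup G, A ≤ (P : Subgroup G) → ∀ g : G, cj g A ≤ (P : Subgroup G) →
      ∃ h ∈ Subgroup.normalizer (W : Set G), ∃ c ∈ Subgroup.centralizer (A : Set G),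
        g = h * c := by
  obtain ⟨Q, hQ⟩ : ∃ Q, Q = (P : Subgroup G) ⊓ N := ⟨_, rfl⟩
  rw [← hQ] at hV hctrl hW
  have hQP : Q ≤ P := hQ ▸ inf_le_left
  have hQN : Q ≤ N := hQ ▸ inf_le_right
  -- basic facts on `W`
  have hVW : ∀ x ∈ Subgroup.normalizer (Q : Set G), cj x V ≤ W := by
    intro x hx
    rw [hW]
    exact fun z hz => Subgroup.subset_closure (Set.mem_iUnion₂.2 ⟨x, hx, hz⟩)
  have hWle : ∀ H : Subgroup G, (∀ x ∈ Subgroup.normalizer (Q : Set G), cj x V ≤ H) →
      W ≤ H := by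
    intro H hH
    rw [hW, Subgroup.closure_le]
    exact Set.iUnion₂_subset hH
  have hVQ : ∀ x ∈ Subgroup.normalizer (Q : Set G), cj x V ≤ Q := by
    intro x hx
    have h := cj_mono x hV
    rwa [cj_norm hx] at h
  have hWQ : W ≤ Q := hWle Q hVQ
  have hNQW : Subgroup.normalizer (Q : Set G) ≤ Subgroup.normalizer (W : Set G) := by
    intro x hx
    apply mem_normalizer_of_cj_le
    rw [cj_le_iff]
    apply hWle
    intro y hy
    rw [← cj_le_iff, ← cj_mul]
    exact hVW _ (mul_mem hx hy)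
  have hPNQ : (P : Subgroup G) ≤ Subgroup.normalizer (Q : Set G) := by
    intro x hx
    apply mem_normalizer_of_cj_le
    rw [hQ, cj_inf, cj_normal x N, cj_norm (Subgroup.le_normalizer hx)]
  -- the hypothesis for the conjugates of `V`
  have hctrlx : ∀ x ∈ Subgroup.normalizer (Q : Set G), ∀ A : Subgroup G, A ≤ Q → ∀ n ∈ N,
      cj n A ≤ Q →
      ∃ h ∈ N ⊓ Subgroup.normalizer ((cj x V : Subgroup G) : Set G),
        ∃ c ∈ N ⊓ Subgroup.centralizer (A : Set G), n = h * c := by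
    intro x hx A hA n hn hnA
    have hx' : x⁻¹ ∈ Subgroup.normalizer (Q : Set G) := inv_mem hx
    have hA' : cj x⁻¹ A ≤ Q := by
      have h := cj_mono x⁻¹ hA
      rwa [cj_norm hx'] at h
    have hn' : x⁻¹ * n * x ∈ N := by
      have h := hNn.conj_mem n hn x⁻¹
      simpa using h
    have hnA' : cj (x⁻¹ * n * x) (cj x⁻¹ A) ≤ Q := by
      rw [← cj_mul]
      have e : x⁻¹ * n * x * x⁻¹ = x⁻¹ * n := by group
      rw [e, cj_mul]
      have h := cj_mono x⁻¹ hnA
      rwa [cj_norm hx'] at h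
    obtain ⟨h, hh, c, hc, he⟩ := hctrl _ hA' _ hn' hnA'
    refine ⟨x * h * x⁻¹, ⟨hNn.conj_mem h hh.1 x, ?_⟩, x * c * x⁻¹,
      ⟨hNn.conj_mem c hc.1 x, ?_⟩, ?_⟩
    · rw [← cj_normalizer]
      exact mem_cj_of_mem hh.2
    · have h1 : x * c * x⁻¹ ∈ cj x (Subgroup.centralizer ((cj x⁻¹ A : Subgroup G) : Set G)) :=
        mem_cj_of_mem hc.2
      rwa [cj_centralizer, cj_cj_inv] at h1
    · calc n = x * (x⁻¹ * n * x) * x⁻¹ := by group
        _ = x * (h * c) * x⁻¹ := by rw [he]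
        _ = x * h * x⁻¹ * (x * c * x⁻¹) := by group
  -- simultaneous control for finitely many conjugates
  have hfin : ∀ s : Finset G, (∀ x ∈ s, x ∈ Subgroup.normalizer (Q : Set G)) →
      ∀ A : Subgroup G, A ≤ Q → ∀ n ∈ N, cj n A ≤ Q →
      ∃ h ∈ N, (∀ x ∈ s, h ∈ Subgroup.normalizer ((cj x V : Subgroup G) : Set G)) ∧
        ∃ c ∈ N ⊓ Subgroup.centralizer (A : Set G), n = h * c := by
    classical
    intro s
    induction s using Finset.induction_on with
    | empty =>
      intro _ A hA n hn hnA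
      exact ⟨n, hn, fun x hx => absurd hx (Finset.notMem_empty x), 1, one_mem _,
        (mul_one n).symm⟩
    | insert x s hxs ih =>
      intro hs A hA n hn hnA
      obtain ⟨h, hh, hhs, c, hc, he⟩ :=
        ih (fun y hy => hs y (Finset.mem_insert_of_mem hy)) A hA n hn hnA
      have hx : x ∈ Subgroup.normalizer (Q : Set G) := hs x (Finset.mem_insert_self x s)
      obtain ⟨B, hB⟩ : ∃ B : Subgroup G, B = A ⊔ ⨆ y ∈ s, cj y V := ⟨_, rfl⟩
      have hBQ : B ≤ Q := by
        rw [hB]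
        refine sup_le hA (iSup₂_le ?_)
        intro y hy
        exact hVQ y (hs y (Finset.mem_insert_of_mem hy))
      have hhA : cj h A = cj n A := by
        rw [he, cj_mul, cj_cent hc.2]
      have hhB : cj h B ≤ Q := by
        rw [cj_le_iff, hB]
        refine sup_le ?_ (iSup₂_le ?_)
        · rw [← cj_le_iff, hhA]; exact hnA
        · intro y hy
          rw [← cj_le_iff, cj_norm (hhs y hy)]
          exact hVQ y (hs y (Finset.mem_insert_of_mem hy))
      obtain ⟨h', hh', c', hc', he'⟩ := hctrlx x hx B hBQ h hh hhB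
      have hAB : A ≤ B := hB ▸ le_sup_left
      have hc'A : c' ∈ Subgroup.centralizer (A : Set G) := Subgroup.centralizer_le hAB hc'.2
      refine ⟨h', hh'.1, ?_, c' * c, ⟨mul_mem hc'.1 hc.1, mul_mem hc'A hc.2⟩, ?_⟩
      · intro y hy
        rcases Finset.mem_insert.1 hy with rfl | hy
        · exact hh'.2
        · have hyB : cj y V ≤ B := by
            rw [hB]
            exact le_sup_of_le_right (le_iSup₂ (f := fun y (_ : y ∈ s) => cj y V) y hy)
          have h1 : c' ∈ Subgroup.normalizer ((cj y V : Subgroup G) : Set G) :=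
            Subgroup.centralizer_le_normalizer _ (Subgroup.centralizer_le hyB hc'.2)
          have h2 : h' = h * c'⁻¹ := by rw [he']; group
          rw [h2]
          exact mul_mem (hhs y hy) (inv_mem h1)
      · rw [he, he', mul_assoc]
  have hctrlW : ∀ A : Subgroup G, A ≤ Q → ∀ n ∈ N, cj n A ≤ Q →
      ∃ h ∈ N ⊓ Subgroup.normalizer (W : Set G), ∃ c ∈ N ⊓ Subgroup.centralizer (A : Set G),
        n = h * c := by
    classical
    intro A hA n hn hnA
    haveI : Fintype G := Fintype.ofFinite G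
    obtain ⟨h, hh, hhs, c, hc, he⟩ :=
      hfin (Finset.univ.filter (fun x => x ∈ Subgroup.normalizer (Q : Set G)))
        (fun x hx => (Finset.mem_filter.1 hx).2) A hA n hn hnA
    refine ⟨h, ⟨hh, ?_⟩, c, hc, he⟩
    apply mem_normalizer_of_cj_le
    rw [cj_le_iff]
    apply hWle
    intro x hx
    rw [← cj_le_iff, cj_norm (hhs x (Finset.mem_filter.2 ⟨Finset.mem_univ x, hx⟩))]
    exact hVW x hx
  -- Frattini
  have hfrat : ∀ g : G, ∃ x ∈ Subgroup.normalizer (Q : Set G), ∃ n ∈ N, g = x * n := by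
    intro g
    have h1 := Helper5.normalizer_inf_sup_eq_top P N
    rw [← hQ] at h1
    have h3 : g ∈ ((Subgroup.normalizer (Q : Set G) ⊔ N : Subgroup G) : Set G) := by
      rw [h1]; exact Subgroup.mem_top g
    rw [Subgroup.mul_normal] at h3
    obtain ⟨x, hx, n, hn, e⟩ := Set.mem_mul.1 h3
    exact ⟨x, hx, n, hn, e.symm⟩
  -- invariant subgroups of `W` are strongly closed
  have hsc : ∀ L : Subgroup G, L ≤ W →
      (∀ h ∈ Subgroup.normalizer (W : Set G), ∀ w ∈ L, h * w * h⁻¹ ∈ L) →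
      ∀ w ∈ L, ∀ g : G, g * w * g⁻¹ ∈ (P : Subgroup G) → g * w * g⁻¹ ∈ L := by
    intro L hLW hLinv w hw g hg
    obtain ⟨x, hx, n, hn, rfl⟩ := hfrat g
    have hwQ : w ∈ Q := hWQ (hLW hw)
    have hwN : w ∈ N := hQN hwQ
    have h1 : x * n * w * (x * n)⁻¹ ∈ Q := by
      rw [hQ]
      exact ⟨hg, hNn.conj_mem w hwN (x * n)⟩
    have h2 : n * w * n⁻¹ ∈ Q := by
      have h := (Subgroup.mem_normalizer_iff.1 (inv_mem hx) _).1 h1
      have e : x⁻¹ * (x * n * w * (x * n)⁻¹) * x⁻¹⁻¹ = n * w * n⁻¹ := by group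
      rwa [e] at h
    have h3 : cj n (Subgroup.zpowers w) ≤ Q := by
      rintro _ ⟨a, ha, rfl⟩
      obtain ⟨k, rfl⟩ := Subgroup.mem_zpowers_iff.1 ha
      show n * w ^ k * n⁻¹ ∈ Q
      rw [← conj_zpow]
      exact zpow_mem h2 k
    obtain ⟨h, hh, c, hc, rfl⟩ := hctrlW (Subgroup.zpowers w)
      (by rw [Subgroup.zpowers_le]; exact hwQ) n hn h3
    have hcw : w * c = c * w := (Subgroup.mem_centralizer_iff.1 hc.2) w (Subgroup.mem_zpowers w)
    have h4 : h * w * h⁻¹ ∈ L := hLinv h hh.2 w hw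
    have h5 := hLinv x (hNQW hx) _ h4
    have e : x * (h * c) * w * (x * (h * c))⁻¹ = x * (h * w * h⁻¹) * x⁻¹ := by
      have h6 : c * w * c⁻¹ = w := by rw [← hcw]; group
      calc x * (h * c) * w * (x * (h * c))⁻¹ = x * (h * (c * w * c⁻¹) * h⁻¹) * x⁻¹ := by group
        _ = _ := by rw [h6]
    rw [e]
    exact h5
  -- the lower central series of `W`
  have hWp : IsPGroup p ↥W := P.2.to_le (hWQ.trans hQP)
  have hnil : Group.IsNilpotent ↥W := hWp.isNilpotent
  obtain ⟨L, hL0, hLs, k, hLk⟩ : ∃ L : ℕ → Subgroup G, L 0 = W ∧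
      (∀ i, L (i + 1) = ⁅L i, W⁆) ∧ ∃ k, L k = ⊥ :=
    ⟨W.lowerCentralSeries, rfl, fun i => rfl, (Subgroup.isNilpotent_iff_lowerCentralSeries W).1 hnil⟩
  have hLinv : ∀ i, ∀ h ∈ Subgroup.normalizer (W : Set G), cj h (L i) ≤ L i := by
    intro i
    induction i with
    | zero => intro h hh; rw [hL0, cj_norm hh]
    | succ i ih =>
      intro h hh
      rw [hLs, cj_comm, cj_norm hh]
      exact Subgroup.commutator_mono (ih h hh) le_rfl
  have hLinv' : ∀ i, ∀ h ∈ Subgroup.normalizer (W : Set G), ∀ w ∈ L i, h * w * h⁻¹ ∈ L i :=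
    fun i h hh w hw => hLinv i h hh (mem_cj_of_mem hw)
  have hLanti : ∀ i, L (i + 1) ≤ L i := by
    intro i
    rw [hLs, Subgroup.commutator_le]
    intro l hl w hw
    rw [commutatorElement_def]
    have h1 := hLinv' i w (Subgroup.le_normalizer hw) l⁻¹ (inv_mem hl)
    have e : l * w * l⁻¹ * w⁻¹ = l * (w * l⁻¹ * w⁻¹) := by group
    rw [e]
    exact mul_mem hl h1
  have hLW : ∀ i, L i ≤ W := by
    intro i
    induction i with
    | zero => rw [hL0]
    | succ i ih => exact (hLanti i).trans ih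
  have hLsc : ∀ i, ∀ w ∈ L i, ∀ g : G, g * w * g⁻¹ ∈ (P : Subgroup G) → g * w * g⁻¹ ∈ L i :=
    fun i => hsc (L i) (hLW i) (hLinv' i)
  have hweak : ∀ g : G, cj g W ≤ P → g ∈ Subgroup.normalizer (W : Set G) := by
    intro g hg
    apply mem_normalizer_of_cj_le
    rintro _ ⟨w, hw, rfl⟩
    have h := hLsc 0 w (hL0 ▸ hw) g (hg (mem_cj_of_mem hw))
    rw [hL0] at h
    exact h
  have hWD : ∀ D ∈ AGfam p (P : Subgroup G), W ≤ D := by
    intro D hD
    exact le_of_central_series P D hD W (hWQ.trans hQP)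
      (fun x hx w hw => (Subgroup.mem_normalizer_iff.1 (hNQW (hPNQ hx)) w).1 hw)
      L hL0 (fun i => (hLs i).ge) hLanti k hLk hLsc
  have key : ∀ (A : Subgroup G) (g : G),
      AG (AGfam p (P : Subgroup G)) (P : Subgroup G) A g →
      ∃ h ∈ Subgroup.normalizer (W : Set G), ∃ c ∈ Subgroup.centralizer (A : Set G),
        g = h * c := by
    intro A g hAG
    induction hAG with
    | cent hA' hc => exact ⟨1, one_mem _, _, hc, (one_mul _).symm⟩
    | @step g s D hD h0 hle hs ih =>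
      obtain ⟨h, hh, c, hc, rfl⟩ := ih
      have hWD' := hWD D hD
      have hsW : s ∈ Subgroup.normalizer (W : Set G) := by
        apply hweak
        have h1 := cj_mono s hWD'
        rw [cj_norm hs] at h1
        exact h1.trans hD.1
      exact ⟨s * h, mul_mem hsW hh, c, hc, (mul_assoc _ _ _).symm⟩
  exact fun A hA g hg => key A g (ag_main P A hA g hg)

end Cfsg.Agent.Helper3.FC
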