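import Mathlib
import Cfsg.Prelude
import Cfsg.Agent.Helper3.FC17
import Cfsg.Agent.Helper6.FrobNPC

set_option autoImplicit false

/-!
# A Frobenius-type normal `p`-complement criterion relative to a strongly closed subgroup
-/

namespace Cfsg.Agent.Helper3.FC
open Cfsg.Agent

universe u

variable {G : Type u} [Group G]

/-- if `S` controls strong fusion in itself then `G` satisfies the Frobenius condition. -/
theorem frobCond_of_self_control [Finite G] {p : ℕ} [Fact p.Prime] (S : Sylow p G)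
    (h : ∀ A : Subgroup G, A ≤ S → ∀ g, cj g A ≤ S →
      ∃ s ∈ (S : Subgroup G), ∃ c ∈ Subgroup.centralizer (A : Set G), g = s * c) :
    Helper6.FrobCond p G := by
  intro X hX g hg hcop
  obtain ⟨a, ha⟩ := Helper5.exists_conj_le_sylow S X hX
  have hXS : cj a⁻¹ X ≤ S := cj_le_iff.2 (by rw [inv_inv]; exact ha)
  obtain ⟨g', hg'⟩ : ∃ g', g' = a⁻¹ * g * a⁻¹⁻¹ := ⟨_, rfl⟩
  have hord : orderOf g' = orderOf g := by
    rw [hg']; exact MulEquiv.orderOf_eq (MulAut.conj a⁻¹) g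
  have hg'N : cj g' (cj a⁻¹ X) = cj a⁻¹ X := by
    rw [← cj_mul, hg']
    have e : a⁻¹ * g * a⁻¹⁻¹ * a⁻¹ = a⁻¹ * g := by group
    rw [e, cj_mul, cj_norm hg]
  obtain ⟨s, hs, c, hc, he⟩ := h _ hXS g' (by rw [hg'N]; exact hXS)
  have hcz : g' ∈ Subgroup.centralizer ((cj a⁻¹ X : Subgroup G) : Set G) := by
    refine Subgroup.mem_centralizer_iff.2 ?_
    intro y hy
    have hconj : ∀ y ∈ cj a⁻¹ X, g' * y * g'⁻¹ = s * y * s⁻¹ := by
      intro y hy
      have h1 := (Subgroup.mem_centralizer_iff.1 hc) y hy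
      rw [he]
      calc s * c * y * (s * c)⁻¹ = s * (c * y) * c⁻¹ * s⁻¹ := by group
        _ = s * (y * c) * c⁻¹ * s⁻¹ := by rw [h1]
        _ = s * y * s⁻¹ := by group
    have hmem : ∀ y ∈ cj a⁻¹ X, s * y * s⁻¹ ∈ cj a⁻¹ X := by
      intro y hy
      have h1 : g' * y * g'⁻¹ ∈ cj g' (cj a⁻¹ X) := mem_cj_of_mem hy
      rw [hg'N, hconj y hy] at h1
      exact h1
    have hpow : ∀ n : ℕ, ∀ y ∈ cj a⁻¹ X,
        g' ^ n * y * (g' ^ n)⁻¹ = s ^ n * y * (s ^ n)⁻¹ := by
      intro n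
      induction n with
      | zero => intro y hy; simp
      | succ n ih =>
        intro y hy
        have e1 : g' ^ (n + 1) * y * (g' ^ (n + 1))⁻¹ =
            g' ^ n * (g' * y * g'⁻¹) * (g' ^ n)⁻¹ := by
          rw [pow_succ]; group
        have e2 : s ^ (n + 1) * y * (s ^ (n + 1))⁻¹ = s ^ n * (s * y * s⁻¹) * (s ^ n)⁻¹ := by
          rw [pow_succ]; group
        rw [e1, e2, hconj y hy]
        exact ih _ (hmem y hy)
    obtain ⟨k, hk⟩ := S.2 ⟨s, hs⟩
    have hk' : s ^ p ^ k = 1 := by simpa using congrArg Subtype.val hk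
    have h2 := hpow (p ^ k) y hy
    rw [hk', one_mul, inv_one, mul_one] at h2
    have hcop' : (p ^ k).Coprime (orderOf g') := by
      rw [hord]; exact Nat.Coprime.pow_left k hcop.symm
    obtain ⟨b, hb⟩ := exists_pow_eq_self_of_coprime hcop'
    have h3 : Commute (g' ^ p ^ k) y := by
      show g' ^ p ^ k * y = y * g' ^ p ^ k
      calc g' ^ p ^ k * y = (g' ^ p ^ k * y * (g' ^ p ^ k)⁻¹) * g' ^ p ^ k := by group
        _ = y * g' ^ p ^ k := by rw [h2]
    have h4 : Commute g' y := by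
      have h5 := h3.pow_left b
      rwa [hb] at h5
    exact h4.eq.symm
  have h1 : a * g' * a⁻¹ ∈ cj a (Subgroup.centralizer ((cj a⁻¹ X : Subgroup G) : Set G)) :=
    mem_cj_of_mem hcz
  rw [cj_centralizer, cj_cj_inv] at h1
  have e : a * g' * a⁻¹ = g := by rw [hg']; group
  rwa [e] at h1

/-- a Frobenius-type criterion relative to a strongly closed subgroup `D`: if `N_G(U)` has a
normal `p`-complement for every `U ≤ D` with `C_D(U) ≤ U`, then so does `G`. -/
theorem npc_of_strongly_closed [Finite G] {p : ℕ} [Fact p.Prime] (S : Sylow p G)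
    (D : Subgroup G) (hDS : D ≤ S)
    (hD : ∀ x ∈ D, ∀ g : G, g * x * g⁻¹ ∈ (S : Subgroup G) → g * x * g⁻¹ ∈ D)
    (hyp : ∀ U : Subgroup G, U ≤ D → D ⊓ Subgroup.centralizer (U : Set G) ≤ U →
      Cfsg.HasNormalPComplement p ↥(Subgroup.normalizer (U : Set G))) :
    Cfsg.HasNormalPComplement p G := by
  apply Helper6.hasNormalPComplement_of_frobCond
  apply frobCond_of_self_control S
  -- local factorization
  have hloc : ∀ Q ∈ AGfam p (S : Subgroup G), ∀ n ∈ Subgroup.normalizer (Q : Set G),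
      ∃ t ∈ (S : Subgroup G), ∃ c ∈ Subgroup.centralizer (Q : Set G), n = t * c := by
    intro Q hQ n hn
    have hQ' := hQ
    obtain ⟨hQS, hfn, hcen, hrad⟩ := hQ
    have hQp : IsPGroup p Q := S.2.to_le hQS
    obtain ⟨U, hU⟩ : ∃ U, U = Q ⊓ D := ⟨_, rfl⟩
    have hUQ : U ≤ Q := hU ▸ inf_le_left
    have hUD : U ≤ D := hU ▸ inf_le_right
    have hDn : ∀ x ∈ (S : Subgroup G), ∀ d ∈ D, x * d * x⁻¹ ∈ D := fun x hx d hd =>
      hD d hd x (mul_mem (mul_mem hx (hDS hd)) (inv_mem hx))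
    have hNU : ∀ m ∈ Subgroup.normalizer (Q : Set G), ∀ u ∈ U, m * u * m⁻¹ ∈ U := by
      intro m hm u hu
      rw [hU] at hu ⊢
      have h1 : m * u * m⁻¹ ∈ Q := (Subgroup.mem_normalizer_iff.1 hm u).1 hu.1
      exact ⟨h1, hD u hu.2 m (hQS h1)⟩
    have hNQU : Subgroup.normalizer (Q : Set G) ≤ Subgroup.normalizer (U : Set G) := by
      intro m hm
      apply mem_normalizer_of_cj_le
      rintro _ ⟨u, hu, rfl⟩
      exact hNU m hm u hu
    -- the series `Q ≥ U ≥ 1`
    obtain ⟨E, hE0, hE1, hE2⟩ : ∃ E : ℕ → Subgroup G, E 0 = Q ∧ E 1 = U ∧ ∀ i, E (i + 2) = ⊥ :=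
      ⟨fun i => Nat.casesOn i Q (fun j => Nat.casesOn j U (fun _ => ⊥)), rfl, rfl, fun i => rfl⟩
    have hEanti : ∀ i, E (i + 1) ≤ E i := by
      intro i
      rcases i with _ | _ | i
      · show E 1 ≤ E 0
        rw [hE0, hE1]; exact hUQ
      · show E 2 ≤ E 1
        rw [hE2 0]; exact bot_le
      · show E (i + 1 + 2) ≤ E (i + 2)
        rw [hE2 (i + 1)]; exact bot_le
    have hEinv : ∀ i, ∀ m ∈ Subgroup.normalizer (Q : Set G), ∀ d ∈ E i, m * d * m⁻¹ ∈ E i := by
      intro i m hm d hd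
      rcases i with _ | _ | i
      · rw [hE0] at hd ⊢; exact (Subgroup.mem_normalizer_iff.1 hm d).1 hd
      · have hd' : d ∈ U := by rw [← hE1]; exact hd
        show m * d * m⁻¹ ∈ E 1
        rw [hE1]; exact hNU m hm d hd'
      · rw [hE2 i] at hd ⊢
        rw [Subgroup.mem_bot] at hd ⊢
        rw [hd]; group
    have hstab := seriesStab_le S Q hQ' E hE0 hEanti 2 (hE2 0) hEinv
    -- `C_D(U) ∩ N(Q) ≤ U`
    have hNC : ∀ x ∈ D, x ∈ Subgroup.centralizer (U : Set G) →
        x ∈ Subgroup.normalizer (Q : Set G) → x ∈ U := by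
      intro x hxD hxC hxN
      have h1 : (⟨x, hxN⟩ : ↥(Subgroup.normalizer (Q : Set G))) ∈ seriesStab Q E hEinv := by
        rw [mem_seriesStab]
        intro i d hd
        show x * d * x⁻¹ * d⁻¹ ∈ E (i + 1)
        rcases i with _ | _ | i
        · rw [hE0] at hd
          show x * d * x⁻¹ * d⁻¹ ∈ E 1
          rw [hE1, hU]
          refine ⟨Q.mul_mem ((Subgroup.mem_normalizer_iff.1 hxN d).1 hd) (Q.inv_mem hd), ?_⟩
          have h2 := hDn d (hQS hd) x⁻¹ (D.inv_mem hxD)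
          have e : x * d * x⁻¹ * d⁻¹ = x * (d * x⁻¹ * d⁻¹) := by group
          rw [e]; exact D.mul_mem hxD h2
        · have hd' : d ∈ U := by rw [← hE1]; exact hd
          have h2 := (Subgroup.mem_centralizer_iff.1 hxC) d hd'
          have e : x * d * x⁻¹ * d⁻¹ = 1 := by rw [← h2]; group
          rw [e]; exact one_mem _
        · have hd' : d = 1 := by
            have h2 := hd
            rw [hE2 i, Subgroup.mem_bot] at h2
            exact h2
          rw [hd']; simp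
      have h2 := hstab h1
      have h3 : x ∈ Opp p Q := ⟨⟨x, hxN⟩, h2, rfl⟩
      have h4 : x ∈ Q := hrad ⟨⟨hDS hxD, hxN⟩, h3⟩
      rw [hU]; exact ⟨h4, hxD⟩
    -- `C_D(U) ≤ U`
    have hcenU : D ⊓ Subgroup.centralizer (U : Set G) ≤ U := by
      obtain ⟨Cd, hCd⟩ : ∃ Cd, Cd = D ⊓ Subgroup.centralizer (U : Set G) := ⟨_, rfl⟩
      rw [← hCd]
      have hCdD : Cd ≤ D := hCd ▸ inf_le_left
      have hCdS : Cd ≤ S := hCdD.trans hDS
      have hQCd : Q ≤ Subgroup.normalizer (Cd : Set G) := by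
        intro q hq
        apply mem_normalizer_of_cj_le
        rintro _ ⟨x, hx, rfl⟩
        rw [hCd] at hx ⊢
        refine ⟨hDn q (hQS hq) x hx.1, ?_⟩
        have hqU : q ∈ Subgroup.normalizer (U : Set G) := hNQU (Subgroup.le_normalizer hq)
        have h1 : q * x * q⁻¹ ∈ cj q (Subgroup.centralizer (U : Set G)) := mem_cj_of_mem hx.2
        rwa [cj_centralizer, cj_norm hqU] at h1
      by_contra hne
      have hY : Cd ⊔ Q ≤ S := sup_le hCdS hQS
      have hYp : IsPGroup p ↥(Cd ⊔ Q) := S.2.to_le hY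
      have hneq : Q ≠ Cd ⊔ Q := by
        intro h
        apply hne
        have h2 : Cd ≤ Cd ⊔ Q := le_sup_left
        rw [← h] at h2
        intro x hx
        rw [hU]; exact ⟨h2 hx, hCdD hx⟩
      obtain ⟨y, hyY, hyN, hyQ⟩ :=
        Helper5.exists_mem_normalizer_not_mem (Cd ⊔ Q) Q hYp le_sup_right hneq
      obtain ⟨c, hc, q, hq, rfl⟩ := Helper3.mem_sup_of_le_normalizer_right Cd Q hQCd hyY
      apply hyQ
      have hcN : c ∈ Subgroup.normalizer (Q : Set G) := by
        have h := mul_mem hyN (inv_mem (Subgroup.le_normalizer hq))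
        simpa using h
      have hc' : c ∈ D ⊓ Subgroup.centralizer (U : Set G) := hCd ▸ hc
      exact Q.mul_mem (hUQ (hNC c hc'.1 hc'.2 hcN)) hq
    -- `N(U)` has a normal `p`-complement
    have hF := Helper6.frobCond_of_hasNormalPComplement (hyp U hUD hcenU)
    haveI := Helper6.centralizer_subgroupOf_normalizer_normal Q
    have hQuot : IsPGroup p (↥(Subgroup.normalizer (Q : Set G)) ⧸
        (Subgroup.centralizer (Q : Set G)).subgroupOf (Subgroup.normalizer (Q : Set G))) := by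
      apply Helper6.quot_isPGroup
      intro g hg
      rw [Subgroup.mem_subgroupOf]
      exact Helper6.mem_centralizer_of_frobCond_subgroup _ hF Q hQp
        (Subgroup.le_normalizer.trans hNQU) (g : G) (hNQU g.2) g.2
        (by rwa [Subgroup.orderOf_coe])
    obtain ⟨T, hT⟩ := hfn
    obtain ⟨c, hc, s, hs, hn'⟩ := Helper6.exists_mul_of_quot_isPGroup p _ hQuot T (⟨n, hn⟩⁻¹)
    have hsS : (s : G) ∈ (S : Subgroup G) := by
      have h1 : (s : G) ∈ (S : Subgroup G) ⊓ Subgroup.normalizer (Q : Set G) := by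
        rw [← hT]; exact ⟨s, hs, rfl⟩
      exact h1.1
    refine ⟨(s : G)⁻¹, inv_mem hsS, (c : G)⁻¹, inv_mem (Subgroup.mem_subgroupOf.1 hc), ?_⟩
    have h5 := congrArg Subtype.val hn'
    simp only [Subgroup.coe_mul, Subgroup.coe_inv] at h5
    calc n = (n⁻¹)⁻¹ := (inv_inv n).symm
      _ = ((c : G) * (s : G))⁻¹ := by rw [h5]
      _ = (s : G)⁻¹ * (c : G)⁻¹ := mul_inv_rev _ _
  -- global
  have key : ∀ (A : Subgroup G) (g : G),
      AG (AGfam p (S : Subgroup G)) (S : Subgroup G) A g →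
      ∃ s ∈ (S : Subgroup G), ∃ c ∈ Subgroup.centralizer (A : Set G), g = s * c := by
    intro A g hAG
    induction hAG with
    | cent hA' hc => exact ⟨1, one_mem _, _, hc, (one_mul _).symm⟩
    | @step g s Q hQ h0 hle hs ih =>
      obtain ⟨h, hh, c, hc, rfl⟩ := ih
      obtain ⟨t, ht, c', hc', rfl⟩ := hloc Q hQ s hs
      have hgA : cj (h * c) A = cj h A := by rw [cj_mul, cj_cent hc]
      rw [hgA] at hle
      have h1 : c' ∈ Subgroup.centralizer ((cj h A : Subgroup G) : Set G) :=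
        Subgroup.centralizer_le hle hc'
      rw [← cj_centralizer] at h1
      obtain ⟨z, hz, rfl⟩ := mem_cj.1 h1
      exact ⟨t * h, mul_mem ht hh, z * c, mul_mem hz hc, by group⟩
  exact fun A hA g hg => key A g (ag_main S A hA g hg)

end Cfsg.Agent.Helper3.FC
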