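import Mathlib
import Cfsg.Prelude
import Cfsg.Agent.Helper3.PN4
import Cfsg.Agent.S0031
import Cfsg.Agent.S0032
import Cfsg.Agent.Helper7.Hypercenter

set_option autoImplicit false

namespace Cfsg.Agent.Helper3.FPF

open Cfsg.Agent.Helper3.PN

universe u

variable {G : Type u} [Group G]

theorem list_conj_prod (u : G) (l : List G) :
    (l.map (fun x => u * x * u⁻¹)).prod = u * l.prod * u⁻¹ := by
  induction l with
  | nil => simp
  | cons a l ih => rw [List.map_cons, List.prod_cons, List.prod_cons, ih]; group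

theorem iter_mem (φ : G →* G) (H : Subgroup G) (hH : ∀ h ∈ H, φ h ∈ H) (k : ℕ) :
    ∀ x ∈ H, φ^[k] x ∈ H := by
  induction k with
  | zero => intro x hx; exact hx
  | succ k ih => intro x hx; rw [Function.iterate_succ_apply']; exact hH _ (ih x hx)

theorem iter_mul (φ : G →* G) (k : ℕ) (a b : G) : φ^[k] (a * b) = φ^[k] a * φ^[k] b := by
  induction k generalizing a b with
  | zero => rfl
  | succ k ih =>
    rw [Function.iterate_succ_apply, Function.iterate_succ_apply, Function.iterate_succ_apply,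
      map_mul, ih]

theorem iter_inv (φ : G →* G) (k : ℕ) (a : G) : φ^[k] a⁻¹ = (φ^[k] a)⁻¹ := by
  induction k generalizing a with
  | zero => rfl
  | succ k ih =>
    rw [Function.iterate_succ_apply, Function.iterate_succ_apply, map_inv, ih]

/-- the nontrivial powers of a fixed-point-free automorphism of prime order are
fixed-point-free. -/
theorem fpf_pow (φ : G →* G) (hφ : MonoidHom.FixedPointFree φ) (r : ℕ) (hr : r.Prime)
    (hφr : ∀ g, φ^[r] g = g) (k : ℕ) (hk0 : 0 < k) (hkr : k < r) (g : G)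
    (hg : φ^[k] g = g) : g = 1 := by
  apply hφ
  have hcop : Nat.Coprime k r :=
    Nat.Coprime.symm ((Nat.Prime.coprime_iff_not_dvd hr).2 (Nat.not_dvd_of_pos_of_lt hk0 hkr))
  obtain ⟨m, -, hm⟩ := Nat.exists_mul_mod_eq_one_of_coprime hcop hr.one_lt
  have h1 : φ^[k * m] g = g := by
    rw [Function.iterate_mul]
    exact Function.iterate_fixed hg m
  have h2 : k * m = r * (k * m / r) + 1 := by
    have := Nat.div_add_mod (k * m) r
    rw [hm] at this
    exact this.symm
  rw [h2, Function.iterate_succ_apply', Function.iterate_mul] at h1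
  have h3 : (φ^[r])^[k * m / r] g = g := Function.iterate_fixed (hφr g) _
  rw [h3] at h1
  exact h1

set_option maxHeartbeats 800000 in
/-- the trace argument: if `φ` is fixed-point-free with `φ ^ r = 1`, all of whose nontrivial
powers below `r` are fixed-point-free on the `φ`-invariant subgroup `Q`, and `V` is a
`φ`-invariant abelian subgroup normalized by `Q`, then `v ^ |Q|` is centralized by `Q` for all
`v ∈ V`. -/
theorem trace_lemma [Finite G] (φ : G →* G) (hφ : MonoidHom.FixedPointFree φ) (r : ℕ)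
    (hr0 : 0 < r) (hφr : ∀ g, φ^[r] g = g)
    (V Q : Subgroup G) (hVc : ∀ a ∈ V, ∀ b ∈ V, a * b = b * a)
    (hQV : Q ≤ Subgroup.normalizer (V : Set G))
    (hφV : ∀ v ∈ V, φ v ∈ V) (hφQ : ∀ u ∈ Q, φ u ∈ Q)
    (hfp : ∀ k, 0 < k → k < r → ∀ u ∈ Q, φ^[k] u = u → u = 1)
    (v : G) (hv : v ∈ V) (q : G) (hq : q ∈ Q) :
    q * v ^ Nat.card Q * q⁻¹ = v ^ Nat.card Q := by
  classical
  haveI : Fintype ↥Q := Fintype.ofFinite _
  letI : CommGroup ↥V :=
    { (inferInstance : Group ↥V) with mul_comm := fun a b => Subtype.ext (hVc a a.2 b b.2) }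
  have hconj : ∀ u ∈ Q, ∀ x ∈ V, u * x * u⁻¹ ∈ V := fun u hu x hx =>
    ((Subgroup.mem_normalizer_iff.1 (hQV hu)) x).1 hx
  have hconj' : ∀ u ∈ Q, ∀ x ∈ V, u⁻¹ * x * u ∈ V := fun u hu x hx => by
    have := hconj u⁻¹ (Q.inv_mem hu) x hx
    rwa [inv_inv] at this
  have hVk := iter_mem φ V hφV
  have hQk := iter_mem φ Q hφQ
  let cq : ↥Q → ↥V →* ↥V := fun w =>
    { toFun := fun x => ⟨(w : G) * x * (w : G)⁻¹, hconj w w.2 x x.2⟩
      map_one' := Subtype.ext (by
        show (w : G) * (1 : G) * (w : G)⁻¹ = 1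
        group)
      map_mul' := fun a b => Subtype.ext (by
        show (w : G) * ((a : G) * (b : G)) * (w : G)⁻¹ =
          ((w : G) * (a : G) * (w : G)⁻¹) * ((w : G) * (b : G) * (w : G)⁻¹)
        group) }
  let F : ↥Q → ℕ → ↥V := fun u k =>
    ⟨(u : G) * φ^[k] ((u : G)⁻¹ * v * u) * (u : G)⁻¹,
      hconj u u.2 _ (hVk k _ (hconj' u u.2 v hv))⟩
  have hcoe : ∀ (f : ℕ → ↥V) (n : ℕ), ((∏ k ∈ Finset.range n, f k : ↥V) : G) =
      ((List.range n).map (fun k => (f k : G))).prod := by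
    intro f n
    induction n with
    | zero => simp
    | succ n ih =>
      rw [Finset.prod_range_succ, Subgroup.coe_mul, ih, List.range_succ, List.map_append,
        List.prod_append]
      simp
  have step1 : ∀ u : ↥Q, ∏ k ∈ Finset.range r, F u k = 1 := by
    intro u
    apply Subtype.ext
    rw [hcoe]
    have h1 : (fun k => ((F u k : ↥V) : G)) =
        (fun x => (u : G) * x * (u : G)⁻¹) ∘ (fun k => φ^[k] ((u : G)⁻¹ * v * u)) := rfl
    rw [h1, ← List.map_map, list_conj_prod]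
    have h2 := hφ.prod_pow_eq_one (n := r) (funext hφr) ((u : G)⁻¹ * v * u)
    rw [h2]
    simp
  have step2 : ∏ k ∈ Finset.range r, ∏ u : ↥Q, F u k = 1 := by
    rw [Finset.prod_comm]
    exact Finset.prod_eq_one (fun u _ => step1 u)
  have step3 : ∀ k, 0 < k → k < r → ∀ w : ↥Q,
      cq w (∏ u : ↥Q, F u k) = ∏ u : ↥Q, F u k := by
    intro k hk0 hkr w
    let σ : ↥Q → ↥Q := fun u =>
      ⟨(u : G) * (φ^[k] (u : G))⁻¹, Q.mul_mem u.2 (Q.inv_mem (hQk k _ u.2))⟩
    have hσinj : Function.Injective σ := by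
      intro a b hab
      have h1 : (a : G) * (φ^[k] (a : G))⁻¹ = (b : G) * (φ^[k] (b : G))⁻¹ :=
        congrArg Subtype.val hab
      have h2 : φ^[k] ((b : G)⁻¹ * a) = (b : G)⁻¹ * a := by
        rw [iter_mul, iter_inv]
        have h3 : φ^[k] (a : G) = ((b : G) * (φ^[k] (b : G))⁻¹)⁻¹ * a := by
          rw [← h1]; group
        rw [h3]; group
      have h4 := hfp k hk0 hkr _ (Q.mul_mem (Q.inv_mem b.2) a.2) h2
      apply Subtype.ext
      have h5 : (a : G) = (b : G) * ((b : G)⁻¹ * a) := by group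
      rw [h5, h4, mul_one]
    have hσ : Function.Bijective σ := Finite.injective_iff_bijective.1 hσinj
    obtain ⟨x, hx⟩ : ∃ x : ↥V, x = ⟨φ^[k] v, hVk k v hv⟩ := ⟨_, rfl⟩
    have hF : ∀ u : ↥Q, F u k = cq (σ u) x := by
      intro u
      apply Subtype.ext
      show (u : G) * φ^[k] ((u : G)⁻¹ * v * u) * (u : G)⁻¹ =
        ((u : G) * (φ^[k] (u : G))⁻¹) * (x : G) * ((u : G) * (φ^[k] (u : G))⁻¹)⁻¹
      rw [hx, iter_mul, iter_mul, iter_inv]
      group
    have h5 : ∏ u : ↥Q, F u k = ∏ u : ↥Q, cq u x := by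
      rw [Finset.prod_congr rfl (fun u _ => hF u)]
      exact Function.Bijective.prod_comp hσ (fun u => cq u x)
    rw [h5, map_prod]
    have h6 : ∀ u : ↥Q, cq w (cq u x) = cq (w * u) x := by
      intro u
      apply Subtype.ext
      show (w : G) * ((u : G) * (x : G) * (u : G)⁻¹) * (w : G)⁻¹ =
        ((w : G) * (u : G)) * (x : G) * ((w : G) * (u : G))⁻¹
      group
    rw [Finset.prod_congr rfl (fun u _ => h6 u)]
    exact Function.Bijective.prod_comp (Group.mulLeft_bijective w) (fun u => cq u x)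
  obtain ⟨r', rfl⟩ : ∃ r', r = r' + 1 := ⟨r - 1, by omega⟩
  rw [Finset.prod_range_succ'] at step2
  obtain ⟨W, hW⟩ : ∃ W : ↥V, W = ∏ k ∈ Finset.range r', ∏ u : ↥Q, F u (k + 1) := ⟨_, rfl⟩
  rw [← hW] at step2
  have hWfix : cq ⟨q, hq⟩ W = W := by
    rw [hW, map_prod]
    apply Finset.prod_congr rfl
    intro k hk
    exact step3 (k + 1) (Nat.succ_pos k) (by have := Finset.mem_range.1 hk; omega) ⟨q, hq⟩
  have hF0 : ∏ u : ↥Q, F u 0 = (⟨v, hv⟩ : ↥V) ^ Nat.card Q := by
    have h0 : ∀ u : ↥Q, F u 0 = ⟨v, hv⟩ := by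
      intro u
      apply Subtype.ext
      show (u : G) * ((u : G)⁻¹ * v * u) * (u : G)⁻¹ = v
      group
    rw [Finset.prod_congr rfl (fun u _ => h0 u), Finset.prod_const, Finset.card_univ,
      Nat.card_eq_fintype_card]
  rw [hF0] at step2
  have h7 : (⟨v, hv⟩ : ↥V) ^ Nat.card Q = W⁻¹ := eq_inv_of_mul_eq_one_right step2
  have h8 : cq ⟨q, hq⟩ ((⟨v, hv⟩ : ↥V) ^ Nat.card Q) = (⟨v, hv⟩ : ↥V) ^ Nat.card Q := by
    rw [h7, map_inv, hWfix]
  have h9 : q * (((⟨v, hv⟩ : ↥V) ^ Nat.card Q : ↥V) : G) * q⁻¹ =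
      (((⟨v, hv⟩ : ↥V) ^ Nat.card Q : ↥V) : G) := congrArg Subtype.val h8
  rw [Subgroup.coe_pow] at h9
  exact h9

theorem npc_of_nilpotent {K : Type u} [Group K] [Finite K] (hK : Group.IsNilpotent K)
    (p : ℕ) [Fact p.Prime] : Cfsg.HasNormalPComplement p K := by
  haveI := hK
  apply Helper6.hasNormalPComplement_of_frobCond
  intro X hX g hg hcop
  rw [Subgroup.mem_centralizer_iff]
  intro x hx
  obtain ⟨k, hk⟩ := hX ⟨x, hx⟩
  have hk' : x ^ p ^ k = 1 := by
    have := congrArg Subtype.val hk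
    simpa using this
  exact Helper7.commute_of_nilpotent_coprime p x g k hk' hcop

theorem eq_top_of_forall_sylow_le [Finite G] (C : Subgroup G)
    (h : ∀ (t : ℕ) [Fact t.Prime], ∃ P : Sylow t G, (P : Subgroup G) ≤ C) : C = ⊤ := by
  by_contra hne
  have h1 : C.index ≠ 1 := fun h1 => hne (Subgroup.index_eq_one.1 h1)
  obtain ⟨t, ht, htd⟩ := Nat.exists_prime_and_dvd h1
  haveI : Fact t.Prime := ⟨ht⟩
  obtain ⟨P, hP⟩ := h t
  exact P.not_dvd_index (dvd_trans htd (Subgroup.index_dvd_of_le hP))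


set_option maxHeartbeats 1600000 in
/-- **Thompson's theorem**: a finite group with a fixed-point-free automorphism of prime order
is nilpotent (stated for endomorphisms `φ` with `φ ^ r = 1`). -/
theorem fpf_nilpotent (r : ℕ) (hr : r.Prime) :
    ∀ (n : ℕ) (G : Type u) [Group G] [Finite G], Nat.card G = n →
      ∀ φ : G →* G, MonoidHom.FixedPointFree φ → (∀ g, φ^[r] g = g) →
        Group.IsNilpotent G := by
  intro n
  induction n using Nat.strong_induction_on with
  | _ n ih =>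
  intro G _ _ hn φ hφ hφr
  by_contra hnil
  classical
  obtain ⟨r', hr'⟩ : ∃ r', r = r' + 1 := ⟨r - 1, by have := hr.pos; omega⟩
  have hinj : Function.Injective φ := by
    intro a b hab
    have h1 : φ^[r] a = φ^[r] b := by
      rw [hr', Function.iterate_succ_apply, Function.iterate_succ_apply, hab]
    rwa [hφr, hφr] at h1
  have hbij : Function.Bijective φ := ⟨hinj, Finite.surjective_of_injective hinj⟩
  obtain ⟨e, he⟩ : ∃ e : G ≃* G, ∀ g, e g = φ g :=
    ⟨MulEquiv.ofBijective φ hbij, fun g => rfl⟩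
  have hefpf : MonoidHom.FixedPointFree ((e : G ≃* G) : G →* G) :=
    fun g hg => hφ g (by rw [← he]; exact hg)
  have hpre : ∀ H : Subgroup G, (∀ h ∈ H, φ h ∈ H) → ∀ h ∈ H, ∃ h' ∈ H, φ h' = h := by
    intro H hH h hh
    refine ⟨φ^[r'] h, iter_mem φ H hH r' h hh, ?_⟩
    have h1 : φ (φ^[r'] h) = φ^[r' + 1] h := (Function.iterate_succ_apply' φ r' h).symm
    rw [h1, ← hr']
    exact hφr h
  have hpreG : ∀ g : G, ∃ g', φ g' = g := fun g => hbij.2 g
  -- invariant proper subgroups are nilpotent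
  have L1 : ∀ H : Subgroup G, (∀ h ∈ H, φ h ∈ H) → H ≠ ⊤ → Group.IsNilpotent H := by
    intro H hH hne
    have hlt : Nat.card H < n := by
      rw [← hn, ← Subgroup.card_top (G := G)]
      exact Helper6.card_lt_of_lt' (lt_top_iff_ne_top.2 hne)
    refine ih _ hlt H rfl ((φ.comp H.subtype).codRestrict H (fun h => hH h h.2)) ?_ ?_
    · intro h hh
      have := hφ h (congrArg Subtype.val hh)
      exact Subtype.ext this
    · intro h
      have key : ∀ k : ℕ, ∀ h : H,
          ((((φ.comp H.subtype).codRestrict H (fun h => hH h h.2))^[k] h : H) : G) =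
            φ^[k] (h : G) := by
        intro k
        induction k with
        | zero => intro h; rfl
        | succ k ih =>
          intro h
          rw [Function.iterate_succ_apply', Function.iterate_succ_apply', ← ih]
          rfl
      exact Subtype.ext ((key r h).trans (hφr h))
  -- quotients by nontrivial invariant normal subgroups are nilpotent
  have L2 : ∀ (N : Subgroup G) [N.Normal], (∀ x ∈ N, φ x ∈ N) → N ≠ ⊥ →
      Group.IsNilpotent (G ⧸ N) := by
    intro N hN hNφ hne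
    have hlt : Nat.card (G ⧸ N) < n := by rw [← hn]; exact card_quot_lt N hne
    have hle : N ≤ N.comap φ := fun x hx => hNφ x hx
    refine ih _ hlt (G ⧸ N) rfl (QuotientGroup.map N N φ hle) ?_ ?_
    · intro x hx
      obtain ⟨g, rfl⟩ := QuotientGroup.mk_surjective x
      rw [QuotientGroup.map_mk] at hx
      have h1 : (φ g)⁻¹ * g ∈ N := QuotientGroup.eq.1 hx
      have h2 := Cfsg.Agent.S0032.result e hefpf N
        (fun n hn => by rw [he]; exact hNφ n hn) g (by rw [he]; exact h1)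
      exact (QuotientGroup.eq_one_iff g).2 h2
    · intro x
      obtain ⟨g, rfl⟩ := QuotientGroup.mk_surjective x
      have key : ∀ k : ℕ, ∀ g : G, (QuotientGroup.map N N φ hle)^[k] (g : G ⧸ N) =
          ((φ^[k] g : G) : G ⧸ N) := by
        intro k
        induction k with
        | zero => intro g; rfl
        | succ k ih =>
          intro g
          rw [Function.iterate_succ_apply', ih, QuotientGroup.map_mk,
            ← Function.iterate_succ_apply' φ]
      rw [key, hφr]
  -- invariant Sylow subgroups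
  have hSyl : ∀ (q : ℕ) [Fact q.Prime], ∃ P : Sylow q G,
      ∀ x ∈ (P : Subgroup G), φ x ∈ (P : Subgroup G) := by
    intro q _
    obtain ⟨P, hP⟩ := Cfsg.Agent.S0031.result e hefpf q
    refine ⟨P, fun x hx => ?_⟩
    have h1 : φ x ∈ (P : Subgroup G).map ((e : G ≃* G) : G →* G) := ⟨x, hx, he x⟩
    rwa [hP] at h1
  -- the centre is trivial
  have hZG : Subgroup.center G = ⊥ := by
    by_contra hne
    have hinv : ∀ x ∈ Subgroup.center G, φ x ∈ Subgroup.center G := by
      intro x hx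
      rw [Subgroup.mem_center_iff] at hx ⊢
      intro g
      obtain ⟨g', rfl⟩ := hpreG g
      rw [← map_mul, ← map_mul, hx g']
    haveI h1 := L2 (Subgroup.center G) hinv hne
    exact hnil (Subgroup.isNilpotent_of_ker_le_center (QuotientGroup.mk' (Subgroup.center G))
      (by rw [QuotientGroup.ker_mk']))
  -- no nontrivial invariant nilpotent normal subgroup
  have E : ∀ N : Subgroup G, N.Normal → (∀ x ∈ N, φ x ∈ N) → N ≠ ⊥ →
      Group.IsNilpotent N → False := by
    intro N hNn hNφ hN1 hNnil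
    haveI := hNn
    obtain ⟨A, hA⟩ : ∃ A : Subgroup G, A = N ⊓ Subgroup.centralizer (N : Set G) := ⟨_, rfl⟩
    have hA1 : A ≠ ⊥ := by
      haveI : Nontrivial ↥N := (Subgroup.nontrivial_iff_ne_bot N).2 hN1
      haveI := hNnil
      have h1 := Group.IsNilpotent.center_ne_bot (G := ↥N)
      intro hbot
      obtain ⟨a, ha⟩ := Subgroup.ne_bot_iff_exists_ne_one.1 h1
      apply ha
      have h2 : ((a : ↥N) : G) ∈ A := by
        rw [hA]
        refine Subgroup.mem_inf.2 ⟨(a : ↥N).2, ?_⟩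
        rw [Subgroup.mem_centralizer_iff]
        intro y hy
        have := Subgroup.mem_center_iff.1 a.2 ⟨y, hy⟩
        exact congrArg Subtype.val this
      rw [hbot, Subgroup.mem_bot] at h2
      exact Subtype.ext (Subtype.ext h2)
    have hAn : A.Normal := by rw [hA]; infer_instance
    have hAc : ∀ a ∈ A, ∀ b ∈ A, a * b = b * a := by
      intro a ha b hb
      rw [hA] at ha hb
      exact Subgroup.mem_centralizer_iff.1 hb.2 a ha.1
    have hAφ : ∀ x ∈ A, φ x ∈ A := by
      intro x hx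
      rw [hA] at hx ⊢
      rw [Subgroup.mem_inf] at hx ⊢
      refine ⟨hNφ x hx.1, ?_⟩
      rw [Subgroup.mem_centralizer_iff]
      intro y hy
      obtain ⟨y', hy', rfl⟩ := hpre N hNφ y hy
      rw [← map_mul, ← map_mul, Subgroup.mem_centralizer_iff.1 hx.2 y' hy']
    have hcA : Nat.card A ≠ 1 := by
      have := (Subgroup.one_lt_card_iff_ne_bot A).2 hA1
      omega
    obtain ⟨s, hs, hsd⟩ := Nat.exists_prime_and_dvd hcA
    haveI : Fact s.Prime := ⟨hs⟩
    obtain ⟨a, ha⟩ := exists_prime_orderOf_dvd_card' (G := ↥A) s hsd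
    obtain ⟨V, hVmem⟩ : ∃ V : Subgroup G, ∀ x, x ∈ V ↔ x ∈ A ∧ x ^ s = 1 :=
      ⟨{ carrier := {x | x ∈ A ∧ x ^ s = 1}
         one_mem' := ⟨A.one_mem, one_pow s⟩
         mul_mem' := fun {x y} hx hy => ⟨A.mul_mem hx.1 hy.1, by
           rw [(show Commute x y from hAc x hx.1 y hy.1).mul_pow, hx.2, hy.2, one_mul]⟩
         inv_mem' := fun {x} hx => ⟨A.inv_mem hx.1, by rw [inv_pow, hx.2, inv_one]⟩ },
       fun x => Iff.rfl⟩
    have hV1 : V ≠ ⊥ := by
      intro hbot
      have h1 : (a : G) ∈ V := by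
        rw [hVmem]
        refine ⟨a.2, ?_⟩
        have h2 : a ^ s = 1 := by rw [← ha]; exact pow_orderOf_eq_one a
        have h3 := congrArg Subtype.val h2
        simpa using h3
      rw [hbot, Subgroup.mem_bot] at h1
      have h4 : a = 1 := Subtype.ext h1
      rw [h4, orderOf_one] at ha
      exact hs.one_lt.ne ha
    have hVn : V.Normal := by
      refine ⟨fun x hx g => ?_⟩
      rw [hVmem] at hx ⊢
      refine ⟨hAn.conj_mem x hx.1 g, ?_⟩
      rw [conj_pow, hx.2]
      group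
    have hVφ : ∀ x ∈ V, φ x ∈ V := by
      intro x hx
      rw [hVmem] at hx ⊢
      refine ⟨hAφ x hx.1, ?_⟩
      rw [← map_pow, hx.2, map_one]
    have hVc : ∀ a ∈ V, ∀ b ∈ V, a * b = b * a := fun a ha b hb =>
      hAc a ((hVmem a).1 ha).1 b ((hVmem b).1 hb).1
    have hVp : IsPGroup s V := by
      intro x
      refine ⟨1, ?_⟩
      apply Subtype.ext
      rw [pow_one, Subgroup.coe_pow]
      exact ((hVmem x).1 x.2).2
    obtain ⟨S, hSφ⟩ := hSyl s
    have hVS : V ≤ (S : Subgroup G) :=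
      (Helper5.le_pCore V hVn hVp).trans (Helper5.pCore_le_sylow S)
    have hZ1 := normal_inf_center_ne_bot (S : Subgroup G) S.isPGroup' (Nat.card V) V rfl hVS
      (by rw [Subgroup.normalizer_eq_top_iff.2 hVn]; exact le_top) hV1
    obtain ⟨z, hz, hz1⟩ : ∃ z ∈ V ⊓ ((S : Subgroup G) ⊓
        Subgroup.centralizer ((S : Subgroup G) : Set G)), z ≠ 1 := by
      by_contra hcon
      push Not at hcon
      exact hZ1 ((Subgroup.eq_bot_iff_forall _).2 hcon)
    have hzs : z ^ s = 1 := ((hVmem z).1 hz.1).2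
    have hzc : Subgroup.centralizer ({z} : Set G) = ⊤ := by
      apply eq_top_of_forall_sylow_le
      intro t _
      by_cases hts : t = s
      · rw [hts]
        refine ⟨S, fun x hx => ?_⟩
        rw [Subgroup.mem_centralizer_iff]
        intro y hy
        rw [Set.mem_singleton_iff] at hy
        rw [hy]
        exact (Subgroup.mem_centralizer_iff.1 hz.2.2 x hx).symm
      · obtain ⟨Qt, hQt⟩ := hSyl t
        refine ⟨Qt, fun u hu => ?_⟩
        have htp : t.Prime := Fact.out
        have h1 := trace_lemma φ hφ r hr.pos hφr V (Qt : Subgroup G) hVc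
          (by rw [Subgroup.normalizer_eq_top_iff.2 hVn]; exact le_top) hVφ hQt
          (fun k hk0 hkr u _ hu => fpf_pow φ hφ r hr hφr k hk0 hkr u hu) z hz.1 u hu
        obtain ⟨j, hj⟩ := IsPGroup.iff_card.1 Qt.isPGroup'
        rw [hj] at h1
        have hcop : Nat.Coprime (t ^ j) (orderOf z) :=
          Nat.Coprime.coprime_dvd_right (orderOf_dvd_of_pow_eq_one hzs)
            (Nat.Coprime.pow_left j ((Nat.coprime_primes htp hs).2 hts))
        obtain ⟨m, hm⟩ := exists_pow_eq_self_of_coprime hcop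
        have h2 : u * z * u⁻¹ = z := by
          calc u * z * u⁻¹ = u * (z ^ t ^ j) ^ m * u⁻¹ := by rw [hm]
            _ = (u * z ^ t ^ j * u⁻¹) ^ m := by rw [conj_pow]
            _ = z := by rw [h1, hm]
        rw [Subgroup.mem_centralizer_iff]
        intro y hy
        rw [Set.mem_singleton_iff] at hy
        rw [hy]
        have h3 : u * z = z * u := mul_inv_eq_iff_eq_mul.1 h2
        exact h3.symm
    have hzZ : z ∈ Subgroup.center G := by
      rw [Subgroup.mem_center_iff]
      intro g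
      have h1 : g ∈ Subgroup.centralizer ({z} : Set G) := by rw [hzc]; exact Subgroup.mem_top g
      exact (Subgroup.mem_centralizer_iff.1 h1 z rfl).symm
    rw [hZG, Subgroup.mem_bot] at hzZ
    exact hz1 hzZ
  by_cases hodd : ∃ q : ℕ, q.Prime ∧ q ≠ 2 ∧ q ∣ Nat.card G
  · obtain ⟨q, hq, hq2, hqd⟩ := hodd
    haveI : Fact q.Prime := ⟨hq⟩
    obtain ⟨P, hPφ⟩ := hSyl q
    have hP1 : (P : Subgroup G) ≠ ⊥ := Sylow.ne_bot_of_dvd_card P hqd
    obtain ⟨Z, hZdef⟩ : ∃ Z : Subgroup G, Z = (P : Subgroup G) ⊓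
        Subgroup.centralizer ((P : Subgroup G) : Set G) := ⟨_, rfl⟩
    obtain ⟨J, hJdef⟩ : ∃ J : Subgroup G, J = ZJ.JJ 0 (P : Subgroup G) := ⟨_, rfl⟩
    have hZ1 : Z ≠ ⊥ := by
      rw [hZdef]; exact center_ne_bot (p := q) (P : Subgroup G) P.isPGroup' hP1
    have hJ1 : J ≠ ⊥ := by
      rw [hJdef]; exact JJ_ne_bot (p := q) 0 (Or.inl rfl) (P : Subgroup G) P.isPGroup' hP1
    have hZP : Z ≤ (P : Subgroup G) := by rw [hZdef]; exact inf_le_left
    have hJP : J ≤ (P : Subgroup G) := by rw [hJdef]; exact ZJ.JJ_le 0 (P : Subgroup G)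
    have hZφ : ∀ x ∈ Z, φ x ∈ Z := by
      intro x hx
      rw [hZdef] at hx ⊢
      rw [Subgroup.mem_inf] at hx ⊢
      refine ⟨hPφ x hx.1, ?_⟩
      rw [Subgroup.mem_centralizer_iff]
      intro y hy
      obtain ⟨y', hy', rfl⟩ := hpre P hPφ y hy
      rw [← map_mul, ← map_mul, Subgroup.mem_centralizer_iff.1 hx.2 y' hy']
    have hPmap : (P : Subgroup G).map φ = (P : Subgroup G) := by
      apply le_antisymm
      · rintro _ ⟨x, hx, rfl⟩
        exact hPφ x hx
      · intro x hx
        obtain ⟨x', hx', rfl⟩ := hpre P hPφ x hx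
        exact ⟨x', hx', rfl⟩
    have hJmap : J.map φ = J := by
      rw [hJdef, ← ZJ.JJ_map_inj 0 φ hinj, hPmap]
    have hJφ : ∀ x ∈ J, φ x ∈ J := by
      intro x hx
      have h1 : φ x ∈ J.map φ := ⟨x, hx, rfl⟩
      rwa [hJmap] at h1
    obtain ⟨CZ, hCZdef⟩ : ∃ CZ : Subgroup G, CZ = Subgroup.centralizer (Z : Set G) := ⟨_, rfl⟩
    obtain ⟨NJ, hNJdef⟩ : ∃ NJ : Subgroup G, NJ = Subgroup.normalizer (J : Set G) := ⟨_, rfl⟩
    have hCZφ : ∀ x ∈ CZ, φ x ∈ CZ := by
      intro x hx
      rw [hCZdef] at hx ⊢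
      rw [Subgroup.mem_centralizer_iff]
      intro y hy
      obtain ⟨y', hy', rfl⟩ := hpre Z hZφ y hy
      rw [← map_mul, ← map_mul, Subgroup.mem_centralizer_iff.1 hx y' hy']
    have hNJφ : ∀ x ∈ NJ, φ x ∈ NJ := by
      intro x hx
      rw [hNJdef] at hx ⊢
      have h1 : φ x ∈ (Subgroup.normalizer (J : Set G)).map φ := ⟨x, hx, rfl⟩
      have h2 := Subgroup.le_normalizer_map (H := J) φ h1
      rwa [hJmap] at h2
    have hZp : IsPGroup q Z := P.isPGroup'.to_le hZP
    have hJp : IsPGroup q J := P.isPGroup'.to_le hJP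
    by_cases hCZ : CZ = ⊤
    · have hZn : Z.Normal := by
        refine ⟨fun z hz g => ?_⟩
        have h1 : g ∈ CZ := by rw [hCZ]; exact Subgroup.mem_top g
        rw [hCZdef] at h1
        have h2 : z * g = g * z := Subgroup.mem_centralizer_iff.1 h1 z hz
        rw [← h2, mul_inv_cancel_right]
        exact hz
      exact E Z hZn hZφ hZ1 hZp.isNilpotent
    by_cases hNJ : NJ = ⊤
    · have hJn : J.Normal := by
        rw [hNJdef] at hNJ
        exact Subgroup.normalizer_eq_top_iff.1 hNJ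
      exact E J hJn hJφ hJ1 hJp.isNilpotent
    have h1 := npc_of_nilpotent (L1 CZ hCZφ hCZ) q
    have h2 := npc_of_nilpotent (L1 NJ hNJφ hNJ) q
    rw [hCZdef, hZdef] at h1
    rw [hNJdef, hJdef] at h2
    have hnpc : Cfsg.HasNormalPComplement q G :=
      thompson_odd hq2 0 (Or.inl rfl) G P ⟨h1, h2, Or.inl hq2⟩
    obtain ⟨K, hK⟩ := Helper6.exists_isNPC_of_hasNormalPComplement hnpc
    have hKφ : ∀ x ∈ K, φ x ∈ K := by
      intro x hx
      rw [hK.mem_iff] at hx ⊢
      rwa [orderOf_injective φ hinj x]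
    have hKtop : K ≠ ⊤ := by
      intro h
      have h3 := hK.2.1
      rw [h, Subgroup.card_top] at h3
      have h4 := Nat.Coprime.eq_one_of_dvd h3.symm hqd
      exact hq.one_lt.ne' h4
    by_cases hK1 : K = ⊥
    · have hG : IsPGroup q G := by
        intro g
        obtain ⟨k, hk⟩ := hK.2.2 g
        rw [hK1, Subgroup.mem_bot] at hk
        exact ⟨k, hk⟩
      exact hnil hG.isNilpotent
    · exact E K hK.1 hKφ hK1 (L1 K hKφ hKtop)
  · push Not at hodd
    have hG : IsPGroup 2 G := by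
      haveI : Fact (Nat.Prime 2) := ⟨Nat.prime_two⟩
      have h1 : Nat.card G = 2 ^ (Nat.card G).primeFactorsList.length :=
        Nat.eq_prime_pow_of_unique_prime_dvd Nat.card_pos.ne' (fun {d} hd hdd => by
          by_contra hd2
          exact hodd d hd hd2 hdd)
      exact IsPGroup.of_card h1
    haveI : Fact (Nat.Prime 2) := ⟨Nat.prime_two⟩
    exact hnil hG.isNilpotent

end Cfsg.Agent.Helper3.FPF
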