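import Mathlib
import Cfsg.Prelude
import Cfsg.Agent.Helper3.FC1
import Cfsg.Agent.Helper5.Basic

set_option autoImplicit false

/-!
# Control of Sylow intersections versus strong control of fusion
-/

namespace Cfsg.Agent.Helper3.SylCtrl

variable {G : Type*} [Group G]

theorem take_prod {n : ℕ} (y : Fin n → G) (W : ℕ → G) (h0 : W 0 = 1)
    (hW : ∀ i : Fin n, W (i.val + 1) = W i.val * y i) :
    ∀ k, k ≤ n → ((List.ofFn y).take k).prod = W k := by
  intro k
  induction k with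
  | zero => intro _; rw [List.take_zero, List.prod_nil, h0]
  | succ k ih =>
    intro hk
    have hlen : k < (List.ofFn y).length := by rw [List.length_ofFn]; omega
    rw [List.prod_take_succ _ k hlen, ih (by omega), List.getElem_ofFn]
    exact (hW ⟨k, by omega⟩).symm

theorem full_prod {n : ℕ} (y : Fin n → G) :
    ((List.ofFn y).take n).prod = (List.ofFn y).prod := by
  rw [List.take_of_length_le (by rw [List.length_ofFn])]

theorem sylow_char [Finite G] (p : ℕ) [Fact p.Prime] (Q X : Subgroup G) :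
    (∃ P : Sylow p ↥X, (P : Subgroup ↥X).map X.subtype = Q) ↔
      (Q ≤ X ∧ IsPGroup p Q ∧ ¬ p ∣ Q.relIndex X) := by
  constructor
  · rintro ⟨P, rfl⟩
    refine ⟨Subgroup.map_subtype_le _, P.isPGroup'.map _, ?_⟩
    have h1 : ((P : Subgroup ↥X).map X.subtype).subgroupOf X = (P : Subgroup ↥X) :=
      Subgroup.comap_map_eq_self_of_injective X.subtype_injective _
    show ¬ p ∣ (((P : Subgroup ↥X).map X.subtype).subgroupOf X).index
    rw [h1]
    exact P.not_dvd_index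
  · rintro ⟨hQX, hQp, hidx⟩
    exact ⟨(hQp.comap_subtype : IsPGroup p (Q.subgroupOf X)).toSylow hidx,
      Subgroup.map_subgroupOf_eq_of_le hQX⟩

theorem sylowMembers_cj [Finite G] (p : ℕ) [Fact p.Prime] (𝓕 : Set (Subgroup G))
    (h𝓕 : Cfsg.IsNormalSet 𝓕) (S X : Subgroup G) (hX : X ∈ Cfsg.sylowMembers p 𝓕 S) (g : G) :
    FC.cj g X ∈ Cfsg.sylowMembers p 𝓕 (FC.cj g S) := by
  obtain ⟨hXF, hP⟩ := hX
  refine ⟨?_, ?_⟩
  · have h1 := h𝓕 X hXF g⁻¹
    unfold Cfsg.subgroupConjRight at h1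
    rw [inv_inv] at h1
    exact h1
  · obtain ⟨h1, h2, h3⟩ := (sylow_char p _ _).1 hP
    refine (sylow_char p _ _).2 ?_
    rw [← FC.cj_inf]
    refine ⟨FC.cj_mono g h1, FC.isPGroup_cj h2 g, ?_⟩
    have h4 : (FC.cj g (S ⊓ X)).relIndex (FC.cj g X) = (S ⊓ X).relIndex X :=
      Subgroup.relIndex_map_map_of_injective _ _ (MulAut.conj g).injective
    rw [h4]; exact h3

theorem csi_to_fscf [Finite G] (p : ℕ) [Fact p.Prime] (𝓕 : Set (Subgroup G))
    (h𝓕 : Cfsg.IsNormalSet 𝓕) (h : Cfsg.ControlsSylowIntersections p 𝓕) :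
    Cfsg.FamilyStronglyControlsFusion p 𝓕 := by
  intro S A g hAS hne hAg
  obtain ⟨T, hT⟩ : ∃ T : Sylow p G, (T : Subgroup G) = FC.cj g (S : Subgroup G) :=
    ⟨g • S, by rw [Sylow.coe_subgroup_smul]; rfl⟩
  have hAg' : ∀ a ∈ A, g⁻¹ * a * g ∈ (S : Subgroup G) :=
    fun a ha => hAg (Set.mem_image_of_mem _ ha)
  have hAT : ∀ a ∈ A, a ∈ (T : Subgroup G) := by
    intro a ha
    rw [hT, FC.mem_cj]
    exact ⟨g⁻¹ * a * g, hAg' a ha, by group⟩
  by_cases hST : S = T
  · have hgN : g ∈ Subgroup.normalizer ((S : Subgroup G) : Set G) := by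
      apply FC.mem_normalizer_of_cj_le
      rw [← hT, ← hST]
    refine ⟨0, fun i => i.elim0, fun i => i.elim0, g, hgN, fun i => i.elim0, ?_,
      fun i => i.elim0⟩
    simp
  · have hne' : (S : Subgroup G) ⊓ (T : Subgroup G) ≠ ⊥ := by
      obtain ⟨a, ha, ha1⟩ := hne
      intro hbot
      have h1 : a ∈ (S : Subgroup G) ⊓ (T : Subgroup G) :=
        Subgroup.mem_inf.2 ⟨hAS ha, hAT a ha⟩
      rw [hbot, Subgroup.mem_bot] at h1
      exact ha1 h1
    obtain ⟨n, c, X, x, hc0, hcn, hstep⟩ := h S T hST hne'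
    obtain ⟨w, hw0, hws⟩ : ∃ w : ℕ → G, w 0 = 1 ∧
        ∀ j (hj : j < n), w (j + 1) = x ⟨j, hj⟩ * w j := by
      refine ⟨fun k => Nat.rec 1 (fun j acc => (if hj : j < n then x ⟨j, hj⟩ else 1) * acc) k,
        rfl, ?_⟩
      intro j hj
      show (if hj : j < n then x ⟨j, hj⟩ else 1) * _ = _
      rw [dif_pos hj]
    have hck : ∀ k (hk : k < n + 1),
        (c ⟨k, hk⟩ : Subgroup G) = FC.cj (w k) (S : Subgroup G) := by
      intro k
      induction k with
      | zero =>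
        intro hk
        have e : (⟨0, hk⟩ : Fin (n + 1)) = 0 := rfl
        rw [e, hc0, hw0, FC.cj_one]
      | succ k ih =>
        intro hk
        have hkn : k < n := by omega
        obtain ⟨-, -, -, h4, -⟩ := hstep ⟨k, hkn⟩
        have e1 : (⟨k, hkn⟩ : Fin n).succ = ⟨k + 1, hk⟩ := rfl
        have e2 : (⟨k, hkn⟩ : Fin n).castSucc = ⟨k, by omega⟩ := rfl
        rw [e1, e2] at h4
        have h5 : (c ⟨k + 1, hk⟩ : Subgroup G) =
            FC.cj (x ⟨k, hkn⟩) (c ⟨k, by omega⟩ : Subgroup G) := by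
          rw [← h4]
          show _ = FC.cj (x ⟨k, hkn⟩) (FC.cj (x ⟨k, hkn⟩)⁻¹ (c ⟨k + 1, hk⟩ : Subgroup G))
          rw [FC.cj_cj_inv]
        rw [h5, ih (by omega), ← FC.cj_mul, hws k hkn]
    obtain ⟨y, hy⟩ : ∃ y : Fin n → G, ∀ i : Fin n, y i = (w i.val)⁻¹ * x i * w i.val :=
      ⟨_, fun i => rfl⟩
    obtain ⟨Y, hY⟩ : ∃ Y : Fin n → Subgroup G, ∀ i : Fin n, Y i = FC.cj (w i.val)⁻¹ (X i) :=
      ⟨_, fun i => rfl⟩
    have hws' : ∀ i : Fin n, w (i.val + 1) = x i * w i.val := fun i => hws i.val i.2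
    have hprod : ∀ k, k ≤ n → ((List.ofFn y).take k).prod = w k := by
      apply take_prod y w hw0
      intro i
      rw [hws' i, hy i]
      group
    have hcn' : FC.cj (w n) (S : Subgroup G) = FC.cj g (S : Subgroup G) := by
      rw [← hck n (by omega), ← hT]
      have e : (⟨n, by omega⟩ : Fin (n + 1)) = Fin.last n := rfl
      rw [e, hcn]
    have hy0 : (w n)⁻¹ * g ∈ Subgroup.normalizer ((S : Subgroup G) : Set G) := by
      apply FC.mem_normalizer_of_cj_le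
      rw [FC.cj_mul, ← hcn', FC.cj_inv_cj]
    refine ⟨n, Y, y, (w n)⁻¹ * g, hy0, ?_, ?_, ?_⟩
    · intro i
      constructor
      · rw [hY i]
        obtain ⟨h1, -, -, -, -⟩ := hstep i
        have h2 := sylowMembers_cj p 𝓕 h𝓕 _ _ h1 (w i.val)⁻¹
        have e2 : (c i.castSucc : Subgroup G) = FC.cj (w i.val) (S : Subgroup G) :=
          hck i.val (by omega)
        rw [e2, FC.cj_inv_cj] at h2
        exact h2
      · rw [hY i, hy i]
        obtain ⟨-, -, h3, -, -⟩ := hstep i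
        have h4 := FC.mem_cj_of_mem (g := (w i.val)⁻¹) h3
        rw [inv_inv] at h4
        exact h4
    · rw [← full_prod, hprod n le_rfl]; group
    · intro i
      rw [hprod (i.val + 1) (by omega)]
      intro z hz
      obtain ⟨a, ha, rfl⟩ := hz
      obtain ⟨-, -, h3, -, h5⟩ := hstep i
      have h6 : a ∈ (c i.succ : Subgroup G) ⊓ X i :=
        h5 (Subgroup.mem_inf.2 ⟨hAS ha, hAT a ha⟩)
      obtain ⟨h7, h8⟩ := Subgroup.mem_inf.1 h6
      have e3 : (c i.succ : Subgroup G) = FC.cj (w (i.val + 1)) (S : Subgroup G) :=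
        hck (i.val + 1) (by omega)
      rw [e3, FC.mem_cj] at h7
      obtain ⟨s, hs, rfl⟩ := h7
      refine ⟨?_, ?_⟩
      · have e : (w (i.val + 1))⁻¹ * (w (i.val + 1) * s * (w (i.val + 1))⁻¹) *
            w (i.val + 1) = s := by group
        show (w (i.val + 1))⁻¹ * (w (i.val + 1) * s * (w (i.val + 1))⁻¹) * w (i.val + 1) ∈
          (S : Subgroup G)
        rw [e]; exact hs
      · show (w (i.val + 1))⁻¹ * (w (i.val + 1) * s * (w (i.val + 1))⁻¹) * w (i.val + 1) ∈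
          (Y i : Subgroup G)
        rw [hY i]
        have h9 : (x i)⁻¹ * (w (i.val + 1) * s * (w (i.val + 1))⁻¹) * x i ∈ X i :=
          (X i).mul_mem ((X i).mul_mem ((X i).inv_mem h3) h8) h3
        have h10 := FC.mem_cj_of_mem (g := (w i.val)⁻¹) h9
        have e : (w (i.val + 1))⁻¹ * (w (i.val + 1) * s * (w (i.val + 1))⁻¹) * w (i.val + 1) =
            (w i.val)⁻¹ * ((x i)⁻¹ * (w (i.val + 1) * s * (w (i.val + 1))⁻¹) * x i) *
              (w i.val)⁻¹⁻¹ := by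
          rw [hws' i]; group
        rw [e]; exact h10

theorem fscf_to_csi [Finite G] (p : ℕ) [Fact p.Prime] (𝓕 : Set (Subgroup G))
    (h𝓕 : Cfsg.IsNormalSet 𝓕) (h : Cfsg.FamilyStronglyControlsFusion p 𝓕) :
    Cfsg.ControlsSylowIntersections p 𝓕 := by
  intro S T hST hne
  obtain ⟨g, hg⟩ := Helper5.sylow_conj S T
  have hT : (T : Subgroup G) = FC.cj g (S : Subgroup G) := hg
  obtain ⟨A, hA⟩ : ∃ A : Set G,
      A = (((S : Subgroup G) ⊓ (T : Subgroup G) : Subgroup G) : Set G) := ⟨_, rfl⟩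
  have hAS : A ⊆ (S : Set G) := by
    rw [hA]; intro a ha; exact (Subgroup.mem_inf.1 ha).1
  have hAne : ∃ a ∈ A, a ≠ 1 := by
    by_contra hcon
    push Not at hcon
    apply hne
    rw [Subgroup.eq_bot_iff_forall]
    intro a ha
    exact hcon a (by rw [hA]; exact ha)
  have hAg : Cfsg.conjRight g A ⊆ (S : Set G) := by
    intro z hz
    obtain ⟨a, ha, rfl⟩ := hz
    rw [hA] at ha
    have h1 : a ∈ (T : Subgroup G) := (Subgroup.mem_inf.1 ha).2
    rw [hT, FC.mem_cj] at h1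
    obtain ⟨s, hs, rfl⟩ := h1
    have e : g⁻¹ * (g * s * g⁻¹) * g = s := by group
    show g⁻¹ * (g * s * g⁻¹) * g ∈ (S : Subgroup G)
    rw [e]; exact hs
  obtain ⟨n, Y, y, y₀, hy₀, hY, hgy, hAY⟩ := h S A g hAS hAne hAg
  obtain ⟨w, hw⟩ : ∃ w : ℕ → G, ∀ k, w k = ((List.ofFn y).take k).prod := ⟨_, fun k => rfl⟩
  have hw0 : w 0 = 1 := by rw [hw, List.take_zero, List.prod_nil]
  have hws : ∀ i : Fin n, w (i.val + 1) = w i.val * y i := by
    intro i
    rw [hw, hw, List.prod_take_succ _ i.val (by rw [List.length_ofFn]; exact i.2),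
      List.getElem_ofFn]
  have hwn : w n = (List.ofFn y).prod := by rw [hw, full_prod]
  have hgw : g = w n * y₀ := by rw [hwn]; exact hgy
  obtain ⟨c, hc⟩ : ∃ c : Fin (n + 1) → Sylow p G,
      ∀ k : Fin (n + 1), (c k : Subgroup G) = FC.cj (w k.val) (S : Subgroup G) :=
    ⟨fun k => (w k.val) • S, fun k => by rw [Sylow.coe_subgroup_smul]; rfl⟩
  refine ⟨n, c, fun i => FC.cj (w i.val) (Y i), fun i => w i.val * y i * (w i.val)⁻¹,
    ?_, ?_, ?_⟩
  · apply Sylow.ext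
    rw [hc 0]
    show FC.cj (w 0) _ = _
    rw [hw0, FC.cj_one]
  · apply Sylow.ext
    rw [hc (Fin.last n), Fin.val_last, hT, hgw, FC.cj_mul, FC.cj_norm hy₀]
  · intro i
    have hYi := (hY i).1
    have hyi := (hY i).2
    have e1 : (c i.castSucc : Subgroup G) = FC.cj (w i.val) (S : Subgroup G) := by
      rw [hc]; rfl
    have e2 : (c i.succ : Subgroup G) = FC.cj (w (i.val + 1)) (S : Subgroup G) := by
      rw [hc]; rfl
    have hcjy : FC.cj (y i) (Y i) = Y i := FC.cj_norm (Subgroup.le_normalizer hyi)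
    refine ⟨?_, ?_, ?_, ?_, ?_⟩
    · rw [e1]; exact sylowMembers_cj p 𝓕 h𝓕 _ _ hYi (w i.val)
    · rw [e2, hws i, FC.cj_mul]
      have h1 := sylowMembers_cj p 𝓕 h𝓕 _ _ hYi (y i)
      rw [hcjy] at h1
      exact sylowMembers_cj p 𝓕 h𝓕 _ _ h1 (w i.val)
    · exact FC.mem_cj_of_mem hyi
    · rw [e1, e2]
      show FC.cj (w i.val * y i * (w i.val)⁻¹)⁻¹ (FC.cj (w (i.val + 1)) (S : Subgroup G)) = _
      rw [← FC.cj_mul, hws i]
      have e : (w i.val * y i * (w i.val)⁻¹)⁻¹ * (w i.val * y i) = w i.val := by group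
      rw [e]
    · intro a ha
      have haA : a ∈ A := by rw [hA]; exact ha
      have h1 := hAY i (Set.mem_image_of_mem _ haA)
      rw [← hw, hws i] at h1
      have h2 : (w i.val * y i)⁻¹ * a * (w i.val * y i) ∈ (S : Subgroup G) := h1.1
      have h3 : (w i.val * y i)⁻¹ * a * (w i.val * y i) ∈ (Y i : Subgroup G) := h1.2
      refine Subgroup.mem_inf.2 ⟨?_, ?_⟩
      · rw [e2, hws i, FC.mem_cj]
        exact ⟨_, h2, by group⟩
      · show a ∈ FC.cj (w i.val) (Y i)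
        rw [← hcjy, ← FC.cj_mul, FC.mem_cj]
        exact ⟨_, h3, by group⟩

theorem main [Finite G] (p : ℕ) [Fact p.Prime] (𝓕 : Set (Subgroup G))
    (h𝓕 : Cfsg.IsNormalSet 𝓕) :
    Cfsg.ControlsSylowIntersections p 𝓕 ↔ Cfsg.FamilyStronglyControlsFusion p 𝓕 :=
  ⟨csi_to_fscf p 𝓕 h𝓕, fscf_to_csi p 𝓕 h𝓕⟩

end Cfsg.Agent.Helper3.SylCtrl
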