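import Mathlib
import Cfsg.Prelude
import Cfsg.Agent.Helper3.FC1
import Cfsg.Agent.Helper3.SylCtrl
import Cfsg.Agent.Helper5.Basic
import Cfsg.Agent.Helper5.StrEmb

set_option autoImplicit false

/-!
# Regularity of a product for a normalizer functor
-/

namespace Cfsg.Agent.Helper3.FReg

variable {G : Type*} [Group G]

theorem map_conj_subtype (M : Subgroup G) (Z : Subgroup ↥M) (m : ↥M) :
    (Z.map (MulAut.conj m).toMonoidHom).map M.subtype = FC.cj (m : G) (Z.map M.subtype) := by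
  have e : M.subtype.comp (MulAut.conj m).toMonoidHom =
      (MulAut.conj (m : G)).toMonoidHom.comp M.subtype := by
    ext z; simp
  unfold FC.cj
  rw [Subgroup.map_map, Subgroup.map_map, e]

theorem subgroupOf_cj (M X : Subgroup G) (n : ↥M) :
    (FC.cj (n : G) X).subgroupOf M = (X.subgroupOf M).map (MulAut.conj n).toMonoidHom := by
  apply Subgroup.map_injective M.subtype_injective
  rw [map_conj_subtype, Subgroup.subgroupOf_map_subtype, Subgroup.subgroupOf_map_subtype,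
    FC.cj_inf, FC.cj_norm (Subgroup.le_normalizer n.2)]

theorem ff_cj {p : ℕ} [Fact p.Prime] {f : Subgroup G → Set (Subgroup G)}
    (hf : Cfsg.IsNormalizerFunctor p f) (M X : Subgroup G)
    (hX : X ∈ Cfsg.functorFamily p f M) (m : G) (hm : m ∈ M) :
    FC.cj m X ∈ Cfsg.functorFamily p f M := by
  obtain ⟨P, F, hF, rfl⟩ := hX
  have hPp : IsPGroup p ↥((P : Subgroup ↥M).map M.subtype) := P.isPGroup'.map _
  refine ⟨(⟨m, hm⟩ : ↥M) • P, FC.cj m F, ?_, ?_⟩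
  · have e1 : (((⟨m, hm⟩ : ↥M) • P : Sylow p ↥M) : Subgroup ↥M).map M.subtype =
        FC.cj m ((P : Subgroup ↥M).map M.subtype) := by
      rw [Sylow.coe_subgroup_smul]
      exact map_conj_subtype M (P : Subgroup ↥M) ⟨m, hm⟩
    rw [e1]
    show FC.cj m F ∈ f (((P : Subgroup ↥M).map M.subtype).map (MulAut.conj m).toMonoidHom)
    rw [(hf _ hPp).2 m]
    exact ⟨F, hF, rfl⟩
  · rw [FC.cj_inf, FC.cj_normalizer, FC.cj_norm (Subgroup.le_normalizer hm)]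

theorem fam_normal {p : ℕ} [Fact p.Prime] {f : Subgroup G → Set (Subgroup G)}
    (hf : Cfsg.IsNormalizerFunctor p f) (M : Subgroup G) :
    Cfsg.IsNormalSet ((fun X : Subgroup G => X.subgroupOf M) '' Cfsg.functorFamily p f M) := by
  intro Y hY m
  obtain ⟨X, hX, rfl⟩ := hY
  refine ⟨FC.cj ((m⁻¹ : ↥M) : G) X, ff_cj hf M X hX _ (m⁻¹).2, ?_⟩
  exact subgroupOf_cj M X m⁻¹

/-- membership in the Sylow members of the functor family, stated in the ambient group -/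
def Mem (p : ℕ) (f : Subgroup G → Set (Subgroup G)) (M S X : Subgroup G) : Prop :=
  X ∈ Cfsg.functorFamily p f M ∧ ¬ p ∣ S.relIndex X

/-- fusion chains, stated in the ambient group -/
inductive FR (p : ℕ) (f : Subgroup G → Set (Subgroup G)) (M S : Subgroup G) (A : Set G) :
    G → Prop
  | base : FR p f M S A 1
  | step {w y : G} (X : Subgroup G) : FR p f M S A w → Mem p f M S X → y ∈ X →
      (∀ a ∈ A, (w * y)⁻¹ * a * (w * y) ∈ S ⊓ X) → FR p f M S A (w * y)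

/-- strong control of fusion, stated in the ambient group -/
def Fus (p : ℕ) (f : Subgroup G → Set (Subgroup G)) (M S : Subgroup G) : Prop :=
  ∀ (A : Set G) (g : G), g ∈ M → A ⊆ (S : Set G) → (∃ a ∈ A, a ≠ 1) →
    (∀ a ∈ A, g⁻¹ * a * g ∈ S) →
    ∃ w y₀, FR p f M S A w ∧ y₀ ∈ Subgroup.normalizer (S : Set G) ∧ y₀ ∈ M ∧ g = w * y₀

theorem reg_to_fus [Finite G] {p : ℕ} [Fact p.Prime] {f : Subgroup G → Set (Subgroup G)}
    (hf : Cfsg.IsNormalizerFunctor p f) (M : Subgroup G) (S : Sylow p G)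
    (hSM : (S : Subgroup G) ≤ M) (hreg : Cfsg.IsFunctorRegular p f M) :
    Fus p f M (S : Subgroup G) := by
  have hfs := SylCtrl.csi_to_fscf (G := ↥M) p _ (fam_normal hf M) hreg
  intro A g hg hAS hne hAg
  obtain ⟨S', hS'⟩ : ∃ S' : Sylow p ↥M, (S' : Subgroup ↥M) = (S : Subgroup G).subgroupOf M :=
    ⟨S.subtype hSM, rfl⟩
  have hS'mem : ∀ z : ↥M, z ∈ (S' : Subgroup ↥M) ↔ (z : G) ∈ (S : Subgroup G) := by
    intro z; rw [hS']; exact Subgroup.mem_subgroupOf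
  obtain ⟨A', hA'⟩ : ∃ A' : Set ↥M, A' = {a : ↥M | (a : G) ∈ A} := ⟨_, rfl⟩
  have h1 : A' ⊆ (S' : Set ↥M) := by
    intro z hz
    rw [hA'] at hz
    exact (hS'mem z).2 (hAS hz)
  have h2 : ∃ a ∈ A', a ≠ 1 := by
    obtain ⟨a, ha, ha1⟩ := hne
    refine ⟨⟨a, hSM (hAS ha)⟩, ?_, ?_⟩
    · rw [hA']; exact ha
    · intro h; apply ha1; exact congrArg Subtype.val h
  have h3 : Cfsg.conjRight (⟨g, hg⟩ : ↥M) A' ⊆ (S' : Set ↥M) := by
    intro z hz
    obtain ⟨a, ha, rfl⟩ := hz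
    rw [hA'] at ha
    exact (hS'mem _).2 (hAg _ ha)
  obtain ⟨n, Y, y, y₀, hy₀, hY, hgy, hAY⟩ := hfs S' A' ⟨g, hg⟩ h1 h2 h3
  have hFR : ∀ k, k ≤ n →
      FR p f M (S : Subgroup G) A ((((List.ofFn y).take k).prod : ↥M) : G) := by
    intro k
    induction k with
    | zero =>
      intro _
      rw [List.take_zero, List.prod_nil]
      exact FR.base
    | succ k ih =>
      intro hk
      have hlen : k < (List.ofFn y).length := by rw [List.length_ofFn]; omega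
      have e1 : ((List.ofFn y).take (k + 1)).prod =
          ((List.ofFn y).take k).prod * y ⟨k, hk⟩ := by
        rw [List.prod_take_succ _ k hlen, List.getElem_ofFn]
      obtain ⟨⟨hYF, hYP⟩, hyY⟩ := hY ⟨k, hk⟩
      obtain ⟨X, hX, hXY⟩ := hYF
      have hXM : X ≤ M := by
        obtain ⟨P, F, hF, hXe⟩ := hX
        rw [hXe]
        exact inf_le_left
      have hrel : ¬ p ∣ (S : Subgroup G).relIndex X := by
        obtain ⟨-, -, h3'⟩ := (SylCtrl.sylow_char p _ _).1 hYP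
        rw [Subgroup.inf_relIndex_right, hS', ← hXY] at h3'
        rw [← Subgroup.relIndex_subgroupOf hXM]
        exact h3'
      rw [e1]
      show FR p f M (S : Subgroup G) A
        ((((List.ofFn y).take k).prod : ↥M) * ((y ⟨k, hk⟩ : ↥M) : G))
      refine FR.step X (ih (by omega)) ⟨hX, hrel⟩ ?_ ?_
      · rw [← hXY] at hyY
        exact Subgroup.mem_subgroupOf.1 hyY
      · intro a ha
        have haA' : (⟨a, hSM (hAS ha)⟩ : ↥M) ∈ A' := by rw [hA']; exact ha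
        have h5 : (((List.ofFn y).take (k + 1)).prod)⁻¹ * (⟨a, hSM (hAS ha)⟩ : ↥M) *
            ((List.ofFn y).take (k + 1)).prod ∈
            (S' : Set ↥M) ∩ (Y ⟨k, hk⟩ : Set ↥M) :=
          hAY ⟨k, hk⟩ (Set.mem_image_of_mem _ haA')
        rw [e1] at h5
        obtain ⟨h6, h7⟩ := h5
        have h7' : (((List.ofFn y).take k).prod * y ⟨k, hk⟩)⁻¹ * (⟨a, hSM (hAS ha)⟩ : ↥M) *
            (((List.ofFn y).take k).prod * y ⟨k, hk⟩) ∈ X.subgroupOf M := by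
          rw [← hXY] at h7
          exact h7
        exact Subgroup.mem_inf.2 ⟨(hS'mem _).1 h6, Subgroup.mem_subgroupOf.1 h7'⟩
  have hy₀N : (y₀ : G) ∈ Subgroup.normalizer ((S : Subgroup G) : Set G) := by
    apply FC.mem_normalizer_of_cj_le
    intro z hz
    obtain ⟨s, hs, rfl⟩ := FC.mem_cj.1 hz
    have h4 : (⟨s, hSM hs⟩ : ↥M) ∈ (S' : Subgroup ↥M) := (hS'mem _).2 hs
    have h5 := (Subgroup.mem_normalizer_iff.1 hy₀ ⟨s, hSM hs⟩).1 h4
    exact (hS'mem _).1 h5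
  refine ⟨_, (y₀ : G), hFR n le_rfl, hy₀N, y₀.2, ?_⟩
  rw [SylCtrl.full_prod]
  exact congrArg Subtype.val hgy

theorem sylow_of_sub [Finite G] {p : ℕ} [Fact p.Prime] (M : Subgroup G) (P : Sylow p ↥M)
    (S : Sylow p G) (hSM : (S : Subgroup G) ≤ M) :
    ∃ m ∈ M, (P : Subgroup ↥M).map M.subtype = FC.cj m (S : Subgroup G) := by
  obtain ⟨m, hm⟩ := Helper5.sylow_conj (S.subtype hSM) P
  refine ⟨(m : G), m.2, ?_⟩
  have e : ((S.subtype hSM : Sylow p ↥M) : Subgroup ↥M).map M.subtype = (S : Subgroup G) :=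
    Subgroup.map_subgroupOf_eq_of_le hSM
  rw [hm, map_conj_subtype, e]

theorem mem_up [Finite G] {p : ℕ} [Fact p.Prime] {f : Subgroup G → Set (Subgroup G)}
    (hf : Cfsg.IsNormalizerFunctor p f) (M : Subgroup G) (S : Sylow p G)
    (hSM : (S : Subgroup G) ≤ M) (X : Subgroup G) (hX : Mem p f M (S : Subgroup G) X) :
    ∃ X', Mem p f ⊤ (S : Subgroup G) X' ∧ X ≤ X' := by
  obtain ⟨⟨P, F, hF, hXe⟩, hrel⟩ := hX
  obtain ⟨m, hm, hPm⟩ := sylow_of_sub M P S hSM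
  have hPp : IsPGroup p ↥((P : Subgroup ↥M).map M.subtype) := P.isPGroup'.map _
  have hFN := ((hf _ hPp).1 F hF).2
  have hPX : (P : Subgroup ↥M).map M.subtype ≤ X := by
    rw [hXe]
    exact le_inf (Subgroup.map_subtype_le _) (Subgroup.le_normalizer.trans hFN)
  have hSX : (S : Subgroup G) ≤ X := by
    obtain ⟨k, hk⟩ := (IsPGroup.iff_card).1 S.isPGroup'
    have hp : p.Prime := Fact.out
    have h1 : Nat.card ↥((S : Subgroup G) ⊓ X) * ((S : Subgroup G) ⊓ X).relIndex X =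
        Nat.card ↥X := by
      have h := Subgroup.relIndex_mul_relIndex ⊥ ((S : Subgroup G) ⊓ X) X bot_le inf_le_right
      rwa [Subgroup.relIndex_bot_left, Subgroup.relIndex_bot_left] at h
    rw [Subgroup.inf_relIndex_right] at h1
    have h2 : p ^ k ∣ Nat.card ↥X := by
      rw [← hk, ← FC.card_cj m (S : Subgroup G), ← hPm]
      exact Subgroup.card_dvd_of_le hPX
    rw [← h1] at h2
    have hcop : Nat.Coprime (p ^ k) ((S : Subgroup G).relIndex X) :=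
      Nat.Coprime.pow_left k ((Nat.Prime.coprime_iff_not_dvd hp).2 hrel)
    have h3 : p ^ k ∣ Nat.card ↥((S : Subgroup G) ⊓ X) := hcop.dvd_of_dvd_mul_right h2
    have h4 : Nat.card ↥(S : Subgroup G) ≤ Nat.card ↥((S : Subgroup G) ⊓ X) := by
      rw [hk]; exact Nat.le_of_dvd Nat.card_pos h3
    have h5 : (S : Subgroup G) ⊓ X = (S : Subgroup G) :=
      Subgroup.eq_of_le_of_card_ge inf_le_left h4
    exact inf_eq_left.1 h5
  refine ⟨⊤ ⊓ Subgroup.normalizer (F : Set G), ⟨?_, ?_⟩, ?_⟩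
  · obtain ⟨T, hT⟩ : ∃ T : Sylow p G, (T : Subgroup G) = FC.cj m (S : Subgroup G) :=
      ⟨m • S, by rw [Sylow.coe_subgroup_smul]; rfl⟩
    refine ⟨T.subtype le_top, F, ?_, rfl⟩
    have e : ((T.subtype le_top : Sylow p ↥(⊤ : Subgroup G)) :
        Subgroup ↥(⊤ : Subgroup G)).map (⊤ : Subgroup G).subtype =
        (P : Subgroup ↥M).map M.subtype := by
      rw [hPm, ← hT]
      exact Subgroup.map_subgroupOf_eq_of_le le_top
    rw [e]; exact hF
  · have hSX' : (S : Subgroup G) ≤ ⊤ ⊓ Subgroup.normalizer (F : Set G) := by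
      rw [top_inf_eq]
      exact hSX.trans (by rw [hXe]; exact inf_le_right)
    intro hdvd
    exact S.not_dvd_index (hdvd.trans (Subgroup.relIndex_dvd_index_of_le hSX'))
  · rw [hXe]; exact inf_le_inf_right _ le_top

theorem FR_up [Finite G] {p : ℕ} [Fact p.Prime] {f : Subgroup G → Set (Subgroup G)}
    (hf : Cfsg.IsNormalizerFunctor p f) (M : Subgroup G) (S : Sylow p G)
    (hSM : (S : Subgroup G) ≤ M) (A : Set G) (w : G)
    (h : FR p f M (S : Subgroup G) A w) : FR p f ⊤ (S : Subgroup G) A w := by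
  induction h with
  | base => exact FR.base
  | @step w y X _ hX hy hA ih =>
    obtain ⟨X', hX', hle⟩ := mem_up hf M S hSM X hX
    exact FR.step X' ih hX' (hle hy) (fun a ha => Subgroup.mem_inf.2
      ⟨(Subgroup.mem_inf.1 (hA a ha)).1, hle (Subgroup.mem_inf.1 (hA a ha)).2⟩)

theorem mem_cj_top {p : ℕ} [Fact p.Prime] {f : Subgroup G → Set (Subgroup G)}
    (hf : Cfsg.IsNormalizerFunctor p f) (S X : Subgroup G) (u : G)
    (hX : Mem p f ⊤ S X) : Mem p f ⊤ (FC.cj u S) (FC.cj u X) := by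
  refine ⟨ff_cj hf ⊤ X hX.1 u (Subgroup.mem_top u), ?_⟩
  have h4 : (FC.cj u S).relIndex (FC.cj u X) = S.relIndex X :=
    Subgroup.relIndex_map_map_of_injective _ _ (MulAut.conj u).injective
  rw [h4]; exact hX.2

theorem FR_conj {p : ℕ} [Fact p.Prime] {f : Subgroup G → Set (Subgroup G)}
    (hf : Cfsg.IsNormalizerFunctor p f) (S : Subgroup G) (A : Set G) (u w : G)
    (h : FR p f ⊤ S A w) :
    FR p f ⊤ (FC.cj u S) ((fun a => u * a * u⁻¹) '' A) (u * w * u⁻¹) := by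
  induction h with
  | base =>
    have e : u * 1 * u⁻¹ = 1 := by group
    rw [e]; exact FR.base
  | @step w y X _ hX hy hA ih =>
    have e : u * (w * y) * u⁻¹ = (u * w * u⁻¹) * (u * y * u⁻¹) := by group
    rw [e]
    refine FR.step (FC.cj u X) ih (mem_cj_top hf S X u hX) (FC.mem_cj_of_mem hy) ?_
    intro b hb
    obtain ⟨a, ha, rfl⟩ := hb
    rw [← FC.cj_inf, FC.mem_cj]
    refine ⟨_, hA a ha, ?_⟩
    show u * ((w * y)⁻¹ * a * (w * y)) * u⁻¹ =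
      (u * w * u⁻¹ * (u * y * u⁻¹))⁻¹ * (u * a * u⁻¹) * (u * w * u⁻¹ * (u * y * u⁻¹))
    group

theorem FR_append {p : ℕ} {f : Subgroup G → Set (Subgroup G)} (M S : Subgroup G) (A : Set G)
    (w₁ w : G) (h1 : FR p f M S A w₁)
    (h2 : FR p f M S ((fun a => w₁⁻¹ * a * w₁) '' A) w) : FR p f M S A (w₁ * w) := by
  induction h2 with
  | base => rw [mul_one]; exact h1
  | @step w y X _ hX hy hA ih =>
    rw [← mul_assoc]
    refine FR.step X ih hX hy ?_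
    intro a ha
    have h3 := hA _ (Set.mem_image_of_mem _ ha)
    have e : (w₁ * w * y)⁻¹ * a * (w₁ * w * y) = (w * y)⁻¹ * (w₁⁻¹ * a * w₁) * (w * y) := by
      group
    rw [e]; exact h3

theorem combine [Finite G] {p : ℕ} [Fact p.Prime] {f : Subgroup G → Set (Subgroup G)}
    (hf : Cfsg.IsNormalizerFunctor p f) (S : Sylow p G) (G₁ G₂ : Subgroup G)
    (h₁ : (S : Subgroup G) ≤ G₁) (h₂ : (S : Subgroup G) ≤ G₂)
    (hprod : ∀ g : G, ∃ g₁ ∈ G₁, ∃ g₂ ∈ G₂, g = g₁ * g₂)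
    (hF₁ : Fus p f G₁ (S : Subgroup G)) (hF₂ : Fus p f G₂ (S : Subgroup G)) :
    Fus p f ⊤ (S : Subgroup G) := by
  intro A g _ hAS hne hAg
  obtain ⟨g₁, hg₁, g₂, hg₂, rfl⟩ := hprod g
  obtain ⟨Q, hQ⟩ : ∃ Q, Q = FC.cj g₁⁻¹ (S : Subgroup G) ⊓ FC.cj g₂ (S : Subgroup G) :=
    ⟨_, rfl⟩
  have hQp : IsPGroup p ↥Q := by
    have h : IsPGroup p ↥(FC.cj g₁⁻¹ (S : Subgroup G)) := FC.isPGroup_cj S.isPGroup' _
    rw [hQ]
    exact h.to_le inf_le_left
  have hQ1 : Q ≤ G₁ := by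
    rw [hQ]
    refine inf_le_left.trans ?_
    intro z hz
    obtain ⟨s, hs, rfl⟩ := FC.mem_cj.1 hz
    exact G₁.mul_mem (G₁.mul_mem (G₁.inv_mem hg₁) (h₁ hs)) (by rw [inv_inv]; exact hg₁)
  have hQ2 : Q ≤ G₂ := by
    rw [hQ]
    refine inf_le_right.trans ?_
    intro z hz
    obtain ⟨s, hs, rfl⟩ := FC.mem_cj.1 hz
    exact G₂.mul_mem (G₂.mul_mem hg₂ (h₂ hs)) (G₂.inv_mem hg₂)
  have hAQ : ∀ a ∈ A, g₁⁻¹ * a * g₁ ∈ Q := by
    intro a ha
    rw [hQ]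
    refine Subgroup.mem_inf.2 ⟨?_, ?_⟩
    · rw [FC.mem_cj]
      exact ⟨a, hAS ha, by rw [inv_inv]⟩
    · rw [FC.mem_cj]
      exact ⟨_, hAg a ha, by group⟩
  obtain ⟨d, hd, hQd⟩ := Helper5.exists_conj_le_sylow_in_subgroup S (G₁ ⊓ G₂) (le_inf h₁ h₂) Q
    (le_inf hQ1 hQ2) hQp
  have hd1 : d ∈ G₁ := (Subgroup.mem_inf.1 hd).1
  have hd2 : d ∈ G₂ := (Subgroup.mem_inf.1 hd).2
  have hAd : ∀ a ∈ A, (g₁ * d)⁻¹ * a * (g₁ * d) ∈ (S : Subgroup G) := by
    intro a ha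
    have h : g₁⁻¹ * a * g₁ ∈ FC.cj d (S : Subgroup G) := hQd (hAQ a ha)
    obtain ⟨s, hs, hse⟩ := FC.mem_cj.1 h
    have e : (g₁ * d)⁻¹ * a * (g₁ * d) = s := by
      calc (g₁ * d)⁻¹ * a * (g₁ * d) = d⁻¹ * (g₁⁻¹ * a * g₁) * d := by group
        _ = d⁻¹ * (d * s * d⁻¹) * d := by rw [hse]
        _ = s := by group
    rw [e]; exact hs
  obtain ⟨w₁, u₁, hw₁, hu₁N, hu₁, hgd⟩ :=
    hF₁ A (g₁ * d) (G₁.mul_mem hg₁ hd1) hAS hne hAd
  obtain ⟨B, hB⟩ : ∃ B : Set G, B = (fun a => (g₁ * d)⁻¹ * a * (g₁ * d)) '' A := ⟨_, rfl⟩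
  have hBS : B ⊆ ((S : Subgroup G) : Set G) := by
    rw [hB]; intro z hz
    obtain ⟨a, ha, rfl⟩ := hz
    exact hAd a ha
  have hBne : ∃ b ∈ B, b ≠ 1 := by
    obtain ⟨a, ha, ha1⟩ := hne
    refine ⟨(g₁ * d)⁻¹ * a * (g₁ * d), by rw [hB]; exact Set.mem_image_of_mem _ ha, ?_⟩
    intro h
    apply ha1
    calc a = (g₁ * d) * ((g₁ * d)⁻¹ * a * (g₁ * d)) * (g₁ * d)⁻¹ := by group
      _ = 1 := by rw [h]; group
  have hBg : ∀ b ∈ B, (d⁻¹ * g₂)⁻¹ * b * (d⁻¹ * g₂) ∈ (S : Subgroup G) := by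
    intro b hb
    rw [hB] at hb
    obtain ⟨a, ha, rfl⟩ := hb
    have e : (d⁻¹ * g₂)⁻¹ * ((g₁ * d)⁻¹ * a * (g₁ * d)) * (d⁻¹ * g₂) =
        (g₁ * g₂)⁻¹ * a * (g₁ * g₂) := by
      group
    show (d⁻¹ * g₂)⁻¹ * ((g₁ * d)⁻¹ * a * (g₁ * d)) * (d⁻¹ * g₂) ∈ (S : Subgroup G)
    rw [e]; exact hAg a ha
  obtain ⟨w₂, u₂, hw₂, hu₂N, hu₂, hgd2⟩ :=
    hF₂ B (d⁻¹ * g₂) (G₂.mul_mem (G₂.inv_mem hd2) hg₂) hBS hBne hBg
  have hw₁' := FR_up hf G₁ S h₁ A w₁ hw₁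
  have hw₂' := FR_up hf G₂ S h₂ B w₂ hw₂
  have hw₂'' := FR_conj hf (S : Subgroup G) B u₁ w₂ hw₂'
  rw [FC.cj_norm hu₁N] at hw₂''
  have hBA : (fun a => u₁ * a * u₁⁻¹) '' B = (fun a => w₁⁻¹ * a * w₁) '' A := by
    rw [hB, Set.image_image]
    apply Set.image_congr
    intro a _
    show u₁ * ((g₁ * d)⁻¹ * a * (g₁ * d)) * u₁⁻¹ = w₁⁻¹ * a * w₁
    rw [hgd]
    group
  rw [hBA] at hw₂''
  refine ⟨w₁ * (u₁ * w₂ * u₁⁻¹), u₁ * u₂, FR_append ⊤ _ A w₁ _ hw₁' hw₂'', ?_,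
    Subgroup.mem_top _, ?_⟩
  · exact Subgroup.mul_mem _ hu₁N hu₂N
  · calc g₁ * g₂ = (g₁ * d) * (d⁻¹ * g₂) := by group
      _ = (w₁ * u₁) * (w₂ * u₂) := by rw [hgd, hgd2]
      _ = w₁ * (u₁ * w₂ * u₁⁻¹) * (u₁ * u₂) := by group

theorem Fus_conj {p : ℕ} [Fact p.Prime] {f : Subgroup G → Set (Subgroup G)}
    (hf : Cfsg.IsNormalizerFunctor p f) (S : Subgroup G) (hF : Fus p f ⊤ S) (u : G) :
    Fus p f ⊤ (FC.cj u S) := by
  intro A g _ hAS hne hAg
  obtain ⟨A₀, hA₀⟩ : ∃ A₀ : Set G, A₀ = (fun a => u⁻¹ * a * u) '' A := ⟨_, rfl⟩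
  have h1 : A₀ ⊆ (S : Set G) := by
    rw [hA₀]; intro z hz
    obtain ⟨a, ha, rfl⟩ := hz
    have haS : a ∈ FC.cj u S := hAS ha
    obtain ⟨s, hs, hse⟩ := FC.mem_cj.1 haS
    have e : u⁻¹ * a * u = s := by rw [← hse]; group
    show u⁻¹ * a * u ∈ S
    rw [e]; exact hs
  have h2 : ∃ a ∈ A₀, a ≠ 1 := by
    obtain ⟨a, ha, ha1⟩ := hne
    refine ⟨u⁻¹ * a * u, by rw [hA₀]; exact Set.mem_image_of_mem _ ha, ?_⟩
    intro h
    apply ha1
    calc a = u * (u⁻¹ * a * u) * u⁻¹ := by group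
      _ = 1 := by rw [h]; group
  have h3 : ∀ a ∈ A₀, (u⁻¹ * g * u)⁻¹ * a * (u⁻¹ * g * u) ∈ S := by
    intro b hb
    rw [hA₀] at hb
    obtain ⟨a, ha, rfl⟩ := hb
    obtain ⟨s, hs, hse⟩ := FC.mem_cj.1 (hAg a ha)
    have e : (u⁻¹ * g * u)⁻¹ * (u⁻¹ * a * u) * (u⁻¹ * g * u) = s := by
      calc (u⁻¹ * g * u)⁻¹ * (u⁻¹ * a * u) * (u⁻¹ * g * u) = u⁻¹ * (g⁻¹ * a * g) * u := by
            group
        _ = u⁻¹ * (u * s * u⁻¹) * u := by rw [hse]
        _ = s := by group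
    show (u⁻¹ * g * u)⁻¹ * (u⁻¹ * a * u) * (u⁻¹ * g * u) ∈ S
    rw [e]; exact hs
  obtain ⟨w, y₀, hw, hy₀, -, hg⟩ := hF A₀ (u⁻¹ * g * u) (Subgroup.mem_top _) h1 h2 h3
  have hw' := FR_conj hf S A₀ u w hw
  have hAA : (fun a => u * a * u⁻¹) '' A₀ = A := by
    rw [hA₀, Set.image_image]
    have hid : (fun a => u * (u⁻¹ * a * u) * u⁻¹) = id := by
      funext a
      show u * (u⁻¹ * a * u) * u⁻¹ = a
      group
    rw [hid, Set.image_id]
  rw [hAA] at hw'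
  refine ⟨u * w * u⁻¹, u * y₀ * u⁻¹, hw', ?_, Subgroup.mem_top _, ?_⟩
  · rw [← FC.cj_normalizer]
    exact FC.mem_cj_of_mem hy₀
  · calc g = u * (u⁻¹ * g * u) * u⁻¹ := by group
      _ = u * (w * y₀) * u⁻¹ := by rw [hg]
      _ = u * w * u⁻¹ * (u * y₀ * u⁻¹) := by group

theorem fus_to_reg [Finite G] {p : ℕ} [Fact p.Prime] {f : Subgroup G → Set (Subgroup G)}
    (hf : Cfsg.IsNormalizerFunctor p f) (S : Sylow p G)
    (hF : Fus p f ⊤ (S : Subgroup G)) : Cfsg.IsFunctorRegular p f ⊤ := by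
  show Cfsg.ControlsSylowIntersections p
    ((fun X : Subgroup G => X.subgroupOf ⊤) '' Cfsg.functorFamily p f ⊤)
  apply SylCtrl.fscf_to_csi (G := ↥(⊤ : Subgroup G)) p _ (fam_normal hf ⊤)
  intro S' A' g' hAS' hne' hAg'
  obtain ⟨u', hu'⟩ := Helper5.sylow_conj (S.subtype le_top) S'
  obtain ⟨T, hT⟩ : ∃ T : Subgroup G, T = FC.cj (u' : G) (S : Subgroup G) := ⟨_, rfl⟩
  have hS'T : (S' : Subgroup ↥(⊤ : Subgroup G)) = T.subgroupOf ⊤ := by
    rw [hu', hT]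
    exact (subgroupOf_cj ⊤ (S : Subgroup G) u').symm
  have hS'mem : ∀ z : ↥(⊤ : Subgroup G),
      z ∈ (S' : Subgroup ↥(⊤ : Subgroup G)) ↔ (z : G) ∈ T := by
    intro z; rw [hS'T]; exact Subgroup.mem_subgroupOf
  have hFT : Fus p f ⊤ T := by rw [hT]; exact Fus_conj hf _ hF _
  obtain ⟨A, hA⟩ : ∃ A : Set G, A = Subtype.val '' A' := ⟨_, rfl⟩
  have h1 : A ⊆ (T : Set G) := by
    rw [hA]; intro z hz
    obtain ⟨a, ha, rfl⟩ := hz
    exact (hS'mem a).1 (hAS' ha)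
  have h2 : ∃ a ∈ A, a ≠ 1 := by
    obtain ⟨a, ha, ha1⟩ := hne'
    refine ⟨(a : G), by rw [hA]; exact Set.mem_image_of_mem _ ha, ?_⟩
    intro h; apply ha1; exact Subtype.ext h
  have h3 : ∀ a ∈ A, (g' : G)⁻¹ * a * (g' : G) ∈ T := by
    intro b hb
    rw [hA] at hb
    obtain ⟨a, ha, rfl⟩ := hb
    exact (hS'mem _).1 (hAg' (Set.mem_image_of_mem _ ha))
  obtain ⟨w, y₀, hw, hy₀, -, hg⟩ := hFT A (g' : G) (Subgroup.mem_top _) h1 h2 h3
  have key : ∀ w : G, FR p f ⊤ T A w →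
      ∃ (n : ℕ) (Y : Fin n → Subgroup ↥(⊤ : Subgroup G)) (y : Fin n → ↥(⊤ : Subgroup G)),
      (∀ i : Fin n, Y i ∈ Cfsg.sylowMembers p
        ((fun X : Subgroup G => X.subgroupOf ⊤) '' Cfsg.functorFamily p f ⊤)
        (S' : Subgroup ↥(⊤ : Subgroup G)) ∧ y i ∈ Y i) ∧
      w = (((List.ofFn y).prod : ↥(⊤ : Subgroup G)) : G) ∧
      ∀ i : Fin n, Cfsg.conjRight (((List.ofFn y).take (i.val + 1)).prod) A' ⊆
        (S' : Set ↥(⊤ : Subgroup G)) ∩ (Y i : Set ↥(⊤ : Subgroup G)) := by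
    intro w hw
    induction hw with
    | base =>
      refine ⟨0, fun i => i.elim0, fun i => i.elim0, fun i => i.elim0, ?_, fun i => i.elim0⟩
      simp
    | @step w y X _ hX hy hAc ih =>
      obtain ⟨n, Y, yy, hY, hprod, hpart⟩ := ih
      obtain ⟨ynew, hynew⟩ : ∃ ynew : ↥(⊤ : Subgroup G), (ynew : G) = y :=
        ⟨⟨y, Subgroup.mem_top y⟩, rfl⟩
      have hl : List.ofFn (Fin.snoc yy ynew : Fin (n + 1) → ↥(⊤ : Subgroup G)) =
          List.ofFn yy ++ [ynew] := by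
        rw [List.ofFn_succ']
        simp [List.concat_eq_append]
      have hXmem : X.subgroupOf ⊤ ∈ Cfsg.sylowMembers p
          ((fun X : Subgroup G => X.subgroupOf ⊤) '' Cfsg.functorFamily p f ⊤)
          (S' : Subgroup ↥(⊤ : Subgroup G)) := by
        refine ⟨⟨X, hX.1, rfl⟩, ?_⟩
        refine (SylCtrl.sylow_char p _ _).2 ⟨inf_le_right, ?_, ?_⟩
        · exact S'.isPGroup'.to_le inf_le_left
        · rw [Subgroup.inf_relIndex_right, hS'T, Subgroup.relIndex_subgroupOf le_top]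
          exact hX.2
      refine ⟨n + 1, (Fin.snoc Y (X.subgroupOf ⊤) : Fin (n + 1) → Subgroup ↥(⊤ : Subgroup G)),
        (Fin.snoc yy ynew : Fin (n + 1) → ↥(⊤ : Subgroup G)), ?_, ?_, ?_⟩
      · intro i
        refine Fin.lastCases ?_ (fun j => ?_) i
        · rw [Fin.snoc_last, Fin.snoc_last]
          exact ⟨hXmem, Subgroup.mem_subgroupOf.2 (by rw [hynew]; exact hy)⟩
        · rw [Fin.snoc_castSucc, Fin.snoc_castSucc]; exact hY j
      · rw [hl, List.prod_append, List.prod_singleton]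
        show w * y = ((List.ofFn yy).prod : G) * (ynew : G)
        rw [hynew, ← hprod]
      · intro i
        refine Fin.lastCases ?_ (fun j => ?_) i
        · rw [Fin.snoc_last, hl]
          have e5 : (List.ofFn yy ++ [ynew]).take ((Fin.last n).val + 1) =
              List.ofFn yy ++ [ynew] := by
            apply List.take_of_length_le
            simp
          rw [e5, List.prod_append, List.prod_singleton]
          intro z hz
          obtain ⟨a, ha, rfl⟩ := hz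
          have h5 := hAc (a : G) (by rw [hA]; exact Set.mem_image_of_mem _ ha)
          rw [hprod, ← hynew] at h5
          obtain ⟨h6, h7⟩ := Subgroup.mem_inf.1 h5
          exact ⟨(hS'mem _).2 h6, Subgroup.mem_subgroupOf.2 h7⟩
        · rw [Fin.snoc_castSucc, hl]
          have e7 : (List.ofFn yy ++ [ynew]).take ((Fin.castSucc j).val + 1) =
              (List.ofFn yy).take (j.val + 1) := by
            apply List.take_append_of_le_length
            rw [List.length_ofFn]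
            exact j.isLt
          rw [e7]
          exact hpart j
  obtain ⟨n, Y, y, hY, hprod, hpart⟩ := key w hw
  have hy₀' : (⟨y₀, Subgroup.mem_top y₀⟩ : ↥(⊤ : Subgroup G)) ∈
      Subgroup.normalizer ((S' : Subgroup ↥(⊤ : Subgroup G)) : Set ↥(⊤ : Subgroup G)) := by
    rw [Subgroup.mem_normalizer_iff]
    intro z
    rw [hS'mem, hS'mem]
    exact Subgroup.mem_normalizer_iff.1 hy₀ (z : G)
  refine ⟨n, Y, y, ⟨y₀, Subgroup.mem_top y₀⟩, hy₀', hY, ?_, hpart⟩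
  apply Subtype.ext
  show (g' : G) = ((List.ofFn y).prod : G) * y₀
  rw [← hprod]; exact hg

/-- If `G = G₁ G₂` with both factors containing a Sylow `p`-subgroup and regular for the
normalizer functor `f`, then `G` is regular for `f`. -/
theorem functor_regular_product [Finite G] (p : ℕ) [Fact p.Prime]
    (f : Subgroup G → Set (Subgroup G)) (hf : Cfsg.IsNormalizerFunctor p f) (S : Sylow p G)
    (G₁ G₂ : Subgroup G) (h₁ : (S : Subgroup G) ≤ G₁) (h₂ : (S : Subgroup G) ≤ G₂)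
    (hprod : ∀ g : G, ∃ g₁ ∈ G₁, ∃ g₂ ∈ G₂, g = g₁ * g₂)
    (hr₁ : Cfsg.IsFunctorRegular p f G₁) (hr₂ : Cfsg.IsFunctorRegular p f G₂) :
    Cfsg.IsFunctorRegular p f ⊤ :=
  fus_to_reg hf S (combine hf S G₁ G₂ h₁ h₂ hprod (reg_to_fus hf G₁ S h₁ hr₁)
    (reg_to_fus hf G₂ S h₂ hr₂))

end Cfsg.Agent.Helper3.FReg
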