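import Mathlib
import Cfsg.Prelude
import Cfsg.Agent.Helper3.FC1
import Cfsg.Agent.Helper3.SylCtrl
import Cfsg.Agent.Helper3.FReg
import Cfsg.Agent.Helper4.RelSylow
import Cfsg.Agent.Helper5.Basic
import Cfsg.Agent.Helper6.FrobNPC

set_option autoImplicit false

/-!
# The functor family together with the singular maximal `p`-locals controls Sylow intersections
-/

namespace Cfsg.Agent.Helper3.FReg2

variable {G : Type*} [Group G]

/-- `Q` is a Sylow `p`-subgroup of `M`, stated in the ambient group. -/
def IsSyl (p : ℕ) (M Q : Subgroup G) : Prop :=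
  Q ≤ M ∧ IsPGroup p ↥Q ∧ ¬ p ∣ Q.relIndex M

theorem isSyl_iff [Finite G] (p : ℕ) [Fact p.Prime] (M Q : Subgroup G) :
    IsSyl p M Q ↔ ∃ P : Sylow p ↥M, (P : Subgroup ↥M).map M.subtype = Q :=
  (SylCtrl.sylow_char p Q M).symm

theorem isSyl_map [Finite G] (p : ℕ) [Fact p.Prime] (M : Subgroup G) (P : Sylow p ↥M) :
    IsSyl p M ((P : Subgroup ↥M).map M.subtype) :=
  (isSyl_iff p M _).2 ⟨P, rfl⟩

theorem syl_conj [Finite G] {p : ℕ} [Fact p.Prime] {M Q Q' : Subgroup G}
    (h : IsSyl p M Q) (h' : IsSyl p M Q') : ∃ m ∈ M, Q' = FC.cj m Q := by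
  obtain ⟨P, rfl⟩ := (isSyl_iff p M Q).1 h
  obtain ⟨P', rfl⟩ := (isSyl_iff p M Q').1 h'
  obtain ⟨m, hm⟩ := Helper5.sylow_conj P P'
  exact ⟨(m : G), m.2, by rw [hm, FReg.map_conj_subtype]⟩

theorem syl_card [Finite G] {p : ℕ} [Fact p.Prime] {M Q Q' : Subgroup G}
    (h : IsSyl p M Q) (h' : IsSyl p M Q') : Nat.card ↥Q' = Nat.card ↥Q := by
  obtain ⟨m, -, rfl⟩ := syl_conj h h'
  exact FC.card_cj m Q

theorem syl_exists_ge [Finite G] {p : ℕ} [Fact p.Prime] {M R : Subgroup G}
    (hRM : R ≤ M) (hR : IsPGroup p ↥R) : ∃ Q, IsSyl p M Q ∧ R ≤ Q := by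
  have hR' : IsPGroup p ↥(R.subgroupOf M) := hR.comap_subtype
  obtain ⟨P, hP⟩ := hR'.exists_le_sylow
  refine ⟨(P : Subgroup ↥M).map M.subtype, isSyl_map p M P, ?_⟩
  have h1 : (R.subgroupOf M).map M.subtype ≤ (P : Subgroup ↥M).map M.subtype :=
    Subgroup.map_mono hP
  rw [Subgroup.map_subgroupOf_eq_of_le hRM] at h1
  exact h1

theorem syl_members [Finite G] {p : ℕ} [Fact p.Prime] {M Q : Subgroup G} (h : IsSyl p M Q)
    (𝓗 : Set (Subgroup G)) (hM : M ∈ 𝓗) (U : Sylow p G) (hQU : Q ≤ U) :
    M ∈ Cfsg.sylowMembers p 𝓗 (U : Subgroup G) := by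
  refine ⟨hM, (SylCtrl.sylow_char p _ _).2 ⟨inf_le_right, U.isPGroup'.to_le inf_le_left, ?_⟩⟩
  rw [Subgroup.inf_relIndex_right]
  intro hdvd
  exact h.2.2 (hdvd.trans (Subgroup.relIndex_dvd_of_le_left M hQU))

theorem exists_maxPLocal [Finite G] (p : ℕ) (K : Subgroup G) (hK : Cfsg.IsPLocal p K) :
    ∃ M, Cfsg.IsMaximalPLocal p M ∧ K ≤ M := by
  obtain ⟨M, hKM, hM⟩ := Finite.exists_le_maximal (p := Cfsg.IsPLocal p) hK
  exact ⟨M, ⟨hM.1, fun N hN hMN => le_antisymm (hM.2 hN hMN) hMN⟩, hKM⟩

theorem le_of_card_eq_of_not_dvd [Finite G] {p : ℕ} [Fact p.Prime] {R P₀ X : Subgroup G}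
    (hR : IsPGroup p ↥R) (hcard : Nat.card ↥P₀ = Nat.card ↥R) (hPX : P₀ ≤ X)
    (hrel : ¬ p ∣ R.relIndex X) : R ≤ X := by
  obtain ⟨k, hk⟩ := (IsPGroup.iff_card).1 hR
  have hp : p.Prime := Fact.out
  have h1 : Nat.card ↥(R ⊓ X) * (R ⊓ X).relIndex X = Nat.card ↥X := by
    have h := Subgroup.relIndex_mul_relIndex ⊥ (R ⊓ X) X bot_le inf_le_right
    rwa [Subgroup.relIndex_bot_left, Subgroup.relIndex_bot_left] at h
  rw [Subgroup.inf_relIndex_right] at h1
  have h2 : p ^ k ∣ Nat.card ↥X := by
    rw [← hk, ← hcard]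
    exact Subgroup.card_dvd_of_le hPX
  rw [← h1] at h2
  have hcop : Nat.Coprime (p ^ k) (R.relIndex X) :=
    Nat.Coprime.pow_left k ((Nat.Prime.coprime_iff_not_dvd hp).2 hrel)
  have h3 : p ^ k ∣ Nat.card ↥(R ⊓ X) := hcop.dvd_of_dvd_mul_right h2
  have h4 : Nat.card ↥R ≤ Nat.card ↥(R ⊓ X) := by
    rw [hk]; exact Nat.le_of_dvd Nat.card_pos h3
  exact inf_eq_left.1 (Subgroup.eq_of_le_of_card_ge inf_le_left h4)

theorem mem_map_subtype (M : Subgroup G) (Z : Subgroup ↥M) (z : ↥M) :
    (z : G) ∈ Z.map M.subtype ↔ z ∈ Z := by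
  constructor
  · rintro ⟨w, hw, hwz⟩
    have : w = z := Subtype.ext hwz
    rw [← this]; exact hw
  · intro h; exact ⟨z, h, rfl⟩

/-- chains of Sylow subgroups relative to a family, keeping `D` inside -/
inductive Rel (p : ℕ) (𝓗 : Set (Subgroup G)) (D : Subgroup G) (S : Sylow p G) :
    Sylow p G → Prop
  | refl : Rel p 𝓗 D S S
  | step {T U : Sylow p G} (X : Subgroup G) (x : G) : Rel p 𝓗 D S T →
      X ∈ Cfsg.sylowMembers p 𝓗 (T : Subgroup G) →
      X ∈ Cfsg.sylowMembers p 𝓗 (U : Subgroup G) →
      x ∈ X → FC.cj x⁻¹ (U : Subgroup G) = (T : Subgroup G) → D ≤ (U : Subgroup G) ⊓ X →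
      Rel p 𝓗 D S U

theorem Rel.trans {p : ℕ} {𝓗 : Set (Subgroup G)} {D : Subgroup G} {S T U : Sylow p G}
    (h1 : Rel p 𝓗 D S T) (h2 : Rel p 𝓗 D T U) : Rel p 𝓗 D S U := by
  induction h2 with
  | refl => exact h1
  | step X x _ hT hU hx hc hD ih => exact Rel.step X x ih hT hU hx hc hD

theorem Rel.mono {p : ℕ} {𝓗 : Set (Subgroup G)} {D D' : Subgroup G} (hD : D' ≤ D)
    {S T : Sylow p G} (h : Rel p 𝓗 D S T) : Rel p 𝓗 D' S T := by
  induction h with
  | refl => exact Rel.refl
  | step X x _ hT hU hx hc hDD ih => exact Rel.step X x ih hT hU hx hc (hD.trans hDD)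

theorem Rel.to_chain {p : ℕ} {𝓗 : Set (Subgroup G)} {D : Subgroup G} {S T : Sylow p G}
    (h : Rel p 𝓗 D S T) :
    ∃ (n : ℕ) (c : Fin (n + 1) → Sylow p G) (X : Fin n → Subgroup G) (x : Fin n → G),
      c 0 = S ∧ c (Fin.last n) = T ∧
      ∀ i : Fin n,
        X i ∈ Cfsg.sylowMembers p 𝓗 (c i.castSucc : Subgroup G) ∧
        X i ∈ Cfsg.sylowMembers p 𝓗 (c i.succ : Subgroup G) ∧
        x i ∈ X i ∧
        Cfsg.subgroupConjRight (x i) (c i.succ : Subgroup G) = (c i.castSucc : Subgroup G) ∧
        D ≤ (c i.succ : Subgroup G) ⊓ X i := by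
  induction h with
  | refl =>
    exact ⟨0, fun _ => S, fun i => i.elim0, fun i => i.elim0, rfl, rfl, fun i => i.elim0⟩
  | @step T U X₁ x₁ _ hT hU hx hc hD ih =>
    obtain ⟨n, c, X, x, hc0, hcn, hstep⟩ := ih
    refine ⟨n + 1, (Fin.snoc c U : Fin (n + 2) → Sylow p G),
      (Fin.snoc X X₁ : Fin (n + 1) → Subgroup G), (Fin.snoc x x₁ : Fin (n + 1) → G),
      ?_, ?_, ?_⟩
    · have e : (0 : Fin (n + 2)) = Fin.castSucc (0 : Fin (n + 1)) := rfl
      rw [e, Fin.snoc_castSucc]; exact hc0
    · rw [Fin.snoc_last]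
    · intro i
      refine Fin.lastCases ?_ (fun j => ?_) i
      · have e1 : (Fin.last n).succ = Fin.last (n + 1) := Fin.succ_last n
        rw [e1]
        simp only [Fin.snoc_last, Fin.snoc_castSucc, hcn]
        exact ⟨hT, hU, hx, hc, hD⟩
      · have e2 : (Fin.castSucc j).succ = Fin.castSucc j.succ := Fin.succ_castSucc j
        rw [e2]
        simp only [Fin.snoc_castSucc]
        exact hstep j

theorem rel_main [Finite G] (p : ℕ) [Fact p.Prime] (f : Subgroup G → Set (Subgroup G))
    (hf : Cfsg.IsNormalizerFunctor p f)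
    (hf1 : ∀ P : Subgroup G, IsPGroup p ↥P → P ≠ ⊥ → ∀ F ∈ f P, F ≠ ⊥)
    (𝓗 : Set (Subgroup G))
    (h𝓗 : 𝓗 = Cfsg.functorFamily p f ⊤ ∪
      {M | Cfsg.IsMaximalPLocal p M ∧ ¬ Cfsg.IsFunctorRegular p f M}) :
    ∀ (k : ℕ) (D : Subgroup G), Nat.card G - Nat.card ↥D = k → D ≠ ⊥ →
      ∀ S T : Sylow p G, D ≤ S → D ≤ T → Rel p 𝓗 D S T := by
  intro k
  induction k using Nat.strong_induction_on with
  | _ k IH =>
    intro D hk hD S T hDS hDT
    have hDpos : 0 < Nat.card ↥D := Nat.card_pos
    have OIH : ∀ Q : Subgroup G, D ≤ Q → Nat.card ↥D < Nat.card ↥Q → ∀ U V : Sylow p G,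
        Q ≤ U → Q ≤ V → Rel p 𝓗 D U V := by
      intro Q hDQ hlt U V hQU hQV
      have hQne : Q ≠ ⊥ := by
        intro h; apply hD; rw [h] at hDQ; exact le_bot_iff.1 hDQ
      have hcQ : Nat.card ↥Q ≤ Nat.card G := Subgroup.card_le_card_group Q
      exact (IH (Nat.card G - Nat.card ↥Q) (by omega) Q rfl hQne U V hQU hQV).mono hDQ
    have IC : ∀ (j : ℕ) (M Q Q' : Subgroup G), Nat.card G - Nat.card ↥Q = j →
        Cfsg.IsMaximalPLocal p M → IsSyl p M Q → IsSyl p M Q' → D ≤ Q → D ≤ Q' →
        Nat.card ↥D < Nat.card ↥Q → ∀ U V : Sylow p G, Q ≤ U → Q' ≤ V → Rel p 𝓗 D U V := by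
      intro j
      induction j using Nat.strong_induction_on with
      | _ j IIH =>
        intro M Q Q' hj hM hQ hQ' hDQ hDQ' hlt U V hQU hQ'V
        by_cases hreg : Cfsg.IsFunctorRegular p f M
        · have hreg' : Cfsg.ControlsSylowIntersections (G := ↥M) p
              ((fun X : Subgroup G => X.subgroupOf M) '' Cfsg.functorFamily p f M) := hreg
          obtain ⟨P, hP⟩ := (isSyl_iff p M Q).1 hQ
          obtain ⟨P', hP'⟩ := (isSyl_iff p M Q').1 hQ'
          by_cases hPP : P = P'
          · have hQQ : Q = Q' := by rw [← hP, ← hP', hPP]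
            exact OIH Q hDQ hlt U V hQU (by rw [hQQ]; exact hQ'V)
          · have hD1 : ∀ d ∈ D, ∀ hd : d ∈ M,
                (⟨d, hd⟩ : ↥M) ∈ (P : Subgroup ↥M) ⊓ (P' : Subgroup ↥M) := by
              intro d hdD hd
              exact Subgroup.mem_inf.2
                ⟨(mem_map_subtype M _ _).1 (by rw [hP]; exact hDQ hdD),
                  (mem_map_subtype M _ _).1 (by rw [hP']; exact hDQ' hdD)⟩
            have hinf : (P : Subgroup ↥M) ⊓ (P' : Subgroup ↥M) ≠ ⊥ := by
              intro hbot
              apply hD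
              rw [Subgroup.eq_bot_iff_forall]
              intro d hd
              have h1 := hD1 d hd (hQ.1 (hDQ hd))
              rw [hbot, Subgroup.mem_bot] at h1
              exact congrArg Subtype.val h1
            obtain ⟨n, c, X, x, hc0, hcn, hstep⟩ := hreg' P P' hPP hinf
            have claim : ∀ k (hk : k < n + 1),
                D ≤ ((c ⟨k, hk⟩ : Sylow p ↥M) : Subgroup ↥M).map M.subtype ∧
                ∀ W : Sylow p G,
                  ((c ⟨k, hk⟩ : Sylow p ↥M) : Subgroup ↥M).map M.subtype ≤ W →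
                  Rel p 𝓗 D U W := by
              intro k
              induction k with
              | zero =>
                intro hk
                have e : (⟨0, hk⟩ : Fin (n + 1)) = 0 := rfl
                rw [e, hc0, hP]
                exact ⟨hDQ, fun W hW => OIH Q hDQ hlt U W hQU hW⟩
              | succ k ih =>
                intro hk
                have hkn : k < n := by omega
                have hk' : k < n + 1 := by omega
                obtain ⟨hDR, ihW⟩ := ih hk'
                obtain ⟨hX1, hX2, hxX, hconj, hDc⟩ := hstep ⟨k, hkn⟩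
                have e1 : (⟨k, hkn⟩ : Fin n).succ = ⟨k + 1, hk⟩ := rfl
                have e2 : (⟨k, hkn⟩ : Fin n).castSucc = ⟨k, hk'⟩ := rfl
                rw [e1] at hX2 hconj hDc
                rw [e2] at hX1 hconj
                obtain ⟨R, hR⟩ : ∃ R : Subgroup G,
                    R = ((c ⟨k, hk'⟩ : Sylow p ↥M) : Subgroup ↥M).map M.subtype := ⟨_, rfl⟩
                obtain ⟨R', hR'⟩ : ∃ R' : Subgroup G,
                    R' = ((c ⟨k + 1, hk⟩ : Sylow p ↥M) : Subgroup ↥M).map M.subtype := ⟨_, rfl⟩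
                rw [← hR] at hDR ihW
                rw [← hR']
                have hRs : IsSyl p M R := by rw [hR]; exact isSyl_map p M _
                have hR's : IsSyl p M R' := by rw [hR']; exact isSyl_map p M _
                have hcR : Nat.card ↥R = Nat.card ↥Q := syl_card hQ hRs
                have hcR' : Nat.card ↥R' = Nat.card ↥Q := syl_card hQ hR's
                have hckR : ((c ⟨k, hk'⟩ : Sylow p ↥M) : Subgroup ↥M) = R.subgroupOf M := by
                  rw [hR]
                  exact (Subgroup.comap_map_eq_self_of_injective M.subtype_injective _).symm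
                have hckR' : ((c ⟨k + 1, hk⟩ : Sylow p ↥M) : Subgroup ↥M) =
                    R'.subgroupOf M := by
                  rw [hR']
                  exact (Subgroup.comap_map_eq_self_of_injective M.subtype_injective _).symm
                rw [hckR] at hX1 hconj
                rw [hckR'] at hX2 hconj hDc
                have hDR' : D ≤ R' := by
                  intro d hd
                  have h1 := hDc (hD1 d hd (hQ.1 (hDQ hd)))
                  exact Subgroup.mem_subgroupOf.1 (Subgroup.mem_inf.1 h1).1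
                obtain ⟨⟨Xg, hXg, hXe⟩, hsyl1⟩ := hX1
                obtain ⟨-, hsyl2⟩ := hX2
                obtain ⟨P₀, F, hF, hXgdef⟩ := hXg
                obtain ⟨P0, hP0⟩ : ∃ P0 : Subgroup G,
                    P0 = (P₀ : Subgroup ↥M).map M.subtype := ⟨_, rfl⟩
                rw [← hP0] at hF
                have hP0s : IsSyl p M P0 := by rw [hP0]; exact isSyl_map p M _
                have hP0p : IsPGroup p ↥P0 := hP0s.2.1
                have hcP0 : Nat.card ↥P0 = Nat.card ↥Q := syl_card hQ hP0s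
                obtain ⟨hFP0, hFN⟩ := (hf P0 hP0p).1 F hF
                have hP0ne : P0 ≠ ⊥ := by
                  intro h
                  rw [h, Subgroup.card_bot] at hcP0
                  omega
                have hFne : F ≠ ⊥ := hf1 P0 hP0p hP0ne F hF
                have hXgM : Xg ≤ M := by rw [hXgdef]; exact inf_le_left
                have hP0Xg : P0 ≤ Xg := by
                  rw [hXgdef]
                  exact le_inf hP0s.1 (Subgroup.le_normalizer.trans hFN)
                have hrel1 : ¬ p ∣ R.relIndex Xg := by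
                  obtain ⟨-, -, h3⟩ := (SylCtrl.sylow_char p _ _).1 hsyl1
                  rw [Subgroup.inf_relIndex_right, ← hXe] at h3
                  rw [← Subgroup.relIndex_subgroupOf hXgM]
                  exact h3
                have hrel2 : ¬ p ∣ R'.relIndex Xg := by
                  obtain ⟨-, -, h3⟩ := (SylCtrl.sylow_char p _ _).1 hsyl2
                  rw [Subgroup.inf_relIndex_right, ← hXe] at h3
                  rw [← Subgroup.relIndex_subgroupOf hXgM]
                  exact h3
                have hRXg : R ≤ Xg :=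
                  le_of_card_eq_of_not_dvd hRs.2.1 (by rw [hcP0, hcR]) hP0Xg hrel1
                have hR'Xg : R' ≤ Xg :=
                  le_of_card_eq_of_not_dvd hR's.2.1 (by rw [hcP0, hcR']) hP0Xg hrel2
                have hXgN : Xg ≤ Subgroup.normalizer (F : Set G) := by
                  rw [hXgdef]; exact inf_le_right
                have hRN : R ≤ Subgroup.normalizer (F : Set G) := hRXg.trans hXgN
                have hR'N : R' ≤ Subgroup.normalizer (F : Set G) := hR'Xg.trans hXgN
                obtain ⟨y, hy⟩ : ∃ y : G, y = ((x ⟨k, hkn⟩ : ↥M) : G) := ⟨_, rfl⟩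
                have hyM : y ∈ M := by rw [hy]; exact (x ⟨k, hkn⟩).2
                have hyXg : y ∈ Xg := by
                  rw [← hXe] at hxX
                  rw [hy]
                  exact Subgroup.mem_subgroupOf.1 hxX
                have hyN : y ∈ Subgroup.normalizer (F : Set G) := hXgN hyXg
                refine ⟨hDR', ?_⟩
                intro W hR'W
                obtain ⟨W₀, hRW₀⟩ := hRs.2.1.exists_le_sylow
                have hUW₀ : Rel p 𝓗 D U W₀ := ihW W₀ hRW₀
                suffices hstepRel : Rel p 𝓗 D W₀ W from hUW₀.trans hstepRel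
                by_cases hWR : (W₀ : Subgroup G) ≤ R
                · have hW₀R : (W₀ : Subgroup G) = R := le_antisymm hWR hRW₀
                  have hcW : Nat.card ↥(W : Subgroup G) = Nat.card ↥(W₀ : Subgroup G) := by
                    rw [Sylow.card_eq_multiplicity, Sylow.card_eq_multiplicity]
                  have hWR' : (W : Subgroup G) = R' := by
                    symm
                    apply Subgroup.eq_of_le_of_card_ge hR'W
                    rw [hcW, hW₀R, hcR, hcR']
                  obtain ⟨T₀, hT₀⟩ := hP0p.exists_le_sylow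
                  have hT₀e : (T₀ : Subgroup G) = P0 := by
                    symm
                    apply Subgroup.eq_of_le_of_card_ge hT₀
                    have hc : Nat.card ↥(T₀ : Subgroup G) = Nat.card ↥(W₀ : Subgroup G) := by
                      rw [Sylow.card_eq_multiplicity, Sylow.card_eq_multiplicity]
                    rw [hc, hW₀R, hcR, hcP0]
                  have hXF : (⊤ ⊓ Subgroup.normalizer (F : Set G)) ∈
                      Cfsg.functorFamily p f ⊤ := by
                    refine ⟨T₀.subtype le_top, F, ?_, rfl⟩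
                    have e : ((T₀.subtype le_top : Sylow p ↥(⊤ : Subgroup G)) :
                        Subgroup ↥(⊤ : Subgroup G)).map (⊤ : Subgroup G).subtype = P0 := by
                      rw [← hT₀e]
                      exact Subgroup.map_subgroupOf_eq_of_le le_top
                    rw [e]; exact hF
                  have hX𝓗 : (⊤ ⊓ Subgroup.normalizer (F : Set G)) ∈ 𝓗 := by
                    rw [h𝓗]; exact Or.inl hXF
                  have hmemb : ∀ W₁ : Sylow p G,
                      (W₁ : Subgroup G) ≤ Subgroup.normalizer (F : Set G) →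
                      (⊤ ⊓ Subgroup.normalizer (F : Set G)) ∈
                        Cfsg.sylowMembers p 𝓗 (W₁ : Subgroup G) := by
                    intro W₁ hW₁
                    refine ⟨hX𝓗, (SylCtrl.sylow_char p _ _).2
                      ⟨inf_le_right, W₁.isPGroup'.to_le inf_le_left, ?_⟩⟩
                    rw [Subgroup.inf_relIndex_right]
                    intro hdvd
                    exact W₁.not_dvd_index (hdvd.trans
                      (Subgroup.relIndex_dvd_index_of_le (by rw [top_inf_eq]; exact hW₁)))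
                  have hcjR : FC.cj y⁻¹ R' = R := by
                    have hyinv : (((x ⟨k, hkn⟩)⁻¹ : ↥M) : G) = y⁻¹ := by rw [hy]; rfl
                    have h1 : (FC.cj (((x ⟨k, hkn⟩)⁻¹ : ↥M) : G) R').subgroupOf M =
                        R.subgroupOf M := by
                      rw [FReg.subgroupOf_cj]; exact hconj
                    rw [hyinv] at h1
                    have h2 : FC.cj y⁻¹ R' ≤ M := by
                      intro z hz
                      obtain ⟨r, hr, rfl⟩ := FC.mem_cj.1 hz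
                      exact M.mul_mem (M.mul_mem (M.inv_mem hyM) (hR's.1 hr))
                        (by rw [inv_inv]; exact hyM)
                    have h3 := congrArg (Subgroup.map M.subtype) h1
                    rw [Subgroup.map_subgroupOf_eq_of_le hRs.1,
                      Subgroup.map_subgroupOf_eq_of_le h2] at h3
                    exact h3
                  refine Rel.step (⊤ ⊓ Subgroup.normalizer (F : Set G)) y Rel.refl
                    (hmemb W₀ ?_) (hmemb W ?_) ?_ ?_ ?_
                  · rw [hW₀R]; exact hRN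
                  · rw [hWR']; exact hR'N
                  · rw [top_inf_eq]; exact hyN
                  · rw [hWR', hW₀R]; exact hcjR
                  · rw [hWR', top_inf_eq]; exact le_inf hDR' (hDR'.trans hR'N)
                · have hRlt : Nat.card ↥R < Nat.card ↥(W₀ : Subgroup G) :=
                    Helper6.card_lt_of_lt' (lt_of_le_of_ne hRW₀ (fun h => hWR (by rw [h])))
                  obtain ⟨W₁, hP0W₁⟩ := hP0p.exists_le_sylow
                  have hcW₁ : Nat.card ↥(W₁ : Subgroup G) = Nat.card ↥(W₀ : Subgroup G) := by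
                    rw [Sylow.card_eq_multiplicity, Sylow.card_eq_multiplicity]
                  have hP0lt : P0 < (W₁ : Subgroup G) := by
                    refine lt_of_le_of_ne hP0W₁ ?_
                    intro h
                    rw [← h, hcP0, ← hcR] at hcW₁
                    omega
                  have hR₁ := Helper4.lt_inf_normalizer (W₁ : Subgroup G) P0 W₁.isPGroup' hP0lt
                  obtain ⟨R₁, hR₁e⟩ : ∃ R₁,
                      R₁ = (W₁ : Subgroup G) ⊓ Subgroup.normalizer (P0 : Set G) := ⟨_, rfl⟩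
                  rw [← hR₁e] at hR₁
                  have hR₁p : IsPGroup p ↥R₁ := by
                    rw [hR₁e]; exact W₁.isPGroup'.to_le inf_le_left
                  have hR₁K : R₁ ≤ Subgroup.normalizer (F : Set G) := by
                    rw [hR₁e]; exact inf_le_right.trans hFN
                  have hKloc : Cfsg.IsPLocal p (Subgroup.normalizer (F : Set G)) :=
                    ⟨F, hP0p.to_le hFP0, hFne, rfl⟩
                  obtain ⟨M', hM', hKM'⟩ := exists_maxPLocal p _ hKloc
                  obtain ⟨Q₁, hQ₁, hRQ₁⟩ := syl_exists_ge (hRN.trans hKM') hRs.2.1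
                  obtain ⟨Q₁', hQ₁', hR'Q₁'⟩ := syl_exists_ge (hR'N.trans hKM') hR's.2.1
                  obtain ⟨Q₂, hQ₂, hR₁Q₂⟩ := syl_exists_ge (hR₁K.trans hKM') hR₁p
                  have hcQ₁ : Nat.card ↥Q < Nat.card ↥Q₁ := by
                    have h1 : Nat.card ↥Q₁ = Nat.card ↥Q₂ := syl_card hQ₂ hQ₁
                    have h2 : Nat.card ↥P0 < Nat.card ↥R₁ := Helper6.card_lt_of_lt' hR₁
                    have h3 : Nat.card ↥R₁ ≤ Nat.card ↥Q₂ := Subgroup.card_le_of_le hR₁Q₂
                    omega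
                  obtain ⟨W₂, hW₂⟩ := hQ₁.2.1.exists_le_sylow
                  obtain ⟨W₂', hW₂'⟩ := hQ₁'.2.1.exists_le_sylow
                  have hcQ₁G : Nat.card ↥Q₁ ≤ Nat.card G := Subgroup.card_le_card_group Q₁
                  have hmid : Rel p 𝓗 D W₂ W₂' :=
                    IIH (Nat.card G - Nat.card ↥Q₁) (by omega) M' Q₁ Q₁' rfl hM' hQ₁ hQ₁'
                      (hDR.trans hRQ₁) (hDR'.trans hR'Q₁') (by omega) W₂ W₂' hW₂ hW₂'
                  have hleft : Rel p 𝓗 D W₀ W₂ :=
                    OIH R hDR (by rw [hcR]; exact hlt) W₀ W₂ hRW₀ (hRQ₁.trans hW₂)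
                  have hright : Rel p 𝓗 D W₂' W :=
                    OIH R' hDR' (by rw [hcR']; exact hlt) W₂' W (hR'Q₁'.trans hW₂') hR'W
                  exact (hleft.trans hmid).trans hright
            obtain ⟨-, hfin⟩ := claim n (by omega)
            have e : (⟨n, by omega⟩ : Fin (n + 1)) = Fin.last n := rfl
            rw [e, hcn, hP'] at hfin
            exact hfin V hQ'V
        · have hM𝓗 : M ∈ 𝓗 := by rw [h𝓗]; exact Or.inr ⟨hM, hreg⟩
          obtain ⟨m, hm, hQ'e⟩ := syl_conj hQ hQ'
          obtain ⟨V₂, hV₂⟩ : ∃ V₂ : Sylow p G, (V₂ : Subgroup G) = FC.cj m (U : Subgroup G) :=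
            ⟨m • U, by rw [Sylow.coe_subgroup_smul]; rfl⟩
          have hQ'V₂ : Q' ≤ V₂ := by rw [hV₂, hQ'e]; exact FC.cj_mono m hQU
          have hcard : Nat.card ↥Q' = Nat.card ↥Q := syl_card hQ hQ'
          have h1 : Rel p 𝓗 D V₂ V :=
            OIH Q' hDQ' (by rw [hcard]; exact hlt) V₂ V hQ'V₂ hQ'V
          have h2 : Rel p 𝓗 D U V₂ := by
            refine Rel.step M m Rel.refl (syl_members hQ 𝓗 hM𝓗 U hQU)
              (syl_members hQ' 𝓗 hM𝓗 V₂ hQ'V₂) hm ?_
              (le_inf (hDQ'.trans hQ'V₂) (hDQ'.trans hQ'.1))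
            rw [hV₂, FC.cj_inv_cj]
          exact h2.trans h1
    by_cases hST : (S : Subgroup G) = (T : Subgroup G)
    · have hST' : S = T := Sylow.ext hST
      rw [hST']; exact Rel.refl
    · have hDS' : D < (S : Subgroup G) := by
        refine lt_of_le_of_ne hDS ?_
        intro h
        apply hST
        exact (S.is_maximal' T.isPGroup' (by rw [← h]; exact hDT)).symm
      have hDT' : D < (T : Subgroup G) := by
        refine lt_of_le_of_ne hDT ?_
        intro h
        apply hST
        exact T.is_maximal' S.isPGroup' (by rw [← h]; exact hDS)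
      have hDp : IsPGroup p ↥D := S.isPGroup'.to_le hDS
      have hNloc : Cfsg.IsPLocal p (Subgroup.normalizer (D : Set G)) := ⟨D, hDp, hD, rfl⟩
      obtain ⟨M, hM, hNM⟩ := exists_maxPLocal p _ hNloc
      have hS1 := Helper4.lt_inf_normalizer (S : Subgroup G) D S.isPGroup' hDS'
      have hT1 := Helper4.lt_inf_normalizer (T : Subgroup G) D T.isPGroup' hDT'
      obtain ⟨Q, hQ, hSQ⟩ := syl_exists_ge
        (inf_le_right.trans hNM : (S : Subgroup G) ⊓ Subgroup.normalizer (D : Set G) ≤ M)
        (S.isPGroup'.to_le inf_le_left)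
      obtain ⟨Q', hQ', hTQ'⟩ := syl_exists_ge
        (inf_le_right.trans hNM : (T : Subgroup G) ⊓ Subgroup.normalizer (D : Set G) ≤ M)
        (T.isPGroup'.to_le inf_le_left)
      obtain ⟨U, hU⟩ := hQ.2.1.exists_le_sylow
      obtain ⟨V, hV⟩ := hQ'.2.1.exists_le_sylow
      have hc1 : Nat.card ↥D <
          Nat.card ↥((S : Subgroup G) ⊓ Subgroup.normalizer (D : Set G)) :=
        Helper6.card_lt_of_lt' hS1
      have hc2 : Nat.card ↥D <
          Nat.card ↥((T : Subgroup G) ⊓ Subgroup.normalizer (D : Set G)) :=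
        Helper6.card_lt_of_lt' hT1
      have hSU : Rel p 𝓗 D S U := OIH _ hS1.le hc1 S U inf_le_left (hSQ.trans hU)
      have hVT : Rel p 𝓗 D V T := OIH _ hT1.le hc2 V T (hTQ'.trans hV) inf_le_left
      have hcQ : Nat.card ↥D < Nat.card ↥Q :=
        lt_of_lt_of_le hc1 (Subgroup.card_le_of_le hSQ)
      have hUV : Rel p 𝓗 D U V :=
        IC _ M Q Q' rfl hM hQ hQ' (hS1.le.trans hSQ) (hT1.le.trans hTQ') hcQ U V hU hV
      exact (hSU.trans hUV).trans hVT

/-- The functor family together with the singular maximal `p`-locals controls Sylow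
`p`-intersections. -/
theorem controls [Finite G] (p : ℕ) [Fact p.Prime] (f : Subgroup G → Set (Subgroup G))
    (hf : Cfsg.IsNormalizerFunctor p f)
    (hf1 : ∀ P : Subgroup G, IsPGroup p ↥P → P ≠ ⊥ → ∀ F ∈ f P, F ≠ ⊥)
    (𝓕 𝓕' : Set (Subgroup G)) (h𝓕 : 𝓕 = Cfsg.functorFamily p f ⊤)
    (h𝓕' : 𝓕' = {M | Cfsg.IsMaximalPLocal p M ∧ ¬ Cfsg.IsFunctorRegular p f M}) :
    Cfsg.ControlsSylowIntersections p (𝓕 ∪ 𝓕') := by
  intro S T _ hne
  have h := rel_main p f hf hf1 (𝓕 ∪ 𝓕') (by rw [h𝓕, h𝓕']) _
    ((S : Subgroup G) ⊓ (T : Subgroup G)) rfl hne S T inf_le_left inf_le_right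
  exact h.to_chain

end Cfsg.Agent.Helper3.FReg2
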