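import Mathlib
import Cfsg.Prelude
import Cfsg.Agent.Helper3.FC9
import Cfsg.Agent.Helper5.Basic

/-! Connectivity of the commuting graph on four-subgroups versus the 2-generated 2-core. -/

set_option autoImplicit false

universe u

namespace Cfsg.Agent.Helper3.FourConn

open Cfsg Cfsg.Agent.Helper3

/-- the commuting relation on four-subgroups -/
abbrev R4 (H : Type*) [Group H] (A B : Subgroup H) : Prop :=
  IsKleinFour A ∧ IsKleinFour B ∧ ∀ a ∈ A, ∀ b ∈ B, a * b = b * a

theorem kf_iff {H : Type*} [Group H] (U : Subgroup H) :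
    IsKleinFour U ↔ Nat.card U = 4 ∧ ∀ a ∈ U, a ^ 2 = 1 := by
  constructor
  · intro h
    refine ⟨h.card_four, fun a ha => ?_⟩
    have h1 := Monoid.pow_exponent_eq_one (⟨a, ha⟩ : U)
    rw [h.exponent_two] at h1
    simpa using congrArg Subtype.val h1
  · rintro ⟨hc, hs⟩
    refine ⟨hc, ?_⟩
    have h1 : Monoid.exponent U ∣ 2 := Monoid.exponent_dvd_of_forall_pow_eq_one
      (fun g => Subtype.ext (by simpa using hs g g.2))
    rcases (Nat.dvd_prime Nat.prime_two).mp h1 with h | h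
    · exfalso
      haveI := Monoid.exp_eq_one_iff.mp h
      have h3 : Nat.card U ≤ 1 := by
        haveI : Finite U := Nat.finite_of_card_ne_zero (by omega)
        exact Finite.card_le_one_iff_subsingleton.mpr inferInstance
      omega
    · exact h

theorem kf_map {H K : Type*} [Group H] [Group K] (f : H →* K) (hf : Function.Injective f)
    (A : Subgroup H) (h : IsKleinFour A) : IsKleinFour (A.map f) := by
  have e := A.equivMapOfInjective f hf
  exact ⟨by rw [← Nat.card_congr e.toEquiv]; exact h.card_four,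
    by rw [← Monoid.exponent_eq_of_mulEquiv e]; exact h.exponent_two⟩

theorem kf_cj {G : Type u} [Group G] (g : G) (A : Subgroup G) (h : IsKleinFour A) :
    IsKleinFour (FC.cj g A) := kf_map _ (MulAut.conj g).injective A h

theorem kf_subgroupOf {G : Type*} [Group G] {U S : Subgroup G} (hUS : U ≤ S)
    (h : IsKleinFour U) : IsKleinFour (U.subgroupOf S) := by
  have e := (Subgroup.subgroupOfEquivOfLe hUS).symm
  exact ⟨by rw [← Nat.card_congr e.toEquiv]; exact h.card_four,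
    by rw [← Monoid.exponent_eq_of_mulEquiv e]; exact h.exponent_two⟩

theorem r4_map {H K : Type*} [Group H] [Group K] (f : H →* K) (hf : Function.Injective f)
    (A B : Subgroup H) (h : R4 H A B) : R4 K (A.map f) (B.map f) := by
  refine ⟨kf_map f hf A h.1, kf_map f hf B h.2.1, ?_⟩
  rintro _ ⟨a, ha, rfl⟩ _ ⟨b, hb, rfl⟩
  rw [← map_mul, ← map_mul, h.2.2 a ha b hb]

theorem conn_map {H K : Type*} [Group H] [Group K] (f : H →* K) (hf : Function.Injective f)
    (A B : Subgroup H) (h : Relation.ReflTransGen (R4 H) A B) :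
    Relation.ReflTransGen (R4 K) (A.map f) (B.map f) :=
  Relation.ReflTransGen.lift (fun A => A.map f) (fun a b hab => r4_map f hf a b hab) A B h

theorem kf_sq {H : Type*} [Group H] {U : Subgroup H} (h : IsKleinFour U) {a : H}
    (ha : a ∈ U) : a ^ 2 = 1 :=
  ((kf_iff U).mp h).2 a ha

theorem kf_comm {H : Type*} [Group H] {U : Subgroup H} (h : IsKleinFour U) {a b : H}
    (ha : a ∈ U) (hb : b ∈ U) : a * b = b * a := by
  have h1 := kf_sq h ha
  have h2 := kf_sq h hb
  have h3 := kf_sq h (U.mul_mem ha hb)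
  rw [pow_two] at h1 h2 h3
  have e : a * b = (a * b)⁻¹ := eq_inv_of_mul_eq_one_left h3
  rw [mul_inv_rev, inv_eq_of_mul_eq_one_left h1, inv_eq_of_mul_eq_one_left h2] at e
  exact e

theorem kf_pgroup {H : Type*} [Group H] {U : Subgroup H} (h : IsKleinFour U) :
    IsPGroup 2 U := by
  rintro ⟨a, ha⟩
  exact ⟨1, Subtype.ext (by simpa using kf_sq h ha)⟩

theorem not_rank_of_four {G : Type*} [Group G] (Q W : Subgroup G) (hWQ : W ≤ Q)
    (hk : IsKleinFour W) : ¬ PRankLE 2 1 Q := by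
  intro h
  have hcomm : IsMulCommutative (W.subgroupOf Q) :=
    ⟨⟨fun a b => Subtype.ext (Subtype.ext (kf_comm hk (Subgroup.mem_subgroupOf.mp a.2)
      (Subgroup.mem_subgroupOf.mp b.2)))⟩⟩
  have hsq : ∀ a ∈ W.subgroupOf Q, a ^ 2 = 1 := by
    intro a ha
    exact Subtype.ext (by simpa using kf_sq hk (Subgroup.mem_subgroupOf.mp ha))
  have h1 := h (W.subgroupOf Q) hcomm hsq
  rw [Nat.card_congr (Subgroup.subgroupOfEquivOfLe hWQ).toEquiv, hk.card_four] at h1
  norm_num at h1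

theorem exists_four_of_group {H : Type*} [Group H] [Finite H] (h : ¬ PRankLE 2 1 H) :
    ∃ U : Subgroup H, IsKleinFour U := by
  haveI : Fact (Nat.Prime 2) := ⟨Nat.prime_two⟩
  unfold PRankLE at h
  push Not at h
  obtain ⟨A, hAc, hAs, hAcard⟩ := h
  have hAp : IsPGroup 2 A := by
    rintro ⟨a, ha⟩
    exact ⟨1, Subtype.ext (by simpa using hAs a ha)⟩
  obtain ⟨k, hk⟩ := IsPGroup.iff_card.mp hAp
  have hk2 : 2 ≤ k := by
    by_contra hlt
    have hk01 : k = 0 ∨ k = 1 := by omega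
    rcases hk01 with rfl | rfl
    · rw [hk] at hAcard; norm_num at hAcard
    · rw [hk] at hAcard; norm_num at hAcard
  have hdvd : 2 ^ 2 ∣ Nat.card A := by rw [hk]; exact pow_dvd_pow 2 hk2
  obtain ⟨K, hK⟩ := Sylow.exists_subgroup_card_pow_prime 2 hdvd
  refine ⟨K.map A.subtype, (kf_iff _).mpr ⟨?_, ?_⟩⟩
  · rw [← Nat.card_congr
      (K.equivMapOfInjective A.subtype (Subgroup.subtype_injective A)).toEquiv, hK]
    norm_num
  · rintro _ ⟨a, -, rfl⟩
    exact hAs _ a.2

theorem exists_four {G : Type*} [Group G] [Finite G] (Q : Subgroup G)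
    (h : ¬ PRankLE 2 1 Q) : ∃ U : Subgroup G, U ≤ Q ∧ IsKleinFour U := by
  obtain ⟨U', hU'⟩ := exists_four_of_group h
  exact ⟨U'.map Q.subtype, Subgroup.map_subtype_le U',
    kf_map _ (Subgroup.subtype_injective Q) U' hU'⟩

theorem exists_cj_le_sylow {G : Type u} [Group G] [Finite G] (S : Sylow 2 G)
    (B : Subgroup G) (hB : IsPGroup 2 B) : ∃ g : G, FC.cj g B ≤ S := by
  haveI : Fact (Nat.Prime 2) := ⟨Nat.prime_two⟩
  obtain ⟨T, hT⟩ := hB.exists_le_sylow
  obtain ⟨g, hg⟩ := Helper5.sylow_conj T S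
  refine ⟨g, ?_⟩
  rw [hg]
  exact FC.cj_mono g hT

theorem conn_in_sylow {G : Type u} [Group G] (S : Subgroup G) (hS : IsFourConnected S)
    (U V : Subgroup G) (hU : U ≤ S) (hV : V ≤ S) (hkU : IsKleinFour U)
    (hkV : IsKleinFour V) : Relation.ReflTransGen (R4 G) U V := by
  have h := hS (U.subgroupOf S) (V.subgroupOf S) (kf_subgroupOf hU hkU) (kf_subgroupOf hV hkV)
  have h2 := conn_map S.subtype (Subgroup.subtype_injective S) _ _ h
  rw [Subgroup.map_subgroupOf_eq_of_le hU, Subgroup.map_subgroupOf_eq_of_le hV] at h2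
  exact h2

theorem conn_cj {G : Type u} [Group G] (g : G) (U V : Subgroup G)
    (h : Relation.ReflTransGen (R4 G) U V) :
    Relation.ReflTransGen (R4 G) (FC.cj g U) (FC.cj g V) :=
  conn_map _ (MulAut.conj g).injective U V h

theorem four_conn_iff {G : Type u} [Group G] [Finite G] (h2 : ¬ PRankLE 2 1 G)
    (S : Sylow 2 G) (hS : IsFourConnected (S : Subgroup G)) :
    IsFourConnected G ↔
      (⨆ Q : {Q : Subgroup G // Q ≤ (S : Subgroup G) ∧ ¬ PRankLE 2 1 Q},
          Subgroup.normalizer ((Q : Subgroup G) : Set G)) = ⊤ := by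
  haveI : Fact (Nat.Prime 2) := ⟨Nat.prime_two⟩
  obtain ⟨Γ, hΓ⟩ : ∃ Γ : Subgroup G,
      Γ = ⨆ Q : {Q : Subgroup G // Q ≤ (S : Subgroup G) ∧ ¬ PRankLE 2 1 Q},
          Subgroup.normalizer ((Q : Subgroup G) : Set G) := ⟨_, rfl⟩
  rw [← hΓ]
  obtain ⟨B, hB⟩ := exists_four_of_group h2
  obtain ⟨g₀, hg₀⟩ := exists_cj_le_sylow S B (kf_pgroup hB)
  obtain ⟨U₀, hU₀⟩ : ∃ U₀ : Subgroup G, U₀ = FC.cj g₀ B := ⟨_, rfl⟩
  have hU₀S : U₀ ≤ S := by rw [hU₀]; exact hg₀
  have hkU₀ : IsKleinFour U₀ := by rw [hU₀]; exact kf_cj g₀ B hB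
  have hNΓ : ∀ D : Subgroup G, D ≤ S → (∃ W : Subgroup G, W ≤ D ∧ IsKleinFour W) →
      Subgroup.normalizer (D : Set G) ≤ Γ := by
    rintro D hD ⟨W, hWD, hkW⟩
    rw [hΓ]
    exact le_iSup (fun Q : {Q : Subgroup G // Q ≤ (S : Subgroup G) ∧ ¬ PRankLE 2 1 Q} =>
      Subgroup.normalizer ((Q : Subgroup G) : Set G)) ⟨D, hD, not_rank_of_four D W hWD hkW⟩
  constructor
  · intro hconn
    have hF : FC.FusPred (fun (A : Subgroup G) (g : G) =>
        (∃ W : Subgroup G, W ≤ A ∧ IsKleinFour W) → g ∈ Γ) := by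
      refine ⟨?_, ?_, ?_⟩
      · rintro A B' g h hBA ⟨W, hW, hk⟩
        exact h ⟨W, hW.trans hBA, hk⟩
      · rintro A g h h1 h2 ⟨W, hW, hk⟩
        exact Γ.mul_mem (h2 ⟨FC.cj g W, FC.cj_mono g hW, kf_cj g W hk⟩) (h1 ⟨W, hW, hk⟩)
      · rintro A g h1 ⟨W, hW, hk⟩
        refine Γ.inv_mem (h1 ⟨FC.cj g⁻¹ W, ?_, kf_cj g⁻¹ W hk⟩)
        have h := FC.cj_mono g⁻¹ hW
        rwa [FC.cj_inv_cj] at h
    have hAlp := FC.alperin_abs S _ hF (fun D hD _ _ g hg hW => hNΓ D hD hW hg)
    have hgood : ∀ V : Subgroup G, Relation.ReflTransGen (R4 G) U₀ V →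
        ∃ γ ∈ Γ, FC.cj γ V ≤ S := by
      intro V hV
      induction hV with
      | refl => exact ⟨1, Γ.one_mem, by rw [FC.cj_one]; exact hU₀S⟩
      | @tail V' V hab hstep ih =>
        obtain ⟨γ, hγ, hγV'⟩ := ih
        have hsup : IsPGroup 2 (V' ⊔ V : Subgroup G) := by
          apply IsPGroup.to_sup_of_normal_right' (kf_pgroup hstep.1) (kf_pgroup hstep.2.1)
          intro a ha
          rw [Subgroup.mem_normalizer_iff]
          intro b
          constructor
          · intro hb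
            have e : a * b * a⁻¹ = b := by rw [hstep.2.2 a ha b hb]; group
            rw [e]; exact hb
          · intro hb
            have hb' : a⁻¹ * (a * b * a⁻¹) * a⁻¹⁻¹ ∈ V := by
              have hc := hstep.2.2 a⁻¹ (Subgroup.inv_mem _ ha) (a * b * a⁻¹) hb
              rw [hc, mul_inv_cancel_right]; exact hb
            have e : a⁻¹ * (a * b * a⁻¹) * a⁻¹⁻¹ = b := by group
            rwa [e] at hb'
        obtain ⟨y, hy⟩ := exists_cj_le_sylow S _ hsup
        have hyV' : FC.cj y V' ≤ S := (FC.cj_mono y le_sup_left).trans hy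
        have hyV : FC.cj y V ≤ S := (FC.cj_mono y le_sup_right).trans hy
        have h1 : FC.cj (y * γ⁻¹) (FC.cj γ V') ≤ S := by
          rw [FC.cj_mul, FC.cj_inv_cj]; exact hyV'
        have h2 := hAlp (FC.cj γ V') hγV' (y * γ⁻¹) h1 ⟨FC.cj γ V', le_rfl, kf_cj γ V' hstep.1⟩
        have h3 : y ∈ Γ := by
          have h := Γ.mul_mem h2 hγ
          rwa [inv_mul_cancel_right] at h
        exact ⟨y, h3, hyV⟩
    rw [eq_top_iff]
    intro g _
    have hc := hconn U₀ (FC.cj g U₀) hkU₀ (kf_cj g U₀ hkU₀)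
    obtain ⟨γ, hγ, hγg⟩ := hgood _ hc
    rw [← FC.cj_mul] at hγg
    have h2 := hAlp U₀ hU₀S (γ * g) hγg ⟨U₀, le_rfl, hkU₀⟩
    have h := Γ.mul_mem (Γ.inv_mem hγ) h2
    rwa [inv_mul_cancel_left] at h
  · intro htop
    have hC : ∀ g ∈ Γ, ∀ V : Subgroup G, Relation.ReflTransGen (R4 G) U₀ V →
        Relation.ReflTransGen (R4 G) U₀ (FC.cj g V) := by
      intro g hg
      rw [hΓ] at hg
      refine Subgroup.iSup_induction
        (fun Q : {Q : Subgroup G // Q ≤ (S : Subgroup G) ∧ ¬ PRankLE 2 1 Q} =>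
          Subgroup.normalizer ((Q : Subgroup G) : Set G))
        (C := fun g => ∀ V : Subgroup G, Relation.ReflTransGen (R4 G) U₀ V →
          Relation.ReflTransGen (R4 G) U₀ (FC.cj g V)) hg ?_ ?_ ?_
      · rintro ⟨Q, hQS, hQr⟩ x hx V hV
        obtain ⟨U, hUQ, hkU⟩ := exists_four Q hQr
        have hxU : FC.cj x U ≤ S := by
          refine le_trans ?_ hQS
          intro z hz
          obtain ⟨u, hu, rfl⟩ := FC.mem_cj.mp hz
          exact (Subgroup.mem_normalizer_iff.mp hx u).mp (hUQ hu)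
        have c1 := conn_in_sylow (S : Subgroup G) hS U₀ (FC.cj x U) hU₀S hxU hkU₀
          (kf_cj x U hkU)
        have c2 := conn_cj x U U₀
          (conn_in_sylow (S : Subgroup G) hS U U₀ (hUQ.trans hQS) hU₀S hkU hkU₀)
        have c3 := conn_cj x U₀ V hV
        exact (c1.trans c2).trans c3
      · intro V hV
        rw [FC.cj_one]; exact hV
      · intro x y hx hy V hV
        rw [FC.cj_mul]
        exact hx _ (hy V hV)
    have hall : ∀ g : G, ∀ V : Subgroup G, Relation.ReflTransGen (R4 G) U₀ V →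
        Relation.ReflTransGen (R4 G) U₀ (FC.cj g V) :=
      fun g => hC g (by rw [htop]; exact Subgroup.mem_top g)
    have hfrom : ∀ V : Subgroup G, IsKleinFour V → Relation.ReflTransGen (R4 G) U₀ V := by
      intro V hkV
      obtain ⟨g, hg⟩ := exists_cj_le_sylow S V (kf_pgroup hkV)
      have c1 := conn_in_sylow (S : Subgroup G) hS U₀ (FC.cj g V) hU₀S hg hkU₀ (kf_cj g V hkV)
      have c2 := hall g⁻¹ _ c1
      rwa [FC.cj_inv_cj] at c2
    have hto : ∀ V : Subgroup G, IsKleinFour V → Relation.ReflTransGen (R4 G) V U₀ := by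
      intro V hkV
      obtain ⟨g, hg⟩ := exists_cj_le_sylow S V (kf_pgroup hkV)
      have c1 := conn_in_sylow (S : Subgroup G) hS (FC.cj g V) U₀ hg hU₀S (kf_cj g V hkV) hkU₀
      have c2 := conn_cj g⁻¹ _ _ c1
      rw [FC.cj_inv_cj] at c2
      have c3 := conn_cj g⁻¹ _ _ (hall g U₀ Relation.ReflTransGen.refl)
      rw [FC.cj_inv_cj] at c3
      exact c2.trans c3
    intro U V hkU hkV
    exact (hto U hkU).trans (hfrom V hkV)

end Cfsg.Agent.Helper3.FourConn
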