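import Mathlib
import Cfsg.Prelude
import Cfsg.Agent.S1459

set_option autoImplicit false

namespace Cfsg.Agent.Helper3.GL

open scoped commutatorElement

universe u

variable {G : Type u} [Group G]

theorem comm_le_left {A B : Subgroup G} (hAB : A ≤ Subgroup.normalizer (B : Set G)) :
    ⁅B, A⁆ ≤ B := by
  rw [Subgroup.commutator_le]
  intro b hb a ha
  have e : ⁅b, a⁆ = b * (a * b⁻¹ * a⁻¹) := by
    rw [commutatorElement_def]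
    group
  rw [e]
  exact B.mul_mem hb ((Subgroup.mem_normalizer_iff.1 (hAB ha) b⁻¹).1 (B.inv_mem hb))

theorem le_centralizer_der {A B : Subgroup G} (hc : ⁅⁅B, B⁆, A⁆ = ⊥) :
    A ≤ Subgroup.centralizer ((⁅B, B⁆ : Subgroup G) : Set G) :=
  Subgroup.le_centralizer_iff.1 (Subgroup.commutator_eq_bot_iff_le_centralizer.1 hc)

theorem comm_le_centralizer_der {A B : Subgroup G} (hc : ⁅⁅B, B⁆, A⁆ = ⊥) :
    ⁅B, A⁆ ≤ Subgroup.centralizer ((⁅B, B⁆ : Subgroup G) : Set G) := by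
  have hA := le_centralizer_der hc
  rw [Subgroup.commutator_le]
  intro b hb a ha
  have h1 : b * a * b⁻¹ ∈ Subgroup.centralizer ((⁅B, B⁆ : Subgroup G) : Set G) := by
    refine Subgroup.mem_centralizer_iff.2 ?_
    intro w hw
    have hw' : b⁻¹ * w * b⁻¹⁻¹ ∈ ⁅B, B⁆ :=
      (Subgroup.mem_normalizer_iff.1 (S1459.left_le_normalizer_comm B B (B.inv_mem hb)) w).1 hw
    rw [inv_inv] at hw'
    have h2 := Subgroup.mem_centralizer_iff.1 (hA ha) _ hw'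
    calc w * (b * a * b⁻¹) = b * ((b⁻¹ * w * b) * a) * b⁻¹ := by group
      _ = b * (a * (b⁻¹ * w * b)) * b⁻¹ := by rw [h2]
      _ = b * a * b⁻¹ * w := by group
  have e : ⁅b, a⁆ = (b * a * b⁻¹) * a⁻¹ := by rw [commutatorElement_def]
  rw [e]
  exact Subgroup.mul_mem _ h1 (Subgroup.inv_mem _ (hA ha))

theorem der_le_self (B : Subgroup G) : ⁅B, B⁆ ≤ B := by
  rw [Subgroup.commutator_le]
  intro x hx y hy
  rw [commutatorElement_def]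
  exact B.mul_mem (B.mul_mem (B.mul_mem hx hy) (B.inv_mem hx)) (B.inv_mem hy)

/-- if `A` acts on `B` centralizing `B'` then `[B, A]'` is central in `B`. -/
theorem der_comm_le_center {A B : Subgroup G} (hAB : A ≤ Subgroup.normalizer (B : Set G))
    (hc : ⁅⁅B, B⁆, A⁆ = ⊥) :
    ⁅⁅B, A⁆, ⁅B, A⁆⁆ ≤ B ⊓ Subgroup.centralizer (B : Set G) := by
  have hX := comm_le_left hAB
  have hXc := comm_le_centralizer_der hc
  refine le_inf ((Subgroup.commutator_mono hX hX).trans (der_le_self B)) ?_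
  rw [← Subgroup.commutator_eq_bot_iff_le_centralizer]
  apply Subgroup.commutator_commutator_eq_bot_of_rotate
  · rw [Subgroup.commutator_eq_bot_iff_le_centralizer]
    exact (Subgroup.commutator_mono hX le_rfl).trans (Subgroup.le_centralizer_iff.1 hXc)
  · rw [Subgroup.commutator_eq_bot_iff_le_centralizer]
    exact (Subgroup.commutator_mono le_rfl hX).trans (Subgroup.le_centralizer_iff.1 hXc)

theorem gen_comm {A B : Subgroup G} (hc : ⁅⁅B, B⁆, A⁆ = ⊥) {b a y : G} (hb : b ∈ B)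
    (ha : a ∈ A) (hyB : y ∈ B) (hya : a * y = y * a) :
    (b⁻¹ * a * b * a⁻¹) * y = y * (b⁻¹ * a * b * a⁻¹) := by
  have hA := le_centralizer_der hc
  have h1 : ⁅y, b⁆ * a = a * ⁅y, b⁆ :=
    Subgroup.mem_centralizer_iff.1 (hA ha) _ (Subgroup.commutator_mem_commutator hyB hb)
  rw [commutatorElement_def] at h1
  have k1 : a * b * y⁻¹ * b⁻¹ = b * y⁻¹ * b⁻¹ * a := by
    calc a * b * y⁻¹ * b⁻¹ = y⁻¹ * (y * a) * b * y⁻¹ * b⁻¹ := by group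
      _ = y⁻¹ * (a * y) * b * y⁻¹ * b⁻¹ := by rw [hya]
      _ = y⁻¹ * (a * (y * b * y⁻¹ * b⁻¹)) := by group
      _ = y⁻¹ * (y * b * y⁻¹ * b⁻¹ * a) := by rw [h1]
      _ = b * y⁻¹ * b⁻¹ * a := by group
  have k2 : b⁻¹ * a * b * y⁻¹ = y⁻¹ * (b⁻¹ * a * b) := by
    calc b⁻¹ * a * b * y⁻¹ = b⁻¹ * (a * b * y⁻¹ * b⁻¹) * b := by group
      _ = b⁻¹ * (b * y⁻¹ * b⁻¹ * a) * b := by rw [k1]
      _ = y⁻¹ * (b⁻¹ * a * b) := by group
  have k3 : y * (b⁻¹ * a * b) = (b⁻¹ * a * b) * y := by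
    calc y * (b⁻¹ * a * b) = y * (b⁻¹ * a * b * y⁻¹) * y := by group
      _ = y * (y⁻¹ * (b⁻¹ * a * b)) * y := by rw [k2]
      _ = b⁻¹ * a * b * y := by group
  have k4 : a⁻¹ * y = y * a⁻¹ := by
    calc a⁻¹ * y = a⁻¹ * (y * a) * a⁻¹ := by group
      _ = a⁻¹ * (a * y) * a⁻¹ := by rw [hya]
      _ = y * a⁻¹ := by group
  calc b⁻¹ * a * b * a⁻¹ * y = b⁻¹ * a * b * (a⁻¹ * y) := by group
    _ = b⁻¹ * a * b * (y * a⁻¹) := by rw [k4]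
    _ = (b⁻¹ * a * b * y) * a⁻¹ := by group
    _ = y * (b⁻¹ * a * b) * a⁻¹ := by rw [k3]
    _ = y * (b⁻¹ * a * b * a⁻¹) := by group

theorem R3_aux {B : Subgroup G} {a b u u' e' : G} (hb : b ∈ B) (hu'B : u' ∈ B)
    (haB : ∀ w ∈ ⁅B, B⁆, w * a = a * w) (hu : u = b⁻¹ * a * b * a⁻¹)
    (he' : e' = u'⁻¹ * a * u' * a⁻¹) (hcomm : e' * u = u * e')
    (hk : b * ⁅u'⁻¹, u⁆ = ⁅u'⁻¹, u⁆ * b) : ⁅e', b⁆ = ⁅u'⁻¹, u⁆ := by
  have h1 : ⁅u', b⁆ * a = a * ⁅u', b⁆ := haB _ (Subgroup.commutator_mem_commutator hu'B hb)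
  have h2 : a * b * a⁻¹ = b * u := by rw [hu]; group
  have R1 : a * u' * a⁻¹ = u' * e' := by rw [he']; group
  have h3 : ⁅u', b⁆ = ⁅u' * e', b * u⁆ := by
    have h0 : ⁅u', b⁆ = a * ⁅u', b⁆ * a⁻¹ := by rw [← h1]; group
    rw [h0, ← R1, ← h2]
    simp only [commutatorElement_def]
    group
  rw [commutatorElement_def, commutatorElement_def] at h3
  have h5 : b * u'⁻¹ = e' * b * u * e'⁻¹ * u'⁻¹ * u⁻¹ := by
    calc b * u'⁻¹ = u'⁻¹ * (u' * b * u'⁻¹ * b⁻¹) * b := by group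
      _ = u'⁻¹ * (u' * e' * (b * u) * (u' * e')⁻¹ * (b * u)⁻¹) * b := by rw [h3]
      _ = e' * b * u * e'⁻¹ * u'⁻¹ * u⁻¹ := by group
  have c1 : u * e'⁻¹ = e'⁻¹ * u := by
    calc u * e'⁻¹ = e'⁻¹ * (e' * u) * e'⁻¹ := by group
      _ = e'⁻¹ * (u * e') * e'⁻¹ := by rw [hcomm]
      _ = e'⁻¹ * u := by group
  obtain ⟨κ, hκ⟩ : ∃ κ, κ = ⁅u'⁻¹, u⁆ := ⟨_, rfl⟩
  rw [← hκ] at hk ⊢
  have hκ' : κ = u'⁻¹ * u * u' * u⁻¹ := by rw [hκ, commutatorElement_def, inv_inv]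
  have h4 : e' * b * e'⁻¹ = b * κ := by
    calc e' * b * e'⁻¹ = (e' * b * (e'⁻¹ * u) * u'⁻¹ * u⁻¹) * (u * u' * u⁻¹) := by group
      _ = (e' * b * (u * e'⁻¹) * u'⁻¹ * u⁻¹) * (u * u' * u⁻¹) := by rw [c1]
      _ = (e' * b * u * e'⁻¹ * u'⁻¹ * u⁻¹) * (u * u' * u⁻¹) := by group
      _ = b * u'⁻¹ * (u * u' * u⁻¹) := by rw [← h5]
      _ = b * κ := by rw [hκ']; group
  calc ⁅e', b⁆ = (e' * b * e'⁻¹) * b⁻¹ := by rw [commutatorElement_def]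
    _ = b * κ * b⁻¹ := by rw [h4]
    _ = κ * b * b⁻¹ := by rw [hk]
    _ = κ := by group

/-- central elements of `B` of order dividing two. -/
def OmegaZ (B : Subgroup G) : Subgroup G where
  carrier := {z | z ∈ B ⊓ Subgroup.centralizer (B : Set G) ∧ z ^ 2 = 1}
  one_mem' := ⟨Subgroup.one_mem _, one_pow 2⟩
  mul_mem' := by
    rintro z z' ⟨hz, hz2⟩ ⟨hz', hz'2⟩
    refine ⟨Subgroup.mul_mem _ hz hz', ?_⟩
    have hc : z' * z = z * z' := Subgroup.mem_centralizer_iff.1 hz.2 z' hz'.1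
    calc (z * z') ^ 2 = z * (z' * z) * z' := by rw [pow_two]; group
      _ = z * (z * z') * z' := by rw [hc]
      _ = z ^ 2 * z' ^ 2 := by rw [pow_two, pow_two]; group
      _ = 1 := by rw [hz2, hz'2, one_mul]
  inv_mem' := by
    rintro z ⟨hz, hz2⟩
    exact ⟨Subgroup.inv_mem _ hz, by rw [inv_pow, hz2, inv_one]⟩

theorem OmegaZ_comm {B : Subgroup G} {z x : G} (hz : z ∈ OmegaZ B) (hx : x ∈ B) :
    x * z = z * x := Subgroup.mem_centralizer_iff.1 hz.1.2 x hx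

theorem gamma_sq {A B : Subgroup G} (hAB : A ≤ Subgroup.normalizer (B : Set G))
    (hc : ⁅⁅B, B⁆, A⁆ = ⊥) (hA : ∀ x ∈ A, ∀ y ∈ A, x * y = y * x) {b : G} (hb : b ∈ B)
    (hD : ⁅⁅Subgroup.closure {g : G | ∃ a ∈ A, g = b⁻¹ * a * b * a⁻¹}, A⁆, A⁆ = ⊥)
    {a a' : G} (ha : a ∈ A) (ha' : a' ∈ A) :
    ⁅b⁻¹ * a * b * a⁻¹, b⁻¹ * a' * b * a'⁻¹⁆ ^ 2 = 1 := by
  have hX := comm_le_left hAB
  have hDX : Subgroup.closure {g : G | ∃ a ∈ A, g = b⁻¹ * a * b * a⁻¹} ≤ ⁅B, A⁆ := by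
    refine (Subgroup.closure_le _).2 ?_
    rintro _ ⟨a, ha, rfl⟩
    have e : b⁻¹ * a * b * a⁻¹ = ⁅b⁻¹, a⁆ := by rw [commutatorElement_def, inv_inv]
    rw [e]
    exact Subgroup.commutator_mem_commutator (B.inv_mem hb) ha
  have hDB : Subgroup.closure {g : G | ∃ a ∈ A, g = b⁻¹ * a * b * a⁻¹} ≤ B := hDX.trans hX
  have hZ : ⁅Subgroup.closure {g : G | ∃ a ∈ A, g = b⁻¹ * a * b * a⁻¹},
      Subgroup.closure {g : G | ∃ a ∈ A, g = b⁻¹ * a * b * a⁻¹}⁆ ≤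
      B ⊓ Subgroup.centralizer (B : Set G) :=
    (Subgroup.commutator_mono hDX hDX).trans (der_comm_le_center hAB hc)
  have hDA_A : ⁅Subgroup.closure {g : G | ∃ a ∈ A, g = b⁻¹ * a * b * a⁻¹}, A⁆ ≤
      Subgroup.centralizer (A : Set G) := Subgroup.commutator_eq_bot_iff_le_centralizer.1 hD
  have hDA_B : ⁅Subgroup.closure {g : G | ∃ a ∈ A, g = b⁻¹ * a * b * a⁻¹}, A⁆ ≤ B :=
    (Subgroup.commutator_mono hDB le_rfl).trans hX
  have hAc := le_centralizer_der hc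
  -- generators commute with [D, A]
  have hC1 : ∀ a₀ ∈ A, ∀ y ∈ ⁅Subgroup.closure {g : G | ∃ a ∈ A, g = b⁻¹ * a * b * a⁻¹}, A⁆,
      y * (b⁻¹ * a₀ * b * a₀⁻¹) = (b⁻¹ * a₀ * b * a₀⁻¹) * y := by
    intro a₀ ha₀ y hy
    have hya : a₀ * y = y * a₀ := Subgroup.mem_centralizer_iff.1 (hDA_A hy) a₀ ha₀
    exact (gen_comm hc hb ha₀ (hDA_B hy) hya).symm
  obtain ⟨u, hu⟩ : ∃ u, u = b⁻¹ * a * b * a⁻¹ := ⟨_, rfl⟩
  obtain ⟨u', hu'⟩ : ∃ u', u' = b⁻¹ * a' * b * a'⁻¹ := ⟨_, rfl⟩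
  have huD : u ∈ Subgroup.closure {g : G | ∃ a ∈ A, g = b⁻¹ * a * b * a⁻¹} :=
    hu ▸ Subgroup.subset_closure ⟨a, ha, rfl⟩
  have hu'D : u' ∈ Subgroup.closure {g : G | ∃ a ∈ A, g = b⁻¹ * a * b * a⁻¹} :=
    hu' ▸ Subgroup.subset_closure ⟨a', ha', rfl⟩
  obtain ⟨e, he⟩ : ∃ e, e = u⁻¹ * a' * u * a'⁻¹ := ⟨_, rfl⟩
  obtain ⟨e', he'⟩ : ∃ e', e' = u'⁻¹ * a * u' * a⁻¹ := ⟨_, rfl⟩
  have heDA : e ∈ ⁅Subgroup.closure {g : G | ∃ a ∈ A, g = b⁻¹ * a * b * a⁻¹}, A⁆ := by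
    have e0 : e = ⁅u⁻¹, a'⁆ := by rw [he, commutatorElement_def, inv_inv]
    rw [e0]
    exact Subgroup.commutator_mem_commutator (Subgroup.inv_mem _ huD) ha'
  have he'DA : e' ∈ ⁅Subgroup.closure {g : G | ∃ a ∈ A, g = b⁻¹ * a * b * a⁻¹}, A⁆ := by
    have e0 : e' = ⁅u'⁻¹, a⁆ := by rw [he', commutatorElement_def, inv_inv]
    rw [e0]
    exact Subgroup.commutator_mem_commutator (Subgroup.inv_mem _ hu'D) ha
  have c_e_u' : e * u' = u' * e := by rw [hu']; exact hC1 a' ha' e heDA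
  have c_e'_u : e' * u = u * e' := by rw [hu]; exact hC1 a ha e' he'DA
  have R2 : u * (a * u' * a⁻¹) = u' * (a' * u * a'⁻¹) := by
    have haa : a * a' = a' * a := hA a ha a' ha'
    rw [hu, hu']
    calc b⁻¹ * a * b * a⁻¹ * (a * (b⁻¹ * a' * b * a'⁻¹) * a⁻¹)
        = b⁻¹ * (a * a') * b * (a * a')⁻¹ := by group
      _ = b⁻¹ * (a' * a) * b * (a' * a)⁻¹ := by rw [haa]
      _ = b⁻¹ * a' * b * a'⁻¹ * (a' * (b⁻¹ * a * b * a⁻¹) * a'⁻¹) := by group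
  have R1 : a * u' * a⁻¹ = u' * e' := by rw [he']; group
  have R1' : a' * u * a'⁻¹ = u * e := by rw [he]; group
  have R4 : u * u' * e' = u' * u * e := by rw [mul_assoc, ← R1, R2, R1', mul_assoc]
  have hk1 : ⁅u'⁻¹, u⁆ ∈ B ⊓ Subgroup.centralizer (B : Set G) :=
    hZ (Subgroup.commutator_mem_commutator (Subgroup.inv_mem _ hu'D) huD)
  have hk2 : ⁅u⁻¹, u'⁆ ∈ B ⊓ Subgroup.centralizer (B : Set G) :=
    hZ (Subgroup.commutator_mem_commutator (Subgroup.inv_mem _ huD) hu'D)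
  have hk : ⁅u, u'⁆ ∈ B ⊓ Subgroup.centralizer (B : Set G) :=
    hZ (Subgroup.commutator_mem_commutator huD hu'D)
  have hκ : ⁅u⁻¹, u'⁻¹⁆ ∈ B ⊓ Subgroup.centralizer (B : Set G) :=
    hZ (Subgroup.commutator_mem_commutator (Subgroup.inv_mem _ huD) (Subgroup.inv_mem _ hu'D))
  have haB : ∀ a₀ ∈ A, ∀ w ∈ ⁅B, B⁆, w * a₀ = a₀ * w := fun a₀ ha₀ w hw =>
    Subgroup.mem_centralizer_iff.1 (hAc ha₀) w hw
  have R3 : ⁅e', b⁆ = ⁅u'⁻¹, u⁆ :=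
    R3_aux hb (hDB hu'D) (haB a ha) hu he' c_e'_u (Subgroup.mem_centralizer_iff.1 hk1.2 b hb)
  have R3' : ⁅e, b⁆ = ⁅u⁻¹, u'⁆ :=
    R3_aux hb (hDB huD) (haB a' ha') hu' he c_e_u' (Subgroup.mem_centralizer_iff.1 hk2.2 b hb)
  -- e = κ e'
  obtain ⟨κ, hκdef⟩ : ∃ κ, κ = ⁅u⁻¹, u'⁻¹⁆ := ⟨_, rfl⟩
  rw [← hκdef] at hκ
  have e_eq : e = κ * e' := by
    rw [hκdef, commutatorElement_def, inv_inv, inv_inv]
    calc e = (u' * u)⁻¹ * (u' * u * e) := by group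
      _ = (u' * u)⁻¹ * (u * u' * e') := by rw [R4]
      _ = u⁻¹ * u'⁻¹ * u * u' * e' := by group
  have R5 : ⁅e, b⁆ = ⁅e', b⁆ := by
    have ht : e' * b * e'⁻¹ ∈ B :=
      B.mul_mem (B.mul_mem (hDA_B he'DA) hb) (B.inv_mem (hDA_B he'DA))
    have hκt : e' * b * e'⁻¹ * κ = κ * (e' * b * e'⁻¹) :=
      Subgroup.mem_centralizer_iff.1 hκ.2 _ ht
    rw [e_eq]
    calc ⁅κ * e', b⁆ = (κ * (e' * b * e'⁻¹)) * κ⁻¹ * b⁻¹ := by
          rw [commutatorElement_def]; group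
      _ = ((e' * b * e'⁻¹) * κ) * κ⁻¹ * b⁻¹ := by rw [hκt]
      _ = ⁅e', b⁆ := by rw [commutatorElement_def]; group
  -- conclude
  rw [← hu, ← hu']
  obtain ⟨g, hg⟩ : ∃ g, g = ⁅u, u'⁆ := ⟨_, rfl⟩
  rw [← hg] at hk ⊢
  have hgu' : u' * g = g * u' := Subgroup.mem_centralizer_iff.1 hk.2 u' (hDB hu'D)
  have hgu : u * g = g * u := Subgroup.mem_centralizer_iff.1 hk.2 u (hDB huD)
  have e1 : ⁅u'⁻¹, u⁆ = u'⁻¹ * g * u' := by
    rw [hg]; simp only [commutatorElement_def]; group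
  have e1' : u'⁻¹ * g * u' = g := by
    calc u'⁻¹ * g * u' = u'⁻¹ * (g * u') := by group
      _ = u'⁻¹ * (u' * g) := by rw [hgu']
      _ = g := by group
  have e2 : ⁅u⁻¹, u'⁆ = u⁻¹ * g⁻¹ * u := by
    rw [hg]; simp only [commutatorElement_def]; group
  have e2' : u⁻¹ * g⁻¹ * u = g⁻¹ := by
    calc u⁻¹ * g⁻¹ * u = u⁻¹ * g⁻¹ * (u * g) * g⁻¹ := by group
      _ = u⁻¹ * g⁻¹ * (g * u) * g⁻¹ := by rw [hgu]
      _ = g⁻¹ := by group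
  have hgg : g = g⁻¹ := by
    calc g = ⁅u'⁻¹, u⁆ := by rw [e1, e1']
      _ = ⁅e', b⁆ := R3.symm
      _ = ⁅e, b⁆ := R5.symm
      _ = ⁅u⁻¹, u'⁆ := R3'
      _ = g⁻¹ := by rw [e2, e2']
  rw [pow_two]
  nth_rewrite 1 [hgg]
  exact inv_mul_cancel g

/-- for abelian `A` acting on `B` with `[B', A] = 1` and `b ∈ B` with `[b, A, A, A] = 1`, the
derived subgroup of `[b, A]` has exponent dividing two. -/
theorem der_exp_two {A B : Subgroup G} (hAB : A ≤ Subgroup.normalizer (B : Set G))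
    (hc : ⁅⁅B, B⁆, A⁆ = ⊥) (hA : ∀ x ∈ A, ∀ y ∈ A, x * y = y * x) {b : G} (hb : b ∈ B)
    (hD : ⁅⁅Subgroup.closure {g : G | ∃ a ∈ A, g = b⁻¹ * a * b * a⁻¹}, A⁆, A⁆ = ⊥) :
    ∀ w ∈ ⁅Subgroup.closure {g : G | ∃ a ∈ A, g = b⁻¹ * a * b * a⁻¹},
      Subgroup.closure {g : G | ∃ a ∈ A, g = b⁻¹ * a * b * a⁻¹}⁆, w ^ 2 = 1 := by
  have hX := comm_le_left hAB
  have hDX : Subgroup.closure {g : G | ∃ a ∈ A, g = b⁻¹ * a * b * a⁻¹} ≤ ⁅B, A⁆ := by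
    refine (Subgroup.closure_le _).2 ?_
    rintro _ ⟨a, ha, rfl⟩
    have e : b⁻¹ * a * b * a⁻¹ = ⁅b⁻¹, a⁆ := by rw [commutatorElement_def, inv_inv]
    rw [e]
    exact Subgroup.commutator_mem_commutator (B.inv_mem hb) ha
  have hDB : Subgroup.closure {g : G | ∃ a ∈ A, g = b⁻¹ * a * b * a⁻¹} ≤ B := hDX.trans hX
  have hZ : ⁅Subgroup.closure {g : G | ∃ a ∈ A, g = b⁻¹ * a * b * a⁻¹},
      Subgroup.closure {g : G | ∃ a ∈ A, g = b⁻¹ * a * b * a⁻¹}⁆ ≤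
      B ⊓ Subgroup.centralizer (B : Set G) :=
    (Subgroup.commutator_mono hDX hDX).trans (der_comm_le_center hAB hc)
  -- step A
  have hA1 : ∀ x, x ∈ Subgroup.closure {g : G | ∃ a ∈ A, g = b⁻¹ * a * b * a⁻¹} →
      ∀ a' ∈ A, ⁅x, b⁻¹ * a' * b * a'⁻¹⁆ ∈ OmegaZ B := by
    intro x hx a' ha'
    induction hx using Subgroup.closure_induction with
    | mem x hx =>
      obtain ⟨a, ha, rfl⟩ := hx
      exact ⟨hZ (Subgroup.commutator_mem_commutator (Subgroup.subset_closure ⟨a, ha, rfl⟩)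
        (Subgroup.subset_closure ⟨a', ha', rfl⟩)), gamma_sq hAB hc hA hb hD ha ha'⟩
    | one =>
      rw [commutatorElement_one_left]
      exact Subgroup.one_mem _
    | mul x y hx hy ihx ihy =>
      have h1 := OmegaZ_comm ihy (hDB hx)
      obtain ⟨c, hc'⟩ : ∃ c, c = ⁅y, b⁻¹ * a' * b * a'⁻¹⁆ := ⟨_, rfl⟩
      rw [← hc'] at h1 ihy
      have e : ⁅x * y, b⁻¹ * a' * b * a'⁻¹⁆ = (x * c) * x⁻¹ * ⁅x, b⁻¹ * a' * b * a'⁻¹⁆ := by
        rw [hc']; simp only [commutatorElement_def]; group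
      rw [e, h1, mul_inv_cancel_right]
      exact Subgroup.mul_mem _ ihy ihx
    | inv x hx ihx =>
      have h1 := OmegaZ_comm (Subgroup.inv_mem _ ihx) (hDB (Subgroup.inv_mem _ hx))
      obtain ⟨c, hc'⟩ : ∃ c, c = ⁅x, b⁻¹ * a' * b * a'⁻¹⁆ := ⟨_, rfl⟩
      rw [← hc'] at h1 ihx
      have e : ⁅x⁻¹, b⁻¹ * a' * b * a'⁻¹⁆ = (x⁻¹ * c⁻¹) * x := by
        rw [hc']; simp only [commutatorElement_def]; group
      rw [e, h1, inv_mul_cancel_right]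
      exact Subgroup.inv_mem _ ihx
  -- step B
  have hB1 : ∀ x, x ∈ Subgroup.closure {g : G | ∃ a ∈ A, g = b⁻¹ * a * b * a⁻¹} →
      ∀ y, y ∈ Subgroup.closure {g : G | ∃ a ∈ A, g = b⁻¹ * a * b * a⁻¹} →
      ⁅x, y⁆ ∈ OmegaZ B := by
    intro x hx y hy
    induction hy using Subgroup.closure_induction with
    | mem y hy =>
      obtain ⟨a', ha', rfl⟩ := hy
      exact hA1 x hx a' ha'
    | one =>
      rw [commutatorElement_one_right]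
      exact Subgroup.one_mem _
    | mul y z hy hz ihy ihz =>
      have h1 := OmegaZ_comm ihz (hDB hy)
      obtain ⟨c, hc'⟩ : ∃ c, c = ⁅x, z⁆ := ⟨_, rfl⟩
      rw [← hc'] at h1 ihz
      have e : ⁅x, y * z⁆ = ⁅x, y⁆ * (y * c) * y⁻¹ := by
        rw [hc']; simp only [commutatorElement_def]; group
      rw [e, h1, mul_assoc, mul_inv_cancel_right]
      exact Subgroup.mul_mem _ ihy ihz
    | inv y hy ihy =>
      have h1 := OmegaZ_comm (Subgroup.inv_mem _ ihy) (hDB (Subgroup.inv_mem _ hy))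
      obtain ⟨c, hc'⟩ : ∃ c, c = ⁅x, y⁆ := ⟨_, rfl⟩
      rw [← hc'] at h1 ihy
      have e : ⁅x, y⁻¹⁆ = (y⁻¹ * c⁻¹) * y := by
        rw [hc']; simp only [commutatorElement_def]; group
      rw [e, h1, inv_mul_cancel_right]
      exact Subgroup.inv_mem _ ihy
  have hle : ⁅Subgroup.closure {g : G | ∃ a ∈ A, g = b⁻¹ * a * b * a⁻¹},
      Subgroup.closure {g : G | ∃ a ∈ A, g = b⁻¹ * a * b * a⁻¹}⁆ ≤ OmegaZ B :=
    Subgroup.commutator_le.2 hB1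
  intro w hw
  exact (hle hw).2

end Cfsg.Agent.Helper3.GL
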