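import Mathlib
import Cfsg.Prelude
import Cfsg.Agent.Helper3.AutRank2
import Cfsg.Agent.Helper3.AxB
import Cfsg.Agent.Helper3.CoprimeGen
import Cfsg.Agent.Helper3.FC1
import Cfsg.Agent.Lead.PGroupFrattini

set_option autoImplicit false

/-!
# The Hall–Higman reduction for a minimal nontrivial coprime action
-/

namespace Cfsg.Agent.Helper3.HHRed
open Cfsg.Agent
open scoped commutatorElement

universe u

variable {X : Type u} [Group X]

/-- conjugation by an element of the normalizer, as an automorphism. -/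
def conjEquiv (P : Subgroup X) (b : ↥(Subgroup.normalizer (P : Set X))) : ↥P ≃* ↥P where
  toFun := Helper3.conjN P b
  invFun := Helper3.conjN P b⁻¹
  left_inv v := by rw [← Helper3.conjN_mul, inv_mul_cancel, Helper3.conjN_one]
  right_inv v := by rw [← Helper3.conjN_mul, mul_inv_cancel, Helper3.conjN_one]
  map_mul' := map_mul _

/-- the image in `X` of a characteristic subgroup of `P` is normalized by `N(P)`. -/
theorem char_le_normalizer [Finite X] (P : Subgroup X) (K : Subgroup ↥P) [hK : K.Characteristic] :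
    Subgroup.normalizer (P : Set X) ≤
      Subgroup.normalizer ((K.map P.subtype : Subgroup X) : Set X) := by
  intro b hb
  apply FC.mem_normalizer_of_cj_le
  rintro _ ⟨_, ⟨k, hk, rfl⟩, rfl⟩
  have h1 := Subgroup.characteristic_iff_map_eq.1 hK (conjEquiv P ⟨b, hb⟩)
  have h2 : conjEquiv P ⟨b, hb⟩ k ∈ K.map (conjEquiv P ⟨b, hb⟩).toMonoidHom := ⟨k, hk, rfl⟩
  rw [h1] at h2
  exact ⟨conjEquiv P ⟨b, hb⟩ k, h2, rfl⟩

/-- if `P = [P, A]` for a coprime action, the fixed points lie in the derived subgroup. -/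
theorem fixed_mem_commutator [Finite X] (p : ℕ) [Fact p.Prime] (P A : Subgroup X)
    (hP : IsPGroup p P) (hAP : A ≤ Subgroup.normalizer (P : Set X))
    (hAp : (Nat.card A).Coprime p) (hPA : ⁅P, A⁆ = P) (c : ↥P)
    (hc : (c : X) ∈ Subgroup.centralizer (A : Set X)) : c ∈ commutator ↥P := by
  classical
  haveI : Fintype ↥A := Fintype.ofFinite _
  obtain ⟨κ, hκ⟩ : ∃ κ : ↥A → (↥P →* ↥P), ∀ (a : ↥A) (x : ↥P),
      ((κ a x : ↥P) : X) = (a : X) * x * (a : X)⁻¹ :=
    ⟨fun a => Helper3.conjN P ⟨a, hAP a.2⟩, fun a x => rfl⟩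
  obtain ⟨Λ, hΛ⟩ : ∃ Λ : ↥P →* Abelianization ↥P,
      ∀ x, Λ x = ∏ a : ↥A, Abelianization.of (κ a x) :=
    ⟨∏ a : ↥A, (Abelianization.of).comp (κ a), fun x => by
      rw [MonoidHom.finsetProd_apply]; rfl⟩
  have hinv : ∀ (b : ↥A) (x : ↥P), Λ (κ b x) = Λ x := by
    intro b x
    rw [hΛ, hΛ]
    have e : ∀ a : ↥A, κ a (κ b x) = κ (a * b) x := by
      intro a
      apply Subtype.ext
      rw [hκ, hκ, hκ]
      show _ = ((a : X) * (b : X)) * x * ((a : X) * (b : X))⁻¹
      group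
    simp_rw [e]
    exact Equiv.prod_comp (Equiv.mulRight b) (fun a => Abelianization.of (κ a x))
  have h1 : ⁅P, A⁆ ≤ Λ.ker.map P.subtype := by
    rw [Subgroup.commutator_le]
    intro x hx a ha
    refine ⟨⟨x, hx⟩ * κ ⟨a, ha⟩ (⟨x, hx⟩⁻¹), ?_, ?_⟩
    · rw [SetLike.mem_coe, MonoidHom.mem_ker, map_mul, hinv, ← map_mul, mul_inv_cancel, map_one]
    · show ((⟨x, hx⟩ * κ ⟨a, ha⟩ (⟨x, hx⟩⁻¹) : ↥P) : X) = ⁅x, a⁆
      rw [Subgroup.coe_mul, hκ, commutatorElement_def]
      show x * (a * x⁻¹ * a⁻¹) = _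
      group
  have hker : ∀ x : ↥P, Λ x = 1 := by
    intro x
    have h2 : (x : X) ∈ ⁅P, A⁆ := by rw [hPA]; exact x.2
    obtain ⟨y, hy, hyx⟩ := h1 h2
    have e : y = x := Subtype.ext hyx
    rw [← e]
    exact MonoidHom.mem_ker.1 hy
  have hfix : ∀ a : ↥A, κ a c = c := by
    intro a
    apply Subtype.ext
    rw [hκ]
    have h := Subgroup.mem_centralizer_iff.1 hc a a.2
    rw [h]; group
  have h3 : (Abelianization.of c) ^ Fintype.card ↥A = 1 := by
    have h4 := hker c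
    rw [hΛ] at h4
    simp_rw [hfix] at h4
    rw [Finset.prod_const, Finset.card_univ] at h4
    exact h4
  obtain ⟨k, hk⟩ := hP c
  have h5 : (Abelianization.of c) ^ p ^ k = 1 := by rw [← map_pow, hk, map_one]
  have h6 : (orderOf (Abelianization.of c)).Coprime p := by
    have h7 : orderOf (Abelianization.of c) ∣ Fintype.card ↥A := orderOf_dvd_of_pow_eq_one h3
    rw [Fintype.card_eq_nat_card] at h7
    exact Nat.Coprime.coprime_dvd_left h7 hAp
  have h8 := Helper6.eq_one_of_pow_of_coprime h5 h6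
  rw [← Abelianization.ker_of, MonoidHom.mem_ker]
  exact h8

theorem comm_aux (a c c' x : X) (h1 : a * c = c * a) (h2 : a * c' = c' * a)
    (h3 : c * x = x * c') : c * (a * x * a⁻¹ * x⁻¹) = (a * x * a⁻¹ * x⁻¹) * c := by
  have h2' : c' * a⁻¹ = a⁻¹ * c' := by
    calc c' * a⁻¹ = a⁻¹ * (a * c') * a⁻¹ := by group
      _ = a⁻¹ * (c' * a) * a⁻¹ := by rw [h2]
      _ = a⁻¹ * c' := by group
  have h3' : c' * x⁻¹ = x⁻¹ * c := by
    calc c' * x⁻¹ = x⁻¹ * (x * c') * x⁻¹ := by group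
      _ = x⁻¹ * (c * x) * x⁻¹ := by rw [h3]
      _ = x⁻¹ * c := by group
  calc c * (a * x * a⁻¹ * x⁻¹) = (c * a) * x * a⁻¹ * x⁻¹ := by group
    _ = (a * c) * x * a⁻¹ * x⁻¹ := by rw [h1]
    _ = a * (c * x) * a⁻¹ * x⁻¹ := by group
    _ = a * (x * c') * a⁻¹ * x⁻¹ := by rw [h3]
    _ = a * x * (c' * a⁻¹) * x⁻¹ := by group
    _ = a * x * (a⁻¹ * c') * x⁻¹ := by rw [h2']
    _ = a * x * a⁻¹ * (c' * x⁻¹) := by group
    _ = a * x * a⁻¹ * (x⁻¹ * c) := by rw [h3']
    _ = (a * x * a⁻¹ * x⁻¹) * c := by group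

/-- the Hall–Higman reduction. -/
theorem hall_higman_red [Finite X] {p : ℕ} [Fact p.Prime] (B A P : Subgroup X)
    (hP : IsPGroup p P) (hBP : B ≤ Subgroup.normalizer (P : Set X)) (hAB : A ≤ B)
    (hAn : B ≤ Subgroup.normalizer (A : Set X)) (hAp : (Nat.card A).Coprime p)
    (hnt : ⁅P, A⁆ ≠ ⊥)
    (hmin : ∀ U : Subgroup X, U < P → B ≤ Subgroup.normalizer (U : Set X) → ⁅U, A⁆ = ⊥) :
    ⁅P, A⁆ = P ∧ (Cfsg.IsElementaryAbelian p P ∨ Cfsg.IsSpecial p ↥P) ∧
      (∀ U : Subgroup X, (frattini ↥P).map P.subtype ≤ U → U ≤ P →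
        B ≤ Subgroup.normalizer (U : Set X) → U = (frattini ↥P).map P.subtype ∨ U = P) ∧
      (p ≠ 2 → ∀ x ∈ P, x ^ p = 1) := by
  have hp : p.Prime := Fact.out
  have hAP : A ≤ Subgroup.normalizer (P : Set X) := hAB.trans hBP
  have hcomP : ⁅P, A⁆ ≤ P := by
    rw [Subgroup.commutator_le]
    intro x hx a ha
    rw [commutatorElement_def]
    have h1 : a * x⁻¹ * a⁻¹ ∈ P := (Subgroup.mem_normalizer_iff.1 (hAP ha) x⁻¹).1 (inv_mem hx)
    have e : x * a * x⁻¹ * a⁻¹ = x * (a * x⁻¹ * a⁻¹) := by group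
    rw [e]; exact mul_mem hx h1
  have hPA : ⁅P, A⁆ = P := by
    by_contra hne
    have hlt : ⁅P, A⁆ < P := lt_of_le_of_ne hcomP hne
    have hBn : B ≤ Subgroup.normalizer ((⁅P, A⁆ : Subgroup X) : Set X) := by
      intro b hb
      apply FC.mem_normalizer_of_cj_le
      unfold FC.cj
      rw [Subgroup.map_commutator]
      have e1 : P.map (MulAut.conj b).toMonoidHom = P := FC.cj_norm (hBP hb)
      have e2 : A.map (MulAut.conj b).toMonoidHom = A := FC.cj_norm (hAn hb)
      rw [e1, e2]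
    have h1 := hmin _ hlt hBn
    exact hnt (Helper3.commutator_eq_bot_of_coprime p P A hP hAp hAP h1)
  have hPne : P ≠ ⊥ := by
    rintro rfl
    apply hnt
    rw [eq_bot_iff]
    exact hcomP
  haveI : Nontrivial ↥P := (Subgroup.nontrivial_iff_ne_bot P).2 hPne
  have hfixcomm : ∀ c : ↥P, (c : X) ∈ Subgroup.centralizer (A : Set X) → c ∈ commutator ↥P :=
    fun c hc => fixed_mem_commutator p P A hP hAP hAp hPA c hc
  have hcommfrat : commutator ↥P ≤ frattini ↥P := Lead.commutator_le_frattini_of_isPGroup p hP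
  have hfratfix : ∀ z ∈ frattini ↥P, (z : X) ∈ Subgroup.centralizer (A : Set X) := by
    obtain ⟨M, hM, _⟩ := (eq_top_or_exists_le_coatom (⊥ : Subgroup ↥P)).resolve_left bot_ne_top
    have hfne : frattini ↥P ≠ ⊤ := by
      intro h
      have h' := frattini_le_coatom hM
      rw [h, top_le_iff] at h'
      exact hM.1 h'
    have hle : (frattini ↥P).map P.subtype ≤ P := by
      rintro _ ⟨y, _, rfl⟩; exact y.2
    have hne : (frattini ↥P).map P.subtype ≠ P := by
      intro h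
      apply hfne
      rw [eq_top_iff]
      intro x _
      have hx : (x : X) ∈ (frattini ↥P).map P.subtype := by rw [h]; exact x.2
      obtain ⟨y, hy, hyx⟩ := hx
      have e : y = x := Subtype.ext hyx
      rwa [← e]
    have h1 := hmin _ (lt_of_le_of_ne hle hne) (hBP.trans (char_le_normalizer P (frattini ↥P)))
    have h2 := Subgroup.commutator_eq_bot_iff_le_centralizer.1 h1
    intro z hz
    exact h2 ⟨z, hz, rfl⟩
  have hfixcent : ∀ c : ↥P, (c : X) ∈ Subgroup.centralizer (A : Set X) →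
      c ∈ Subgroup.center ↥P := by
    intro c hc
    have h1 : ⁅A, P⁆ ≤ Subgroup.centralizer ({(c : X)} : Set X) := by
      rw [Subgroup.commutator_le]
      intro a ha x hx
      rw [Subgroup.mem_centralizer_iff]
      intro h hh
      rw [Set.mem_singleton_iff.1 hh, commutatorElement_def]
      have hc' : x⁻¹ * (c : X) * x ∈ Subgroup.centralizer (A : Set X) := by
        have h2 : (⁅(c⁻¹ : ↥P), (⟨x, hx⟩ : ↥P)⁻¹⁆ : ↥P) ∈ commutator ↥P :=
          Subgroup.commutator_mem_commutator (Subgroup.mem_top _) (Subgroup.mem_top _)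
        have h3 := hfratfix _ (hcommfrat h2)
        have e : x⁻¹ * (c : X) * x =
            (c : X) * ((⁅(c⁻¹ : ↥P), (⟨x, hx⟩ : ↥P)⁻¹⁆ : ↥P) : X) := by
          rw [commutatorElement_def]
          show x⁻¹ * (c : X) * x = (c : X) * ((c : X)⁻¹ * x⁻¹ * (c : X)⁻¹⁻¹ * x⁻¹⁻¹)
          group
        rw [e]
        exact mul_mem hc h3
      have ha1 : a * (c : X) = c * a := Subgroup.mem_centralizer_iff.1 hc a ha
      have ha2 : a * (x⁻¹ * (c : X) * x) = (x⁻¹ * (c : X) * x) * a :=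
        Subgroup.mem_centralizer_iff.1 hc' a ha
      have h3 : (c : X) * x = x * (x⁻¹ * (c : X) * x) := by group
      exact comm_aux a c _ x ha1 ha2 h3
    rw [Subgroup.commutator_comm, hPA] at h1
    rw [Subgroup.mem_center_iff]
    intro x
    apply Subtype.ext
    have h := Subgroup.mem_centralizer_iff.1 (h1 x.2) (c : X) rfl
    exact h.symm
  have h3 : ∀ U : Subgroup X, (frattini ↥P).map P.subtype ≤ U → U ≤ P →
      B ≤ Subgroup.normalizer (U : Set X) → U = (frattini ↥P).map P.subtype ∨ U = P := by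
    intro U hΦU hUP hBU
    by_cases hU : U = P
    · exact Or.inr hU
    · left
      have h1 := hmin U (lt_of_le_of_ne hUP hU) hBU
      have h2 := Subgroup.commutator_eq_bot_iff_le_centralizer.1 h1
      apply le_antisymm _ hΦU
      intro u hu
      exact ⟨⟨u, hUP hu⟩, hcommfrat (hfixcomm ⟨u, hUP hu⟩ (h2 hu)), rfl⟩
  have hpowfix : ∀ x : ↥P, ((x ^ p : ↥P) : X) ∈ Subgroup.centralizer (A : Set X) :=
    fun x => hfratfix _ (Lead.pow_mem_frattini_of_isPGroup p hP x)
  have hexp_of_mul : (∀ x ∈ P, ∀ y ∈ P, (x * y) ^ p = x ^ p * y ^ p) →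
      ∀ x ∈ P, x ^ p = 1 := by
    intro hmul
    obtain ⟨Ω, hΩ⟩ : ∃ Ω : Subgroup X, ∀ y, y ∈ Ω ↔ y ∈ P ∧ y ^ p = 1 :=
      ⟨{ carrier := {y | y ∈ P ∧ y ^ p = 1}
         mul_mem' := fun {a b} ha hb =>
           ⟨mul_mem ha.1 hb.1, by rw [hmul a ha.1 b hb.1, ha.2, hb.2, one_mul]⟩
         one_mem' := ⟨one_mem _, one_pow p⟩
         inv_mem' := fun {a} ha => ⟨inv_mem ha.1, by rw [inv_pow, ha.2, inv_one]⟩ },
        fun y => Iff.rfl⟩
    have h1 : ⁅A, P⁆ ≤ Ω := by
      rw [Subgroup.commutator_le]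
      intro a ha x hx
      rw [hΩ, commutatorElement_def]
      have hax : a * x * a⁻¹ ∈ P := (Subgroup.mem_normalizer_iff.1 (hAP ha) x).1 hx
      refine ⟨mul_mem hax (inv_mem hx), ?_⟩
      rw [hmul _ hax _ (inv_mem hx), conj_pow, inv_pow]
      have h2 : a * x ^ p = x ^ p * a :=
        Subgroup.mem_centralizer_iff.1 (hpowfix ⟨x, hx⟩) a ha
      rw [h2]; group
    rw [Subgroup.commutator_comm, hPA] at h1
    intro x hx
    exact ((hΩ x).1 (h1 hx)).2
  have hmul_odd : p ≠ 2 → ∀ x ∈ P, ∀ y ∈ P, (x * y) ^ p = x ^ p * y ^ p := by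
    intro hp2 x hx y hy
    obtain ⟨c, hcdef⟩ : ∃ c, c = y * x * y⁻¹ * x⁻¹ := ⟨_, rfl⟩
    have hcP : c ∈ P := by
      rw [hcdef]; exact mul_mem (mul_mem (mul_mem hy hx) (inv_mem hy)) (inv_mem hx)
    have hccomm : (⟨c, hcP⟩ : ↥P) ∈ commutator ↥P := by
      have h2 : (⁅(⟨y, hy⟩ : ↥P), (⟨x, hx⟩ : ↥P)⁆ : ↥P) ∈ commutator ↥P :=
        Subgroup.commutator_mem_commutator (Subgroup.mem_top _) (Subgroup.mem_top _)
      have e : (⟨c, hcP⟩ : ↥P) = ⁅(⟨y, hy⟩ : ↥P), (⟨x, hx⟩ : ↥P)⁆ := by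
        apply Subtype.ext
        rw [commutatorElement_def]
        exact hcdef
      rw [e]; exact h2
    have hccent : (⟨c, hcP⟩ : ↥P) ∈ Subgroup.center ↥P :=
      hfixcent _ (hfratfix _ (hcommfrat hccomm))
    have hcent : ∀ z ∈ P, c * z = z * c := by
      intro z hz
      have h := Subgroup.mem_center_iff.1 hccent ⟨z, hz⟩
      exact (congrArg Subtype.val h).symm
    have hc : y * x = c * x * y := by rw [hcdef]; group
    have hcx : Commute c x := hcent x hx
    have hcy : Commute c y := hcent y hy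
    have hypcent : y ^ p * x = x * y ^ p := by
      have h1 := hfixcent _ (hpowfix ⟨y, hy⟩)
      have h := Subgroup.mem_center_iff.1 h1 ⟨x, hx⟩
      exact (congrArg Subtype.val h).symm
    have hcp : c ^ p = 1 := by
      have h1 := AutRank.pow_comm_left x y c hc hcx hcy p
      rw [hypcent] at h1
      have h3 : c ^ p * (x * y ^ p) = 1 * (x * y ^ p) := by
        rw [one_mul, ← mul_assoc]; exact h1.symm
      exact mul_right_cancel h3
    obtain ⟨k, hk, h⟩ := AutRank.mul_pow_class2 x y c hc hcx hcy p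
    have hpk : p ∣ k := by
      have h1 : p ∣ 2 * k := by rw [hk]; exact dvd_mul_right p _
      have hcop : Nat.Coprime p 2 := (Nat.coprime_primes hp Nat.prime_two).2 hp2
      exact hcop.dvd_of_dvd_mul_left h1
    obtain ⟨j, rfl⟩ := hpk
    rw [h, pow_mul, hcp, one_pow, mul_one]
  refine ⟨hPA, ?_, h3, fun hp2 => hexp_of_mul (hmul_odd hp2)⟩
  by_cases hab : ∀ x ∈ P, ∀ y ∈ P, x * y = y * x
  · left
    refine ⟨⟨⟨fun a b => Subtype.ext (hab a a.2 b b.2)⟩⟩, ?_⟩
    apply hexp_of_mul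
    intro x hx y hy
    exact (show Commute x y from hab x hx y hy).mul_pow p
  · right
    have hcentfix : ∀ z ∈ Subgroup.center ↥P, (z : X) ∈ Subgroup.centralizer (A : Set X) := by
      have hle : (Subgroup.center ↥P).map P.subtype ≤ P := by
        rintro _ ⟨y, _, rfl⟩; exact y.2
      have hne : (Subgroup.center ↥P).map P.subtype ≠ P := by
        intro h
        apply hab
        intro x hx y hy
        have hx' : x ∈ (Subgroup.center ↥P).map P.subtype := by rw [h]; exact hx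
        obtain ⟨z, hz, hzx⟩ := hx'
        have h' := Subgroup.mem_center_iff.1 hz ⟨y, hy⟩
        rw [← hzx]
        exact (congrArg Subtype.val h').symm
      have h1 := hmin _ (lt_of_le_of_ne hle hne)
        (hBP.trans (char_le_normalizer P (Subgroup.center ↥P)))
      have h2 := Subgroup.commutator_eq_bot_iff_le_centralizer.1 h1
      intro z hz
      exact h2 ⟨z, hz, rfl⟩
    refine ⟨hP, ?_, ?_⟩
    · apply le_antisymm
      · intro z hz
        exact hfixcent z (hfratfix z hz)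
      · intro z hz
        exact hcommfrat (hfixcomm z (hcentfix z hz))
    · apply le_antisymm
      · intro z hz
        exact hfixcent z (hfratfix z (hcommfrat hz))
      · intro z hz
        exact hfixcomm z (hcentfix z hz)

end Cfsg.Agent.Helper3.HHRed
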