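import Mathlib
import Cfsg.Prelude
import Cfsg.Agent.Helper3.FPF

set_option autoImplicit false

/-! # Kegel's theorem: a finite group with a splitting automorphism of prime order is nilpotent -/

namespace Cfsg.Agent.Helper3.Kegel

open Cfsg.Agent.Helper3.PN Cfsg.Agent.Helper3.FPF

universe u

variable {G : Type u} [Group G]

/-- the partial norms `x · f x ⋯ f^{k-1} x`. -/
def nrm (f : G → G) : ℕ → G → G
  | 0, _ => 1
  | k + 1, x => nrm f k x * f^[k] x

theorem nrm_zero (f : G → G) (x : G) : nrm f 0 x = 1 := rfl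

theorem nrm_succ (f : G → G) (k : ℕ) (x : G) : nrm f (k + 1) x = nrm f k x * f^[k] x := rfl

theorem nrm_eq_list (f : G → G) (k : ℕ) (x : G) :
    nrm f k x = ((List.range k).map (fun i => f^[i] x)).prod := by
  induction k with
  | zero => rfl
  | succ k ih =>
    rw [nrm_succ, ih, List.range_succ, List.map_append, List.prod_append]
    simp

theorem iter_one (φ : G →* G) (k : ℕ) : φ^[k] (1 : G) = 1 := by
  induction k with
  | zero => rfl
  | succ k ih => rw [Function.iterate_succ_apply, map_one, ih]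

theorem nrm_succ' (φ : G →* G) (k : ℕ) (x : G) : nrm φ (k + 1) x = x * φ (nrm φ k x) := by
  induction k with
  | zero => simp [nrm]
  | succ k ih =>
    have h : φ^[k + 1] x = φ (φ^[k] x) := Function.iterate_succ_apply' φ k x
    calc nrm φ (k + 1 + 1) x = nrm φ (k + 1) x * φ^[k + 1] x := rfl
      _ = x * φ (nrm φ k x) * φ (φ^[k] x) := by rw [ih, h]
      _ = x * φ (nrm φ k x * φ^[k] x) := by rw [map_mul, mul_assoc]
      _ = x * φ (nrm φ (k + 1) x) := rfl

theorem nrm_add (φ : G →* G) (k l : ℕ) (x : G) :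
    nrm φ (k + l) x = nrm φ k x * φ^[k] (nrm φ l x) := by
  induction l with
  | zero => rw [Nat.add_zero, nrm_zero, iter_one, mul_one]
  | succ l ih =>
    rw [← Nat.add_assoc, nrm_succ, ih, nrm_succ, iter_mul, ← Function.iterate_add_apply,
      mul_assoc]

theorem nrm_mul (φ : G →* G) (m k : ℕ) (x : G) :
    nrm φ (m * k) x = nrm (φ^[k]) m (nrm φ k x) := by
  induction m with
  | zero => rw [Nat.zero_mul]; rfl
  | succ m ih =>
    rw [Nat.succ_mul, nrm_add, ih, nrm_succ, Nat.mul_comm m k, Function.iterate_mul]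

theorem nrm_mem (φ : G →* G) (H : Subgroup G) (hH : ∀ h ∈ H, φ h ∈ H) (k : ℕ) :
    ∀ x ∈ H, nrm φ k x ∈ H := by
  induction k with
  | zero => intro x _; exact H.one_mem
  | succ k ih => intro x hx; exact H.mul_mem (ih x hx) (iter_mem φ H hH k x hx)

section Spl

variable {p : ℕ} {φ : G →* G}

theorem spl_iter (hφ : ∀ x, nrm φ p x = 1) (g : G) : φ^[p] g = g := by
  have h1 := nrm_succ φ p g
  have h2 := nrm_succ' φ p g
  rw [hφ, one_mul] at h1
  rw [hφ, map_one, mul_one] at h2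
  rw [← h1, h2]

theorem spl_mul (hφ : ∀ x, nrm φ p x = 1) (c : ℕ) (x : G) : nrm φ (c * p) x = 1 := by
  induction c with
  | zero => rw [Nat.zero_mul]; rfl
  | succ c ih => rw [Nat.succ_mul, nrm_add, ih, hφ, iter_one, mul_one]

theorem spl_inj (hp : p.Prime) (hφ : ∀ x, nrm φ p x = 1) (k : ℕ) (hk0 : 0 < k) (hkp : k < p)
    (x y : G) (h : nrm φ k x = nrm φ k y) : x = y := by
  have hcop : Nat.Coprime k p :=
    Nat.Coprime.symm ((Nat.Prime.coprime_iff_not_dvd hp).2 (Nat.not_dvd_of_pos_of_lt hk0 hkp))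
  obtain ⟨m, -, hm⟩ := Nat.exists_mul_mod_eq_one_of_coprime hcop hp.one_lt
  have h2 : m * k = (k * m / p) * p + 1 := by
    have := Nat.div_add_mod (k * m) p
    rw [hm] at this
    rw [Nat.mul_comm m k, Nat.mul_comm (k * m / p) p]
    exact this.symm
  have key : ∀ z : G, nrm φ (m * k) z = z := by
    intro z
    rw [h2, nrm_succ', spl_mul hφ, map_one, mul_one]
  rw [← key x, ← key y, nrm_mul, nrm_mul, h]

/-- the twist of `φ` by the inner automorphism of `h`. -/
def tw (φ : G →* G) (h : G) : G →* G := (MulAut.conj h).toMonoidHom.comp φ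

theorem tw_apply (φ : G →* G) (h x : G) : tw φ h x = h * φ x * h⁻¹ := rfl

theorem tw_iter (φ : G →* G) (h : G) (k : ℕ) (y : G) :
    (tw φ h)^[k] y = nrm φ k h * φ^[k] y * (nrm φ k h)⁻¹ := by
  induction k with
  | zero => simp [nrm]
  | succ k ih =>
    rw [Function.iterate_succ_apply', ih, tw_apply, nrm_succ', map_mul, map_mul, map_inv,
      ← Function.iterate_succ_apply' φ k y]
    group

theorem tw_nrm (φ : G →* G) (h : G) (k : ℕ) (y : G) :
    nrm (tw φ h) k y * nrm φ k h = nrm φ k (y * h) := by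
  induction k with
  | zero => simp [nrm]
  | succ k ih =>
    rw [nrm_succ, nrm_succ, nrm_succ, ← ih, tw_iter, iter_mul]
    group

theorem tw_spl (hφ : ∀ x, nrm φ p x = 1) (h : G) : ∀ y, nrm (tw φ h) p y = 1 := by
  intro y
  have := tw_nrm φ h p y
  rwa [hφ, hφ, mul_one] at this

end Spl

set_option maxHeartbeats 800000 in
/-- the trace argument for a splitting endomorphism: if `V` is a `φ`-invariant abelian subgroup
normalized by the `φ`-invariant subgroup `Q`, then `v ^ |Q|` is centralized by `Q` for all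
`v ∈ V`. -/
theorem trace_spl [Finite G] (φ : G →* G) (p : ℕ) (hp : p.Prime) (hφ : ∀ x, nrm φ p x = 1)
    (V Q : Subgroup G) (hVc : ∀ a ∈ V, ∀ b ∈ V, a * b = b * a)
    (hQV : Q ≤ Subgroup.normalizer (V : Set G))
    (hφV : ∀ v ∈ V, φ v ∈ V) (hφQ : ∀ u ∈ Q, φ u ∈ Q)
    (v₀ : G) (hv₀ : v₀ ∈ V) (q : G) (hq : q ∈ Q) :
    q * v₀ ^ Nat.card Q * q⁻¹ = v₀ ^ Nat.card Q := by
  classical
  haveI : Fintype ↥Q := Fintype.ofFinite _
  letI : CommGroup ↥V :=
    { (inferInstance : Group ↥V) with mul_comm := fun a b => Subtype.ext (hVc a a.2 b b.2) }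
  have hconj : ∀ u ∈ Q, ∀ x ∈ V, u * x * u⁻¹ ∈ V := fun u hu x hx =>
    ((Subgroup.mem_normalizer_iff.1 (hQV hu)) x).1 hx
  have hVk := iter_mem φ V hφV
  have hQn := nrm_mem φ Q hφQ
  obtain ⟨p', rfl⟩ : ∃ p', p = p' + 1 := ⟨p - 1, by have := hp.pos; omega⟩
  obtain ⟨v, hv⟩ : ∃ v, v = φ v₀ := ⟨_, rfl⟩
  have hvV : v ∈ V := by rw [hv]; exact hφV v₀ hv₀
  have hv0 : φ^[p'] v = v₀ := by
    rw [hv, ← Function.iterate_succ_apply]
    exact spl_iter hφ v₀
  let cq : ↥Q → ↥V →* ↥V := fun w =>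
    { toFun := fun x => ⟨(w : G) * x * (w : G)⁻¹, hconj w w.2 x x.2⟩
      map_one' := Subtype.ext (by
        show (w : G) * (1 : G) * (w : G)⁻¹ = 1
        group)
      map_mul' := fun a b => Subtype.ext (by
        show (w : G) * ((a : G) * (b : G)) * (w : G)⁻¹ =
          ((w : G) * (a : G) * (w : G)⁻¹) * ((w : G) * (b : G) * (w : G)⁻¹)
        group) }
  let F : ↥Q → ℕ → ↥V := fun u k =>
    ⟨nrm φ (k + 1) (u : G) * φ^[k] v * (nrm φ (k + 1) (u : G))⁻¹,
      hconj _ (hQn (k + 1) u u.2) _ (hVk k v hvV)⟩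
  have step1 : ∀ u : ↥Q, ∏ k ∈ Finset.range (p' + 1), F u k = 1 := by
    intro u
    have key : ∀ k : ℕ, nrm φ k ((u : G) * v) =
        ((∏ i ∈ Finset.range k, F u i : ↥V) : G) * nrm φ k (u : G) := by
      intro k
      induction k with
      | zero => simp [nrm]
      | succ k ih =>
        rw [nrm_succ, ih, Finset.prod_range_succ, Subgroup.coe_mul, iter_mul]
        show _ = _ * (nrm φ (k + 1) (u : G) * φ^[k] v * (nrm φ (k + 1) (u : G))⁻¹) *
          nrm φ (k + 1) (u : G)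
        rw [nrm_succ]
        group
    have h1 := key (p' + 1)
    rw [hφ, hφ, mul_one] at h1
    exact Subtype.ext h1.symm
  have step2 : ∏ k ∈ Finset.range (p' + 1), ∏ u : ↥Q, F u k = 1 := by
    rw [Finset.prod_comm]
    exact Finset.prod_eq_one (fun u _ => step1 u)
  have step3 : ∀ k, k < p' → ∀ w : ↥Q,
      cq w (∏ u : ↥Q, F u k) = ∏ u : ↥Q, F u k := by
    intro k hkr w
    let σ : ↥Q → ↥Q := fun u => ⟨nrm φ (k + 1) (u : G), hQn (k + 1) u u.2⟩
    have hσinj : Function.Injective σ := by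
      intro a b hab
      have h1 : nrm φ (k + 1) (a : G) = nrm φ (k + 1) (b : G) := congrArg Subtype.val hab
      exact Subtype.ext (spl_inj hp hφ (k + 1) (Nat.succ_pos k) (by omega) _ _ h1)
    have hσ : Function.Bijective σ := Finite.injective_iff_bijective.1 hσinj
    obtain ⟨x, hx⟩ : ∃ x : ↥V, x = ⟨φ^[k] v, hVk k v hvV⟩ := ⟨_, rfl⟩
    have hF : ∀ u : ↥Q, F u k = cq (σ u) x := by
      intro u
      apply Subtype.ext
      show nrm φ (k + 1) (u : G) * φ^[k] v * (nrm φ (k + 1) (u : G))⁻¹ =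
        nrm φ (k + 1) (u : G) * (x : G) * (nrm φ (k + 1) (u : G))⁻¹
      rw [hx]
    have h5 : ∏ u : ↥Q, F u k = ∏ u : ↥Q, cq u x := by
      rw [Finset.prod_congr rfl (fun u _ => hF u)]
      exact Function.Bijective.prod_comp hσ (fun u => cq u x)
    rw [h5, map_prod]
    have h6 : ∀ u : ↥Q, cq w (cq u x) = cq (w * u) x := by
      intro u
      apply Subtype.ext
      show (w : G) * ((u : G) * (x : G) * (u : G)⁻¹) * (w : G)⁻¹ =
        ((w : G) * (u : G)) * (x : G) * ((w : G) * (u : G))⁻¹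
      group
    rw [Finset.prod_congr rfl (fun u _ => h6 u)]
    exact Function.Bijective.prod_comp (Group.mulLeft_bijective w) (fun u => cq u x)
  rw [Finset.prod_range_succ] at step2
  obtain ⟨W, hW⟩ : ∃ W : ↥V, W = ∏ k ∈ Finset.range p', ∏ u : ↥Q, F u k := ⟨_, rfl⟩
  rw [← hW] at step2
  have hWfix : cq ⟨q, hq⟩ W = W := by
    rw [hW, map_prod]
    apply Finset.prod_congr rfl
    intro k hk
    exact step3 k (Finset.mem_range.1 hk) ⟨q, hq⟩
  have hF0 : ∏ u : ↥Q, F u p' = (⟨v₀, hv₀⟩ : ↥V) ^ Nat.card Q := by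
    have h0 : ∀ u : ↥Q, F u p' = ⟨v₀, hv₀⟩ := by
      intro u
      apply Subtype.ext
      show nrm φ (p' + 1) (u : G) * φ^[p'] v * (nrm φ (p' + 1) (u : G))⁻¹ = v₀
      rw [hφ, hv0]
      group
    rw [Finset.prod_congr rfl (fun u _ => h0 u), Finset.prod_const, Finset.card_univ,
      Nat.card_eq_fintype_card]
  rw [hF0] at step2
  have h7 : (⟨v₀, hv₀⟩ : ↥V) ^ Nat.card Q = W⁻¹ := eq_inv_of_mul_eq_one_right step2
  have h8 : cq ⟨q, hq⟩ ((⟨v₀, hv₀⟩ : ↥V) ^ Nat.card Q) = (⟨v₀, hv₀⟩ : ↥V) ^ Nat.card Q := by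
    rw [h7, map_inv, hWfix]
  have h9 : q * (((⟨v₀, hv₀⟩ : ↥V) ^ Nat.card Q : ↥V) : G) * q⁻¹ =
      (((⟨v₀, hv₀⟩ : ↥V) ^ Nat.card Q : ↥V) : G) := congrArg Subtype.val h8
  rw [Subgroup.coe_pow] at h9
  exact h9


theorem iter_restrict (ψ : G →* G) (H : Subgroup G) (hH : ∀ h ∈ H, ψ h ∈ H) (k : ℕ) :
    ∀ h : H, ((((ψ.comp H.subtype).codRestrict H (fun h => hH h h.2))^[k] h : H) : G) =
      ψ^[k] (h : G) := by
  induction k with
  | zero => intro h; rfl
  | succ k ih =>
    intro h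
    rw [Function.iterate_succ_apply', Function.iterate_succ_apply', ← ih]
    rfl

theorem nrm_restrict (ψ : G →* G) (H : Subgroup G) (hH : ∀ h ∈ H, ψ h ∈ H) (k : ℕ) (h : H) :
    ((nrm ((ψ.comp H.subtype).codRestrict H (fun h => hH h h.2)) k h : H) : G) =
      nrm ψ k (h : G) := by
  induction k with
  | zero => rfl
  | succ k ih => rw [nrm_succ, nrm_succ, Subgroup.coe_mul, ih, iter_restrict]

theorem iter_quot (φ : G →* G) (N : Subgroup G) [N.Normal] (hle : N ≤ N.comap φ) (k : ℕ) :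
    ∀ g : G, (QuotientGroup.map N N φ hle)^[k] (g : G ⧸ N) = ((φ^[k] g : G) : G ⧸ N) := by
  induction k with
  | zero => intro g; rfl
  | succ k ih =>
    intro g
    rw [Function.iterate_succ_apply', ih, QuotientGroup.map_mk,
      ← Function.iterate_succ_apply' φ]

theorem nrm_quot (φ : G →* G) (N : Subgroup G) [N.Normal] (hle : N ≤ N.comap φ) (k : ℕ)
    (g : G) : nrm (QuotientGroup.map N N φ hle) k (g : G ⧸ N) = ((nrm φ k g : G) : G ⧸ N) := by
  induction k with
  | zero => rfl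
  | succ k ih => rw [nrm_succ, nrm_succ, ih, iter_quot, QuotientGroup.mk_mul]

set_option maxHeartbeats 1600000 in
/-- **Kegel's theorem**: a finite group with a splitting endomorphism of prime length `p`
(`x · φ x ⋯ φ^{p-1} x = 1` for all `x`) is nilpotent. -/
theorem spl_nilpotent (p : ℕ) (hp : p.Prime) :
    ∀ (n : ℕ) (G : Type u) [Group G] [Finite G], Nat.card G = n →
      ∀ φ : G →* G, (∀ x, nrm φ p x = 1) → Group.IsNilpotent G := by
  intro n
  induction n using Nat.strong_induction_on with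
  | _ n ih =>
  intro G _ _ hn φ hφ
  by_contra hnil
  classical
  obtain ⟨p', hp'⟩ : ∃ p', p = p' + 1 := ⟨p - 1, by have := hp.pos; omega⟩
  have hinjψ : ∀ ψ : G →* G, (∀ x, nrm ψ p x = 1) → Function.Injective ψ := by
    intro ψ hψ a b hab
    have h1 : ψ^[p] a = ψ^[p] b := by
      rw [hp', Function.iterate_succ_apply, Function.iterate_succ_apply, hab]
    rwa [spl_iter hψ, spl_iter hψ] at h1
  have hpre : ∀ ψ : G →* G, (∀ x, nrm ψ p x = 1) → ∀ H : Subgroup G, (∀ h ∈ H, ψ h ∈ H) →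
      ∀ h ∈ H, ∃ h' ∈ H, ψ h' = h := by
    intro ψ hψ H hH h hh
    refine ⟨ψ^[p'] h, iter_mem ψ H hH p' h hh, ?_⟩
    have h1 : ψ (ψ^[p'] h) = ψ^[p' + 1] h := (Function.iterate_succ_apply' ψ p' h).symm
    rw [h1, ← hp']
    exact spl_iter hψ h
  have hinj := hinjψ φ hφ
  have hbij : Function.Bijective φ := ⟨hinj, Finite.surjective_of_injective hinj⟩
  have hpreG : ∀ g : G, ∃ g', φ g' = g := fun g => hbij.2 g
  -- invariant proper subgroups are nilpotent
  have L1 : ∀ ψ : G →* G, (∀ x, nrm ψ p x = 1) → ∀ H : Subgroup G, (∀ h ∈ H, ψ h ∈ H) →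
      H ≠ ⊤ → Group.IsNilpotent H := by
    intro ψ hψ H hH hne
    have hlt : Nat.card H < n := by
      rw [← hn, ← Subgroup.card_top (G := G)]
      exact Helper6.card_lt_of_lt' (lt_top_iff_ne_top.2 hne)
    refine ih _ hlt H rfl ((ψ.comp H.subtype).codRestrict H (fun h => hH h h.2)) ?_
    intro h
    apply Subtype.ext
    rw [nrm_restrict, hψ]
    rfl
  -- quotients by nontrivial invariant normal subgroups are nilpotent
  have L2 : ∀ (N : Subgroup G) [N.Normal], (∀ x ∈ N, φ x ∈ N) → N ≠ ⊥ →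
      Group.IsNilpotent (G ⧸ N) := by
    intro N hN hNφ hne
    have hlt : Nat.card (G ⧸ N) < n := by rw [← hn]; exact card_quot_lt N hne
    have hle : N ≤ N.comap φ := fun x hx => hNφ x hx
    refine ih _ hlt (G ⧸ N) rfl (QuotientGroup.map N N φ hle) ?_
    intro x
    obtain ⟨g, rfl⟩ := QuotientGroup.mk_surjective x
    rw [nrm_quot, hφ]
    rfl
  -- twisted invariant Sylow subgroups
  have hSyl : ∀ (q : ℕ) [Fact q.Prime], ∃ (P : Sylow q G) (h : G),
      ∀ x ∈ (P : Subgroup G), tw φ h x ∈ (P : Subgroup G) := by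
    intro q _
    obtain ⟨P⟩ : Nonempty (Sylow q G) := inferInstance
    have hQ : IsPGroup q ((P : Subgroup G).map φ) := P.isPGroup'.map φ
    obtain ⟨g, hg⟩ := Helper5.exists_conj_le_sylow P _ hQ
    refine ⟨P, g⁻¹, fun x hx => ?_⟩
    obtain ⟨y, hy, hyx⟩ := hg ⟨x, hx, rfl⟩
    rw [tw_apply, ← hyx]
    have h1 : g⁻¹ * (MulAut.conj g).toMonoidHom y * g⁻¹⁻¹ = y := by
      show g⁻¹ * (g * y * g⁻¹) * g⁻¹⁻¹ = y
      group
    rw [h1]; exact hy
  -- the centre is trivial
  have hZG : Subgroup.center G = ⊥ := by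
    by_contra hne
    have hinv : ∀ x ∈ Subgroup.center G, φ x ∈ Subgroup.center G := by
      intro x hx
      rw [Subgroup.mem_center_iff] at hx ⊢
      intro g
      obtain ⟨g', rfl⟩ := hpreG g
      rw [← map_mul, ← map_mul, hx g']
    haveI h1 := L2 (Subgroup.center G) hinv hne
    exact hnil (Subgroup.isNilpotent_of_ker_le_center (QuotientGroup.mk' (Subgroup.center G))
      (by rw [QuotientGroup.ker_mk']))
  -- no nontrivial invariant nilpotent normal subgroup
  have E : ∀ N : Subgroup G, N.Normal → (∀ x ∈ N, φ x ∈ N) → N ≠ ⊥ →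
      Group.IsNilpotent N → False := by
    intro N hNn hNφ hN1 hNnil
    haveI := hNn
    obtain ⟨A, hA⟩ : ∃ A : Subgroup G, A = N ⊓ Subgroup.centralizer (N : Set G) := ⟨_, rfl⟩
    have hA1 : A ≠ ⊥ := by
      haveI : Nontrivial ↥N := (Subgroup.nontrivial_iff_ne_bot N).2 hN1
      haveI := hNnil
      have h1 := Group.IsNilpotent.center_ne_bot (G := ↥N)
      intro hbot
      obtain ⟨a, ha⟩ := Subgroup.ne_bot_iff_exists_ne_one.1 h1
      apply ha
      have h2 : ((a : ↥N) : G) ∈ A := by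
        rw [hA]
        refine Subgroup.mem_inf.2 ⟨(a : ↥N).2, ?_⟩
        rw [Subgroup.mem_centralizer_iff]
        intro y hy
        have := Subgroup.mem_center_iff.1 a.2 ⟨y, hy⟩
        exact congrArg Subtype.val this
      rw [hbot, Subgroup.mem_bot] at h2
      exact Subtype.ext (Subtype.ext h2)
    have hAn : A.Normal := by rw [hA]; infer_instance
    have hAc : ∀ a ∈ A, ∀ b ∈ A, a * b = b * a := by
      intro a ha b hb
      rw [hA] at ha hb
      exact Subgroup.mem_centralizer_iff.1 hb.2 a ha.1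
    have hAφ : ∀ x ∈ A, φ x ∈ A := by
      intro x hx
      rw [hA] at hx ⊢
      rw [Subgroup.mem_inf] at hx ⊢
      refine ⟨hNφ x hx.1, ?_⟩
      rw [Subgroup.mem_centralizer_iff]
      intro y hy
      obtain ⟨y', hy', rfl⟩ := hpre φ hφ N hNφ y hy
      rw [← map_mul, ← map_mul, Subgroup.mem_centralizer_iff.1 hx.2 y' hy']
    have hcA : Nat.card A ≠ 1 := by
      have := (Subgroup.one_lt_card_iff_ne_bot A).2 hA1
      omega
    obtain ⟨s, hs, hsd⟩ := Nat.exists_prime_and_dvd hcA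
    haveI : Fact s.Prime := ⟨hs⟩
    obtain ⟨a, ha⟩ := exists_prime_orderOf_dvd_card' (G := ↥A) s hsd
    obtain ⟨V, hVmem⟩ : ∃ V : Subgroup G, ∀ x, x ∈ V ↔ x ∈ A ∧ x ^ s = 1 :=
      ⟨{ carrier := {x | x ∈ A ∧ x ^ s = 1}
         one_mem' := ⟨A.one_mem, one_pow s⟩
         mul_mem' := fun {x y} hx hy => ⟨A.mul_mem hx.1 hy.1, by
           rw [(show Commute x y from hAc x hx.1 y hy.1).mul_pow, hx.2, hy.2, one_mul]⟩
         inv_mem' := fun {x} hx => ⟨A.inv_mem hx.1, by rw [inv_pow, hx.2, inv_one]⟩ },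
       fun x => Iff.rfl⟩
    have hV1 : V ≠ ⊥ := by
      intro hbot
      have h1 : (a : G) ∈ V := by
        rw [hVmem]
        refine ⟨a.2, ?_⟩
        have h2 : a ^ s = 1 := by rw [← ha]; exact pow_orderOf_eq_one a
        have h3 := congrArg Subtype.val h2
        simpa using h3
      rw [hbot, Subgroup.mem_bot] at h1
      have h4 : a = 1 := Subtype.ext h1
      rw [h4, orderOf_one] at ha
      exact hs.one_lt.ne ha
    have hVn : V.Normal := by
      refine ⟨fun x hx g => ?_⟩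
      rw [hVmem] at hx ⊢
      refine ⟨hAn.conj_mem x hx.1 g, ?_⟩
      rw [conj_pow, hx.2]
      group
    have hVφ : ∀ x ∈ V, φ x ∈ V := by
      intro x hx
      rw [hVmem] at hx ⊢
      refine ⟨hAφ x hx.1, ?_⟩
      rw [← map_pow, hx.2, map_one]
    have hVc : ∀ a ∈ V, ∀ b ∈ V, a * b = b * a := fun a ha b hb =>
      hAc a ((hVmem a).1 ha).1 b ((hVmem b).1 hb).1
    have hVp : IsPGroup s V := by
      intro x
      refine ⟨1, ?_⟩
      apply Subtype.ext
      rw [pow_one, Subgroup.coe_pow]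
      exact ((hVmem x).1 x.2).2
    obtain ⟨S, -, -⟩ := hSyl s
    have hVS : V ≤ (S : Subgroup G) :=
      (Helper5.le_pCore V hVn hVp).trans (Helper5.pCore_le_sylow S)
    have hZ1 := normal_inf_center_ne_bot (S : Subgroup G) S.isPGroup' (Nat.card V) V rfl hVS
      (by rw [Subgroup.normalizer_eq_top_iff.2 hVn]; exact le_top) hV1
    obtain ⟨z, hz, hz1⟩ : ∃ z ∈ V ⊓ ((S : Subgroup G) ⊓
        Subgroup.centralizer ((S : Subgroup G) : Set G)), z ≠ 1 := by
      by_contra hcon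
      push Not at hcon
      exact hZ1 ((Subgroup.eq_bot_iff_forall _).2 hcon)
    have hzs : z ^ s = 1 := ((hVmem z).1 hz.1).2
    have hzc : Subgroup.centralizer ({z} : Set G) = ⊤ := by
      apply eq_top_of_forall_sylow_le
      intro t _
      by_cases hts : t = s
      · rw [hts]
        refine ⟨S, fun x hx => ?_⟩
        rw [Subgroup.mem_centralizer_iff]
        intro y hy
        rw [Set.mem_singleton_iff] at hy
        rw [hy]
        exact (Subgroup.mem_centralizer_iff.1 hz.2.2 x hx).symm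
      · obtain ⟨Qt, h, hQt⟩ := hSyl t
        refine ⟨Qt, fun u hu => ?_⟩
        have htp : t.Prime := Fact.out
        have hVtw : ∀ v ∈ V, tw φ h v ∈ V := by
          intro v hv
          rw [tw_apply]
          exact hVn.conj_mem _ (hVφ v hv) h
        have h1 := trace_spl (tw φ h) p hp (tw_spl hφ h) V (Qt : Subgroup G) hVc
          (by rw [Subgroup.normalizer_eq_top_iff.2 hVn]; exact le_top) hVtw hQt z hz.1 u hu
        obtain ⟨j, hj⟩ := IsPGroup.iff_card.1 Qt.isPGroup'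
        rw [hj] at h1
        have hcop : Nat.Coprime (t ^ j) (orderOf z) :=
          Nat.Coprime.coprime_dvd_right (orderOf_dvd_of_pow_eq_one hzs)
            (Nat.Coprime.pow_left j ((Nat.coprime_primes htp hs).2 hts))
        obtain ⟨m, hm⟩ := exists_pow_eq_self_of_coprime hcop
        have h2 : u * z * u⁻¹ = z := by
          calc u * z * u⁻¹ = u * (z ^ t ^ j) ^ m * u⁻¹ := by rw [hm]
            _ = (u * z ^ t ^ j * u⁻¹) ^ m := by rw [conj_pow]
            _ = z := by rw [h1, hm]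
        rw [Subgroup.mem_centralizer_iff]
        intro y hy
        rw [Set.mem_singleton_iff] at hy
        rw [hy]
        have h3 : u * z = z * u := mul_inv_eq_iff_eq_mul.1 h2
        exact h3.symm
    have hzZ : z ∈ Subgroup.center G := by
      rw [Subgroup.mem_center_iff]
      intro g
      have h1 : g ∈ Subgroup.centralizer ({z} : Set G) := by rw [hzc]; exact Subgroup.mem_top g
      exact (Subgroup.mem_centralizer_iff.1 h1 z rfl).symm
    rw [hZG, Subgroup.mem_bot] at hzZ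
    exact hz1 hzZ
  by_cases hodd : ∃ q : ℕ, q.Prime ∧ q ≠ 2 ∧ q ∣ Nat.card G
  · obtain ⟨q, hq, hq2, hqd⟩ := hodd
    haveI : Fact q.Prime := ⟨hq⟩
    obtain ⟨P, h, hPψ⟩ := hSyl q
    obtain ⟨ψ, hψdef⟩ : ∃ ψ : G →* G, ψ = tw φ h := ⟨_, rfl⟩
    rw [← hψdef] at hPψ
    have hψ : ∀ x, nrm ψ p x = 1 := by rw [hψdef]; exact tw_spl hφ h
    have hψinj := hinjψ ψ hψ
    have hP1 : (P : Subgroup G) ≠ ⊥ := Sylow.ne_bot_of_dvd_card P hqd
    obtain ⟨Z, hZdef⟩ : ∃ Z : Subgroup G, Z = (P : Subgroup G) ⊓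
        Subgroup.centralizer ((P : Subgroup G) : Set G) := ⟨_, rfl⟩
    obtain ⟨J, hJdef⟩ : ∃ J : Subgroup G, J = ZJ.JJ 0 (P : Subgroup G) := ⟨_, rfl⟩
    have hZ1 : Z ≠ ⊥ := by
      rw [hZdef]; exact center_ne_bot (p := q) (P : Subgroup G) P.isPGroup' hP1
    have hJ1 : J ≠ ⊥ := by
      rw [hJdef]; exact JJ_ne_bot (p := q) 0 (Or.inl rfl) (P : Subgroup G) P.isPGroup' hP1
    have hZP : Z ≤ (P : Subgroup G) := by rw [hZdef]; exact inf_le_left
    have hJP : J ≤ (P : Subgroup G) := by rw [hJdef]; exact ZJ.JJ_le 0 (P : Subgroup G)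
    have hZψ : ∀ x ∈ Z, ψ x ∈ Z := by
      intro x hx
      rw [hZdef] at hx ⊢
      rw [Subgroup.mem_inf] at hx ⊢
      refine ⟨hPψ x hx.1, ?_⟩
      rw [Subgroup.mem_centralizer_iff]
      intro y hy
      obtain ⟨y', hy', rfl⟩ := hpre ψ hψ P hPψ y hy
      rw [← map_mul, ← map_mul, Subgroup.mem_centralizer_iff.1 hx.2 y' hy']
    have hPmap : (P : Subgroup G).map ψ = (P : Subgroup G) := by
      apply le_antisymm
      · rintro _ ⟨x, hx, rfl⟩
        exact hPψ x hx
      · intro x hx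
        obtain ⟨x', hx', rfl⟩ := hpre ψ hψ P hPψ x hx
        exact ⟨x', hx', rfl⟩
    have hJmap : J.map ψ = J := by
      rw [hJdef, ← ZJ.JJ_map_inj 0 ψ hψinj, hPmap]
    have hJψ : ∀ x ∈ J, ψ x ∈ J := by
      intro x hx
      have h1 : ψ x ∈ J.map ψ := ⟨x, hx, rfl⟩
      rwa [hJmap] at h1
    obtain ⟨CZ, hCZdef⟩ : ∃ CZ : Subgroup G, CZ = Subgroup.centralizer (Z : Set G) := ⟨_, rfl⟩
    obtain ⟨NJ, hNJdef⟩ : ∃ NJ : Subgroup G, NJ = Subgroup.normalizer (J : Set G) := ⟨_, rfl⟩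
    have hCZψ : ∀ x ∈ CZ, ψ x ∈ CZ := by
      intro x hx
      rw [hCZdef] at hx ⊢
      rw [Subgroup.mem_centralizer_iff]
      intro y hy
      obtain ⟨y', hy', rfl⟩ := hpre ψ hψ Z hZψ y hy
      rw [← map_mul, ← map_mul, Subgroup.mem_centralizer_iff.1 hx y' hy']
    have hNJψ : ∀ x ∈ NJ, ψ x ∈ NJ := by
      intro x hx
      rw [hNJdef] at hx ⊢
      have h1 : ψ x ∈ (Subgroup.normalizer (J : Set G)).map ψ := ⟨x, hx, rfl⟩
      have h2 := Subgroup.le_normalizer_map (H := J) ψ h1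
      rwa [hJmap] at h2
    have hZp : IsPGroup q Z := P.isPGroup'.to_le hZP
    have hJp : IsPGroup q J := P.isPGroup'.to_le hJP
    by_cases hCZ : CZ = ⊤
    · have hZc : Z ≤ Subgroup.center G := by
        intro z hz
        rw [Subgroup.mem_center_iff]
        intro g
        have h1 : g ∈ CZ := by rw [hCZ]; exact Subgroup.mem_top g
        rw [hCZdef] at h1
        exact (Subgroup.mem_centralizer_iff.1 h1 z hz).symm
      rw [hZG] at hZc
      exact hZ1 (le_bot_iff.1 hZc)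
    by_cases hNJ : NJ = ⊤
    · have hJn : J.Normal := by
        rw [hNJdef] at hNJ
        exact Subgroup.normalizer_eq_top_iff.1 hNJ
      have hJφ : ∀ x ∈ J, φ x ∈ J := by
        intro x hx
        have h1 : ψ x ∈ J := hJψ x hx
        rw [hψdef, tw_apply] at h1
        have h2 := hJn.conj_mem _ h1 h⁻¹
        have h3 : h⁻¹ * (h * φ x * h⁻¹) * h⁻¹⁻¹ = φ x := by group
        rwa [h3] at h2
      exact E J hJn hJφ hJ1 hJp.isNilpotent
    have h1 := npc_of_nilpotent (L1 ψ hψ CZ hCZψ hCZ) q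
    have h2 := npc_of_nilpotent (L1 ψ hψ NJ hNJψ hNJ) q
    rw [hCZdef, hZdef] at h1
    rw [hNJdef, hJdef] at h2
    have hnpc : Cfsg.HasNormalPComplement q G :=
      thompson_odd hq2 0 (Or.inl rfl) G P ⟨h1, h2, Or.inl hq2⟩
    obtain ⟨K, hK⟩ := Helper6.exists_isNPC_of_hasNormalPComplement hnpc
    have hKφ : ∀ x ∈ K, φ x ∈ K := by
      intro x hx
      rw [hK.mem_iff] at hx ⊢
      rwa [orderOf_injective φ hinj x]
    have hKtop : K ≠ ⊤ := by
      intro h
      have h3 := hK.2.1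
      rw [h, Subgroup.card_top] at h3
      have h4 := Nat.Coprime.eq_one_of_dvd h3.symm hqd
      exact hq.one_lt.ne' h4
    by_cases hK1 : K = ⊥
    · have hG : IsPGroup q G := by
        intro g
        obtain ⟨k, hk⟩ := hK.2.2 g
        rw [hK1, Subgroup.mem_bot] at hk
        exact ⟨k, hk⟩
      exact hnil hG.isNilpotent
    · exact E K hK.1 hKφ hK1 (L1 φ hφ K hKφ hKtop)
  · push Not at hodd
    have hG : IsPGroup 2 G := by
      haveI : Fact (Nat.Prime 2) := ⟨Nat.prime_two⟩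
      have h1 : Nat.card G = 2 ^ (Nat.card G).primeFactorsList.length :=
        Nat.eq_prime_pow_of_unique_prime_dvd Nat.card_pos.ne' (fun {d} hd hdd => by
          by_contra hd2
          exact hodd d hd hd2 hdd)
      exact IsPGroup.of_card h1
    haveI : Fact (Nat.Prime 2) := ⟨Nat.prime_two⟩
    exact hnil hG.isNilpotent

end Cfsg.Agent.Helper3.Kegel
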