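import Mathlib
import Cfsg.Prelude
import Cfsg.Agent.Helper3.FC11
import Cfsg.Agent.Helper6.FrobNPC
import Cfsg.Agent.Helper3.CoprimeGen
import Cfsg.Agent.Helper3.PConstrained
import Cfsg.Agent.Helper3.ExtLayer
import Cfsg.Agent.Helper5.Basic

set_option autoImplicit false

/-!
# Normal `p`-complements for metacyclic Sylow `p`-subgroups
-/

namespace Cfsg.Agent.Helper3.Metacyc
open Cfsg.Agent

universe u

variable {G : Type u} [Group G]

/-- a minimal counterexample to the Frobenius condition, inside a given Sylow subgroup. -/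
theorem exists_min_bad [Finite G] (p : ℕ) [Fact p.Prime] (S : Sylow p G)
    (hF : ¬ Helper6.FrobCond p G) :
    ∃ (X : Subgroup G) (g : G) (q : ℕ) (N₀ : Subgroup G), X ≤ (S : Subgroup G) ∧
      g ∈ Subgroup.normalizer (X : Set G) ∧ (orderOf g).Coprime p ∧
      g ∉ Subgroup.centralizer (X : Set G) ∧ q.Prime ∧ q ≠ p ∧
      g ^ q ∈ Subgroup.centralizer (X : Set G) ∧
      (∀ y, y ∈ N₀ ↔ y ∈ X ∧ g * y = y * g) ∧
      (∀ x ∈ X, ∀ y ∈ X, x * y * x⁻¹ * y⁻¹ ∈ N₀) ∧ (∀ x ∈ X, x ^ p ∈ N₀) ∧ N₀ ≠ X ∧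
      (∀ i : ℤ, ¬ (q : ℤ) ∣ i → ∀ y ∈ X, Commute (g ^ i) y → Commute g y) ∧
      (∀ i : ℤ, ¬ (q : ℤ) ∣ i → ∀ y ∈ X, g ^ i * y * (g ^ i)⁻¹ * y⁻¹ ∈ N₀ → y ∈ N₀) := by
  have hp : p.Prime := Fact.out
  unfold Helper6.FrobCond at hF
  push Not at hF
  obtain ⟨X₀, hX₀p, g₀, hg₀N, hg₀c, hg₀C⟩ := hF
  -- conjugate into `S`
  obtain ⟨t, ht⟩ := Helper5.exists_conj_le_sylow S X₀ hX₀p
  obtain ⟨X₁, hX₁⟩ : ∃ X₁ : Subgroup G, X₁ = FC.cj t⁻¹ X₀ := ⟨_, rfl⟩
  have hX₁S : X₁ ≤ (S : Subgroup G) := by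
    rw [hX₁, FC.cj_le_iff, inv_inv]
    exact ht
  obtain ⟨g₁', hg₁'⟩ : ∃ g₁' : G, g₁' = t⁻¹ * g₀ * t⁻¹⁻¹ := ⟨_, rfl⟩
  have hg₁N' : g₁' ∈ Subgroup.normalizer (X₁ : Set G) := by
    rw [hX₁, ← FC.cj_normalizer, hg₁']
    exact FC.mem_cj_of_mem hg₀N
  have hg₁c' : (orderOf g₁').Coprime p := by
    have e : orderOf g₁' = orderOf g₀ := by
      rw [hg₁']
      exact orderOf_injective (MulAut.conj t⁻¹).toMonoidHom (MulAut.conj t⁻¹).injective g₀
    rw [e]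
    exact hg₀c
  have hg₁C' : g₁' ∉ Subgroup.centralizer (X₁ : Set G) := by
    intro h
    rw [hX₁, ← FC.cj_centralizer, hg₁', FC.mem_cj] at h
    obtain ⟨a, ha, hae⟩ := h
    have e : a = g₀ := by
      have this : t * (t⁻¹ * a * t⁻¹⁻¹) * t⁻¹ = t * (t⁻¹ * g₀ * t⁻¹⁻¹) * t⁻¹ :=
        congrArg (fun z => t * z * t⁻¹) hae
      have e1 : t * (t⁻¹ * a * t⁻¹⁻¹) * t⁻¹ = a := by group
      have e2 : t * (t⁻¹ * g₀ * t⁻¹⁻¹) * t⁻¹ = g₀ := by group
      rw [e1, e2] at this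
      exact this
    exact hg₀C (e ▸ ha)
  -- minimal `X`
  obtain ⟨X, ⟨hXS, g₁, hg₁N, hg₁c, hg₁C⟩, hXmin⟩ := Set.exists_min_image
    {X : Subgroup G | X ≤ (S : Subgroup G) ∧ ∃ g ∈ Subgroup.normalizer (X : Set G),
      (orderOf g).Coprime p ∧ g ∉ Subgroup.centralizer (X : Set G)}
    (fun X => Nat.card X) (Set.toFinite _) ⟨X₁, hX₁S, g₁', hg₁N', hg₁c', hg₁C'⟩
  have hXp : IsPGroup p X := S.isPGroup'.to_le hXS
  -- minimal `g`
  obtain ⟨g, ⟨hgN, hgc, hgC⟩, hgmin⟩ := Set.exists_min_image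
    {g : G | g ∈ Subgroup.normalizer (X : Set G) ∧ (orderOf g).Coprime p ∧
      g ∉ Subgroup.centralizer (X : Set G)}
    orderOf (Set.toFinite _) ⟨g₁, hg₁N, hg₁c, hg₁C⟩
  have hA : ∀ Y : Subgroup G, Y ≤ X → Y ≠ X → g ∈ Subgroup.normalizer (Y : Set G) →
      g ∈ Subgroup.centralizer (Y : Set G) := by
    intro Y hYX hne hgY
    by_contra hgCY
    have h1 : Nat.card X ≤ Nat.card Y := hXmin Y ⟨hYX.trans hXS, g, hgY, hgc, hgCY⟩
    have h2 : Nat.card Y < Nat.card X := Helper6.card_lt_of_lt' (lt_of_le_of_ne hYX hne)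
    omega
  have hg1 : orderOf g ≠ 1 := by
    intro h
    rw [orderOf_eq_one_iff] at h
    apply hgC
    rw [h]
    exact one_mem _
  obtain ⟨q, hq, hqd⟩ := Nat.exists_prime_and_dvd hg1
  have hqp : q ≠ p := by
    rintro rfl
    exact hp.ne_one (Nat.Coprime.eq_one_of_dvd hgc.symm hqd)
  have hgq : g ^ q ∈ Subgroup.centralizer (X : Set G) := by
    by_contra hc
    have h0 : (orderOf (g ^ q)).Coprime p :=
      Nat.Coprime.coprime_dvd_left (orderOf_pow_dvd q) hgc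
    have h1 : orderOf g ≤ orderOf (g ^ q) := hgmin (g ^ q) ⟨pow_mem hgN q, h0, hc⟩
    have h2 : orderOf (g ^ q) = orderOf g / q := orderOf_pow_of_dvd hq.ne_zero hqd
    have h3 : orderOf g / q < orderOf g := Nat.div_lt_self (orderOf_pos g) hq.one_lt
    omega
  have hgqX : ∀ x ∈ X, Commute x (g ^ q) := fun x hx =>
    Subgroup.mem_centralizer_iff.1 hgq x hx
  obtain ⟨N₀, hN₀⟩ : ∃ N₀ : Subgroup G, N₀ = X ⊓ Subgroup.centralizer ({g} : Set G) :=
    ⟨_, rfl⟩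
  have hN₀mem : ∀ y, y ∈ N₀ ↔ y ∈ X ∧ g * y = y * g := by
    intro y
    rw [hN₀, Subgroup.mem_inf, Subgroup.mem_centralizer_iff]
    constructor
    · rintro ⟨h1, h2⟩
      exact ⟨h1, h2 g rfl⟩
    · rintro ⟨h1, h2⟩
      exact ⟨h1, fun h hh => by rw [Set.mem_singleton_iff.1 hh]; exact h2⟩
  have hP1 : ∀ y ∈ X, ∀ m : ℕ, m.Coprime p → y ^ m = 1 → y = 1 := by
    intro y hy m hm hym
    obtain ⟨a, ha⟩ := hXp ⟨y, hy⟩
    have ha' : y ^ p ^ a = 1 := by simpa using congrArg Subtype.val ha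
    exact Helper6.eq_one_of_pow_of_coprime ha'
      (Nat.Coprime.coprime_dvd_left (orderOf_dvd_of_pow_eq_one hym) hm)
  have hP2 : ∀ y ∈ X, y ∈ Subgroup.zpowers g → y = 1 := by
    intro y hy hyg
    apply hP1 y hy (orderOf y)
      (Nat.Coprime.coprime_dvd_left (orderOf_dvd_of_mem_zpowers hyg) hgc)
    exact pow_orderOf_eq_one y
  -- an index `p` normal subgroup of `X`
  have hXne : X ≠ ⊥ := by
    rintro rfl
    apply hgC
    rw [Subgroup.mem_centralizer_iff]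
    intro h hh
    rw [Subgroup.mem_bot.1 hh]
    simp
  haveI : Nontrivial ↥X := (Subgroup.nontrivial_iff_ne_bot X).2 hXne
  obtain ⟨M, hMn, hMi⟩ := FC.exists_normal_index_p_of_pgroup (p := p) ↥X hXp inferInstance
  haveI := hMn
  have hcardQ : Nat.card (↥X ⧸ M) = p := by rw [← Subgroup.index_eq_card]; exact hMi
  have hMpow : ∀ x : ↥X, x ^ p ∈ M := by
    intro x
    rw [← QuotientGroup.eq_one_iff, QuotientGroup.mk_pow, ← hcardQ]
    exact pow_card_eq_one'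
  have hMcomm : ∀ x y : ↥X, x * y * x⁻¹ * y⁻¹ ∈ M := by
    intro x y
    haveI : IsCyclic (↥X ⧸ M) := isCyclic_of_prime_card hcardQ
    obtain ⟨z, hz⟩ := IsCyclic.exists_generator (α := ↥X ⧸ M)
    rw [← QuotientGroup.eq_one_iff]
    obtain ⟨i, hi⟩ := Subgroup.mem_zpowers_iff.1 (hz (QuotientGroup.mk x))
    obtain ⟨j, hj⟩ := Subgroup.mem_zpowers_iff.1 (hz (QuotientGroup.mk y))
    rw [QuotientGroup.mk_mul, QuotientGroup.mk_mul, QuotientGroup.mk_mul, QuotientGroup.mk_inv,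
      QuotientGroup.mk_inv, ← hi, ← hj, zpow_mul_comm z i j]
    group
  obtain ⟨T, hT⟩ : ∃ T : Subgroup G, T = Subgroup.closure
      ({z | ∃ x ∈ X, z = x ^ p} ∪ {z | ∃ x ∈ X, ∃ y ∈ X, z = x * y * x⁻¹ * y⁻¹}) := ⟨_, rfl⟩
  have hMX' : M.map X.subtype ≤ X := by
    rintro _ ⟨y, _, rfl⟩
    exact y.2
  have hTM : T ≤ M.map X.subtype := by
    rw [hT, Subgroup.closure_le]
    rintro z (⟨x, hx, rfl⟩ | ⟨x, hx, y, hy, rfl⟩)
    · exact ⟨⟨x, hx⟩ ^ p, hMpow ⟨x, hx⟩, rfl⟩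
    · exact ⟨⟨x, hx⟩ * ⟨y, hy⟩ * ⟨x, hx⟩⁻¹ * ⟨y, hy⟩⁻¹, hMcomm _ _, rfl⟩
  have hMX : M.map X.subtype ≠ X := by
    intro h
    have hMtop : M = ⊤ := by
      rw [eq_top_iff]
      intro x _
      have hx : (x : G) ∈ M.map X.subtype := by rw [h]; exact x.2
      obtain ⟨y, hy, hyx⟩ := hx
      have hyx' : y = x := Subtype.ext hyx
      rwa [← hyx']
    rw [hMtop, Subgroup.index_top] at hMi
    exact hp.one_lt.ne hMi
  have hTX : T ≤ X := hTM.trans hMX'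
  have hTne : T ≠ X := fun h => hMX (le_antisymm hMX' (h ▸ hTM))
  have hgT : g ∈ Subgroup.normalizer (T : Set G) := by
    apply FC.mem_normalizer_of_cj_le
    rw [hT]
    unfold FC.cj
    rw [MonoidHom.map_closure, Subgroup.closure_le]
    rintro _ ⟨z, (⟨x, hx, rfl⟩ | ⟨x, hx, y, hy, rfl⟩), rfl⟩
    · apply Subgroup.subset_closure
      left
      refine ⟨g * x * g⁻¹, (Subgroup.mem_normalizer_iff.1 hgN x).1 hx, ?_⟩
      show g * x ^ p * g⁻¹ = (g * x * g⁻¹) ^ p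
      rw [conj_pow]
    · apply Subgroup.subset_closure
      right
      refine ⟨g * x * g⁻¹, (Subgroup.mem_normalizer_iff.1 hgN x).1 hx, g * y * g⁻¹,
        (Subgroup.mem_normalizer_iff.1 hgN y).1 hy, ?_⟩
      show g * (x * y * x⁻¹ * y⁻¹) * g⁻¹ = _
      group
  have hgCT := hA T hTX hTne hgT
  have hF2 : ∀ x ∈ X, x ^ p ∈ N₀ := by
    intro x hx
    rw [hN₀mem]
    refine ⟨pow_mem hx p, ?_⟩
    have h1 : x ^ p ∈ T := by rw [hT]; exact Subgroup.subset_closure (Or.inl ⟨x, hx, rfl⟩)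
    exact (Subgroup.mem_centralizer_iff.1 hgCT _ h1).symm
  have hF1 : ∀ x ∈ X, ∀ y ∈ X, x * y * x⁻¹ * y⁻¹ ∈ N₀ := by
    intro x hx y hy
    rw [hN₀mem]
    refine ⟨mul_mem (mul_mem (mul_mem hx hy) (inv_mem hx)) (inv_mem hy), ?_⟩
    have h1 : x * y * x⁻¹ * y⁻¹ ∈ T := by
      rw [hT]; exact Subgroup.subset_closure (Or.inr ⟨x, hx, y, hy, rfl⟩)
    exact (Subgroup.mem_centralizer_iff.1 hgCT _ h1).symm
  have hN₀X : N₀ ≤ X := fun y hy => ((hN₀mem y).1 hy).1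
  have hN₀norm : ∀ x ∈ X, ∀ c ∈ N₀, x * c * x⁻¹ ∈ N₀ := by
    intro x hx c hc
    have h1 := hF1 x hx c (hN₀X hc)
    have e : x * c * x⁻¹ = (x * c * x⁻¹ * c⁻¹) * c := by group
    rw [e]
    exact mul_mem h1 hc
  have hN₀ne : N₀ ≠ X := by
    intro h
    apply hgC
    rw [Subgroup.mem_centralizer_iff]
    intro x hx
    have hx' : x ∈ N₀ := by rw [h]; exact hx
    exact ((hN₀mem x).1 hx').2.symm
  -- commuting with a power `g ^ i` (`q ∤ i`) forces commuting with `g`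
  have hcomm_of : ∀ i : ℤ, ¬ (q : ℤ) ∣ i → ∀ y ∈ X, Commute (g ^ i) y → Commute g y := by
    intro i hi y hy hc
    have hcop : IsCoprime (q : ℤ) i :=
      (Nat.prime_iff_prime_int.1 hq).coprime_iff_not_dvd.2 hi
    obtain ⟨a, b, hab⟩ := hcop
    have h1 : g = (g ^ q) ^ a * (g ^ i) ^ b := by
      rw [← zpow_natCast g q, ← zpow_mul, ← zpow_mul, ← zpow_add]
      have e : (q : ℤ) * a + i * b = 1 := by rw [← hab]; ring
      rw [e, zpow_one]
    have h2 : Commute (g ^ q) y := (hgqX y hy).symm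
    rw [h1]
    exact (h2.zpow_left a).mul_left (hc.zpow_left b)
  have hD : ∀ i : ℤ, ¬ (q : ℤ) ∣ i → ∀ y ∈ X, g ^ i * y * (g ^ i)⁻¹ * y⁻¹ ∈ N₀ → y ∈ N₀ := by
    intro i hi y hy hc
    obtain ⟨h, hh⟩ : ∃ h, h = g ^ i := ⟨_, rfl⟩
    rw [← hh] at hc
    obtain ⟨c, hcdef⟩ : ∃ c, c = h * y * h⁻¹ * y⁻¹ := ⟨_, rfl⟩
    rw [← hcdef] at hc
    have hcX : c ∈ X := hN₀X hc
    have hgc' : Commute g c := ((hN₀mem c).1 hc).2
    have hhc : Commute h c := by rw [hh]; exact hgc'.zpow_left i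
    have e3 : h * y * h⁻¹ = c * y := by rw [hcdef]; group
    have e4 : h * c * h⁻¹ = c := by rw [hhc.eq]; group
    have hpow : ∀ m : ℕ, h ^ m * y * (h ^ m)⁻¹ = c ^ m * y := by
      intro m
      induction m with
      | zero => simp
      | succ m ihm =>
        have e1 : h ^ (m + 1) * y * (h ^ (m + 1))⁻¹ = h * (h ^ m * y * (h ^ m)⁻¹) * h⁻¹ := by
          rw [pow_succ']; group
        have e2 : h * (c ^ m * y) * h⁻¹ = (h * c * h⁻¹) ^ m * (h * y * h⁻¹) := by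
          rw [conj_pow]; group
        rw [e1, ihm, e2, e4, e3, pow_succ, mul_assoc]
    have h2 : c ^ orderOf h = 1 := by
      have h3 := hpow (orderOf h)
      rw [pow_orderOf_eq_one, one_mul, inv_one, mul_one] at h3
      calc c ^ orderOf h = (c ^ orderOf h * y) * y⁻¹ := by group
        _ = y * y⁻¹ := by rw [← h3]
        _ = 1 := mul_inv_cancel y
    have hoh : (orderOf h).Coprime p := by
      rw [hh]
      exact Nat.Coprime.coprime_dvd_left
        (orderOf_dvd_of_mem_zpowers (Subgroup.zpow_mem_zpowers g i)) hgc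
    have hc1 : c = 1 := hP1 c hcX _ hoh h2
    have hcomm1 : Commute h y := by
      show h * y = y * h
      calc h * y = (h * y * h⁻¹) * h := by group
        _ = y * h := by rw [e3, hc1, one_mul]
    have hcomm2 : Commute g y := hcomm_of i hi y hy (hh ▸ hcomm1)
    exact (hN₀mem y).2 ⟨hy, hcomm2.eq⟩
  exact ⟨X, g, q, N₀, hXS, hgN, hgc, hgC, hq, hqp, hgq, hN₀mem, hF1, hF2, hN₀ne, hcomm_of, hD⟩

/-- subgroups of a metacyclic group are generated by two elements, in normal form. -/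
theorem two_gen_of_metacyclic {R : Type u} [Group R] (hR : Cfsg.IsMetacyclic R) (X : Subgroup R) :
    ∃ a ∈ X, ∃ b ∈ X, ∀ x ∈ X, ∃ i j : ℤ, x = a ^ i * b ^ j := by
  obtain ⟨N, hN, hNc, hQc⟩ := hR
  haveI := hN
  haveI := hNc
  haveI := hQc
  haveI h1c : IsCyclic ↥(X ⊓ N) := Subgroup.isCyclic_of_le (inf_le_right : X ⊓ N ≤ N)
  obtain ⟨a, ha⟩ := IsCyclic.exists_generator (α := ↥(X ⊓ N))
  haveI h2c : IsCyclic ↥(X.map (QuotientGroup.mk' N)) := inferInstance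
  obtain ⟨b', hb'⟩ := IsCyclic.exists_generator (α := ↥(X.map (QuotientGroup.mk' N)))
  obtain ⟨b, hbX, hb⟩ := b'.2
  refine ⟨a, (Subgroup.mem_inf.1 a.2).1, b, hbX, ?_⟩
  intro x hx
  have h1 : (⟨QuotientGroup.mk' N x, ⟨x, hx, rfl⟩⟩ : ↥(X.map (QuotientGroup.mk' N))) ∈
      Subgroup.zpowers b' := hb' _
  obtain ⟨j, hj⟩ := Subgroup.mem_zpowers_iff.1 h1
  have h2 : (QuotientGroup.mk x : R ⧸ N) = (QuotientGroup.mk b : R ⧸ N) ^ j := by
    have h := congrArg Subtype.val hj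
    rw [Subgroup.coe_zpow, ← hb] at h
    exact h.symm
  have h3 : x * (b ^ j)⁻¹ ∈ X ⊓ N := by
    refine Subgroup.mem_inf.2 ⟨mul_mem hx (inv_mem (zpow_mem hbX j)), ?_⟩
    rw [← QuotientGroup.eq_one_iff, QuotientGroup.mk_mul, QuotientGroup.mk_inv,
      QuotientGroup.mk_zpow, h2, mul_inv_cancel]
  obtain ⟨i, hi⟩ := Subgroup.mem_zpowers_iff.1 (ha ⟨x * (b ^ j)⁻¹, h3⟩)
  refine ⟨i, j, ?_⟩
  have h4 : (a : R) ^ i = x * (b ^ j)⁻¹ := by
    have h := congrArg Subtype.val hi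
    rw [Subgroup.coe_zpow] at h
    exact h
  rw [h4]
  group

/-- the Frobenius condition for a group with metacyclic Sylow `p`-subgroups in which
`|G / O_{p',p}(G)|` is prime to `p ^ 2 - 1`. -/
theorem frobCond_of_metacyclic [Finite G] (p : ℕ) [Fact p.Prime] (S : Sylow p G)
    (hS : Cfsg.IsMetacyclic ↥(S : Subgroup G))
    (hcop : Nat.Coprime (Nat.card (G ⧸ Cfsg.pPrimePCore p G)) (p ^ 2 - 1)) :
    Helper6.FrobCond p G := by
  have hp : p.Prime := Fact.out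
  by_contra hF
  obtain ⟨X, g, q, N₀, hXS, hgN, hgc, hgC, hq, hqp, hgq, hN₀mem, hF1, hF2, hN₀ne, hcomm_of,
    hD⟩ := exists_min_bad p S hF
  have hXp : IsPGroup p X := S.isPGroup'.to_le hXS
  haveI : Fact q.Prime := ⟨hq⟩
  have hN₀X : N₀ ≤ X := fun y hy => ((hN₀mem y).1 hy).1
  have hP1 : ∀ y ∈ X, ∀ m : ℕ, m.Coprime p → y ^ m = 1 → y = 1 := by
    intro y hy m hm hym
    obtain ⟨a, ha⟩ := hXp ⟨y, hy⟩
    have ha' : y ^ p ^ a = 1 := by simpa using congrArg Subtype.val ha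
    exact Helper6.eq_one_of_pow_of_coprime ha'
      (Nat.Coprime.coprime_dvd_left (orderOf_dvd_of_pow_eq_one hym) hm)
  -- `q` divides the index of `O_{p',p}(G)`
  have hqidx : q ∣ Nat.card (G ⧸ Cfsg.pPrimePCore p G) := by
    by_contra hndvd
    rw [← Subgroup.index_eq_card] at hndvd
    obtain ⟨m, hm⟩ : ∃ m, m = (Cfsg.pPrimePCore p G).index := ⟨_, rfl⟩
    rw [← hm] at hndvd
    have h1 : g ^ m ∈ Cfsg.pPrimePCore p G := by rw [hm]; exact Subgroup.pow_index_mem _ g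
    rw [Helper3.mem_pPrimePCore_iff] at h1
    obtain ⟨k, hk⟩ := Helper3.pCore_isPGroup p (G ⧸ Cfsg.pPrimeCore p G) ⟨_, h1⟩
    have hk' : (QuotientGroup.mk' (Cfsg.pPrimeCore p G) (g ^ m)) ^ p ^ k = 1 := by
      simpa using congrArg Subtype.val hk
    have h2 : (g ^ m) ^ p ^ k ∈ Cfsg.pPrimeCore p G := by
      rw [← QuotientGroup.eq_one_iff, QuotientGroup.mk_pow]
      exact hk'
    have hom : (p ^ k).Coprime (orderOf (g ^ m)) :=
      (Nat.Coprime.pow_right k (Nat.Coprime.coprime_dvd_left (orderOf_pow_dvd m) hgc)).symm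
    obtain ⟨r, hr⟩ := exists_pow_eq_self_of_coprime hom
    have h3 : g ^ m ∈ Cfsg.pPrimeCore p G := by rw [← hr]; exact pow_mem h2 r
    have hcent : ∀ y ∈ X, Commute (g ^ (m : ℤ)) y := by
      intro y hy
      rw [zpow_natCast]
      have hc1 : g ^ m * y * (g ^ m)⁻¹ * y⁻¹ ∈ X :=
        mul_mem ((Subgroup.mem_normalizer_iff.1 (pow_mem hgN m) y).1 hy) (inv_mem hy)
      have hc2 : g ^ m * y * (g ^ m)⁻¹ * y⁻¹ ∈ Cfsg.pPrimeCore p G := by
        have e : g ^ m * y * (g ^ m)⁻¹ * y⁻¹ = g ^ m * (y * (g ^ m)⁻¹ * y⁻¹) := by group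
        rw [e]
        exact mul_mem h3 (Subgroup.Normal.conj_mem inferInstance _ (inv_mem h3) y)
      have hc3 : g ^ m * y * (g ^ m)⁻¹ * y⁻¹ = 1 := by
        apply hP1 _ hc1 (Nat.card (Cfsg.pPrimeCore p G)) (Helper3.pPrimeCore_coprime p G)
        have h := pow_card_eq_one' (G := ↥(Cfsg.pPrimeCore p G))
          (x := ⟨g ^ m * y * (g ^ m)⁻¹ * y⁻¹, hc2⟩)
        have h' := congrArg Subtype.val h
        rw [Subgroup.coe_pow] at h'
        exact h'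
      show g ^ m * y = y * g ^ m
      calc g ^ m * y = (g ^ m * y * (g ^ m)⁻¹ * y⁻¹) * (y * g ^ m) := by group
        _ = y * g ^ m := by rw [hc3, one_mul]
    apply hgC
    rw [Subgroup.mem_centralizer_iff]
    intro y hy
    have hmq : ¬ (q : ℤ) ∣ (m : ℤ) := by
      rw [Int.natCast_dvd_natCast]; exact hndvd
    exact ((hcomm_of m hmq y hy (hcent y hy)).eq).symm
  -- the quotient `X / C_X(g)`
  have hN₀norm : ∀ x ∈ X, ∀ c ∈ N₀, x * c * x⁻¹ ∈ N₀ := by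
    intro x hx c hc
    have h1 := hF1 x hx c (hN₀X hc)
    have e : x * c * x⁻¹ = (x * c * x⁻¹ * c⁻¹) * c := by group
    rw [e]
    exact mul_mem h1 hc
  haveI hMn : (N₀.subgroupOf X).Normal := by
    refine ⟨fun n hn x => ?_⟩
    rw [Subgroup.mem_subgroupOf] at hn ⊢
    exact hN₀norm x x.2 n hn
  have hmemM : ∀ x : ↥X, (QuotientGroup.mk x : ↥X ⧸ N₀.subgroupOf X) = 1 ↔ (x : G) ∈ N₀ :=
    fun x => by rw [QuotientGroup.eq_one_iff, Subgroup.mem_subgroupOf]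
  obtain ⟨cg, hcg⟩ : ∃ cg : ↥X →* ↥X, ∀ x : ↥X, (cg x : G) = g * x * g⁻¹ :=
    ⟨Helper3.conjN X ⟨g, hgN⟩, fun x => rfl⟩
  have hcgM : N₀.subgroupOf X ≤ (N₀.subgroupOf X).comap cg := by
    intro y hy
    rw [Subgroup.mem_comap, Subgroup.mem_subgroupOf, hcg]
    rw [Subgroup.mem_subgroupOf] at hy
    have h1 := ((hN₀mem _).1 hy).2
    have e : g * (y : G) * g⁻¹ = y := by rw [h1]; group
    rw [e]; exact hy
  obtain ⟨f, hf⟩ : ∃ f : Function.End (↥X ⧸ N₀.subgroupOf X), ∀ x : ↥X,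
      f (QuotientGroup.mk x) = QuotientGroup.mk (cg x) :=
    ⟨fun v => QuotientGroup.map _ _ cg hcgM v, fun x => rfl⟩
  have hiter : ∀ m : ℕ, ∀ x : ↥X, ∃ y : ↥X, (y : G) = g ^ m * x * (g ^ m)⁻¹ ∧
      (f ^ m) (QuotientGroup.mk x) = QuotientGroup.mk y := by
    intro m
    induction m with
    | zero => intro x; exact ⟨x, by simp, rfl⟩
    | succ m ih =>
      intro x
      obtain ⟨y, hy, hfy⟩ := ih x
      refine ⟨cg y, ?_, ?_⟩
      · rw [hcg, hy, pow_succ']; group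
      · rw [pow_succ']
        show f ((f ^ m) (QuotientGroup.mk x)) = _
        rw [hfy, hf]
  have hfq : f ^ q ^ 1 = 1 := by
    rw [pow_one]
    funext v
    obtain ⟨x, rfl⟩ := QuotientGroup.mk_surjective v
    obtain ⟨y, hy, hfy⟩ := hiter q x
    rw [hfy]
    show QuotientGroup.mk y = QuotientGroup.mk x
    congr 1
    apply Subtype.ext
    rw [hy]
    have hc := Subgroup.mem_centralizer_iff.1 hgq x x.2
    rw [← hc]; group
  have hq1 : ¬ (q : ℤ) ∣ 1 := by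
    intro h
    have h' : (q : ℤ) ∣ ((1 : ℕ) : ℤ) := by simpa using h
    rw [Int.natCast_dvd_natCast] at h'
    exact hq.one_lt.ne' (Nat.dvd_one.1 h')
  have hfix : Function.fixedPoints f = {1} := by
    ext v
    rw [Set.mem_singleton_iff]
    constructor
    · intro hv
      obtain ⟨x, rfl⟩ := QuotientGroup.mk_surjective v
      have hv' : f (QuotientGroup.mk x) = QuotientGroup.mk x := hv
      rw [hf] at hv'
      have h1 : (QuotientGroup.mk (cg x * x⁻¹) : ↥X ⧸ N₀.subgroupOf X) = 1 := by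
        rw [QuotientGroup.mk_mul, QuotientGroup.mk_inv, hv', mul_inv_cancel]
      rw [hmemM] at h1
      rw [hmemM]
      apply hD 1 hq1 x x.2
      rw [zpow_one]
      have e : ((cg x * x⁻¹ : ↥X) : G) = g * x * g⁻¹ * (x : G)⁻¹ := by
        rw [Subgroup.coe_mul, hcg, Subgroup.coe_inv]
      rw [← e]; exact h1
    · rintro rfl
      have h := hf 1
      rw [map_one, QuotientGroup.mk_one] at h
      exact h
  have hcard1 : Nat.card (↥X ⧸ N₀.subgroupOf X) ≡ 1 [MOD q] := by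
    classical
    haveI : Fintype (↥X ⧸ N₀.subgroupOf X) := Fintype.ofFinite _
    have hmod := Equiv.Perm.card_fixedPoints_modEq (p := q) (n := 1) (f := f) hfq
    rw [Fintype.card_eq_nat_card, Fintype.card_eq_nat_card] at hmod
    have e2 : Nat.card (Function.fixedPoints f) = 1 := by
      rw [hfix]
      simp
    have hmod' : Nat.card (↥X ⧸ N₀.subgroupOf X) ≡ Nat.card (Function.fixedPoints f) [MOD q] :=
      hmod
    rw [e2] at hmod'
    exact hmod'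
  have hQp : IsPGroup p (↥X ⧸ N₀.subgroupOf X) := hXp.to_quotient _
  obtain ⟨n, hn⟩ := hQp.exists_card_eq
  have hgenX : ∃ α β : ↥X, ∀ x : ↥X, ∃ i j : ℤ, x = α ^ i * β ^ j := by
    obtain ⟨a', ha', b', hb', hgen⟩ := two_gen_of_metacyclic hS (X.subgroupOf S)
    refine ⟨⟨a', ha'⟩, ⟨b', hb'⟩, fun x => ?_⟩
    obtain ⟨i, j, hij⟩ := hgen ⟨x, hXS x.2⟩ (by rw [Subgroup.mem_subgroupOf]; exact x.2)
    refine ⟨i, j, Subtype.ext ?_⟩
    have h1 := congrArg (fun z : ↥(S : Subgroup G) => (z : G)) hij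
    simp only [Subgroup.coe_mul, Subgroup.coe_zpow] at h1
    rw [Subgroup.coe_mul, Subgroup.coe_zpow, Subgroup.coe_zpow]
    exact h1
  obtain ⟨α, β, hαβ⟩ := hgenX
  have hpowp : ∀ x : ↥X, (QuotientGroup.mk x : ↥X ⧸ N₀.subgroupOf X) ^ p = 1 := by
    intro x
    rw [← QuotientGroup.mk_pow, hmemM, Subgroup.coe_pow]
    exact hF2 x x.2
  have hle : Nat.card (↥X ⧸ N₀.subgroupOf X) ≤ p * p := by
    have hsurj : Function.Surjective (fun ij : Fin p × Fin p =>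
        (QuotientGroup.mk α : ↥X ⧸ N₀.subgroupOf X) ^ (ij.1 : ℕ) *
          (QuotientGroup.mk β : ↥X ⧸ N₀.subgroupOf X) ^ (ij.2 : ℕ)) := by
      intro v
      obtain ⟨x, rfl⟩ := QuotientGroup.mk_surjective v
      obtain ⟨i, j, hij⟩ := hαβ x
      have hppos : (0 : ℤ) < p := by exact_mod_cast hp.pos
      have hi0 : 0 ≤ i % (p : ℤ) := Int.emod_nonneg i hppos.ne'
      have hi1 : i % (p : ℤ) < p := Int.emod_lt_of_pos i hppos
      have hj0 : 0 ≤ j % (p : ℤ) := Int.emod_nonneg j hppos.ne'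
      have hj1 : j % (p : ℤ) < p := Int.emod_lt_of_pos j hppos
      refine ⟨(⟨(i % (p : ℤ)).toNat, by omega⟩, ⟨(j % (p : ℤ)).toNat, by omega⟩), ?_⟩
      show (QuotientGroup.mk α : ↥X ⧸ N₀.subgroupOf X) ^ (i % (p : ℤ)).toNat *
          (QuotientGroup.mk β : ↥X ⧸ N₀.subgroupOf X) ^ (j % (p : ℤ)).toNat = QuotientGroup.mk x
      rw [hij, QuotientGroup.mk_mul, QuotientGroup.mk_zpow, QuotientGroup.mk_zpow,
        zpow_eq_zpow_emod' i (hpowp α), zpow_eq_zpow_emod' j (hpowp β)]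
      rw [← zpow_natCast, ← zpow_natCast, Int.toNat_of_nonneg hi0, Int.toNat_of_nonneg hj0]
    have h1 := Nat.card_le_card_of_surjective _ hsurj
    rw [Nat.card_prod, Nat.card_fin] at h1
    exact h1
  have hne1 : Nat.card (↥X ⧸ N₀.subgroupOf X) ≠ 1 := by
    intro h1
    apply hN₀ne
    apply le_antisymm hN₀X
    intro x hx
    haveI : Subsingleton (↥X ⧸ N₀.subgroupOf X) := (Nat.card_eq_one_iff_unique.1 h1).1
    exact (hmemM ⟨x, hx⟩).1 (Subsingleton.elim _ _)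
  have hn2 : n ≤ 2 := by
    rw [hn, ← sq] at hle
    exact (Nat.pow_le_pow_iff_right hp.one_lt).1 hle
  have hn0 : n ≠ 0 := by
    rintro rfl
    exact hne1 (by rw [hn, pow_zero])
  have hqdvd : q ∣ p ^ 2 - 1 := by
    have h1 : q ∣ p ^ n - 1 := by
      rw [← hn]
      exact (Nat.modEq_iff_dvd' Nat.card_pos).1 hcard1.symm
    have hn' : n = 1 ∨ n = 2 := by omega
    rcases hn' with rfl | rfl
    · have e : p ^ 2 - 1 = (p + 1) * (p - 1) := by
        have h := Nat.sq_sub_sq p 1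
        simpa using h
      rw [e]
      rw [pow_one] at h1
      exact Dvd.dvd.mul_left h1 _
    · exact h1
  exact hq.one_lt.ne' (Nat.eq_one_of_dvd_coprimes hcop hqidx hqdvd)

/-- the main criterion. -/
theorem npc_iff_of_metacyclic [Finite G] (p : ℕ) [Fact p.Prime] (S : Sylow p G)
    (hS : Cfsg.IsMetacyclic ↥(S : Subgroup G)) :
    Cfsg.HasNormalPComplement p G ↔
      Nat.Coprime (Nat.card (G ⧸ Cfsg.pPrimePCore p G)) (p ^ 2 - 1) := by
  constructor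
  · intro h
    obtain ⟨K, hKn, hKc, hKpow⟩ := Helper6.exists_isNPC_of_hasNormalPComplement h
    haveI := hKn
    have hK := Helper3.le_pPrimeCore K hKc
    have htop : Cfsg.pPrimePCore p G = ⊤ := by
      rw [eq_top_iff]
      intro x _
      rw [Helper3.mem_pPrimePCore_iff]
      have hT : IsPGroup p ↥(⊤ : Subgroup (G ⧸ Cfsg.pPrimeCore p G)) := by
        rintro ⟨v, hv⟩
        obtain ⟨y, rfl⟩ := QuotientGroup.mk_surjective v
        obtain ⟨k, hk⟩ := hKpow y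
        refine ⟨k, Subtype.ext ?_⟩
        show (QuotientGroup.mk y : G ⧸ Cfsg.pPrimeCore p G) ^ p ^ k = 1
        rw [← QuotientGroup.mk_pow, QuotientGroup.eq_one_iff]
        exact hK hk
      exact Helper5.le_pCore ⊤ inferInstance hT (Subgroup.mem_top _)
    rw [← Subgroup.index_eq_card, htop, Subgroup.index_top]
    exact Nat.coprime_one_left _
  · intro h
    exact Helper6.hasNormalPComplement_of_frobCond (frobCond_of_metacyclic p S hS h)

end Cfsg.Agent.Helper3.Metacyc
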