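import Mathlib
import Cfsg.Prelude
import Cfsg.Agent.Helper3.FC15
import Cfsg.Agent.Helper5.StrEmb
import Cfsg.Agent.Helper6.FrobNPC

set_option autoImplicit false

/-!
# `H` Sylow in the preimage of `O_p(N(H)/C(H))` iff `C_P(H) ≤ H` and `O_{p',p}(N(H)) = H C(H)`
-/

namespace Cfsg.Agent.Helper3.OppHC

open scoped Pointwise

universe u

variable {L : Type u} [Group L]

theorem le_comap_pCore_of_pow (p : ℕ) [Fact p.Prime] (C X : Subgroup L) [C.Normal]
    [hXn : X.Normal] (h : ∀ x ∈ X, ∃ k : ℕ, x ^ (p ^ k) ∈ C) :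
    X ≤ (Cfsg.pCore p (L ⧸ C)).comap (QuotientGroup.mk' C) := by
  have hXp : IsPGroup p (X.map (QuotientGroup.mk' C)) := by
    rintro ⟨_, ⟨x, hx, rfl⟩⟩
    obtain ⟨k, hk⟩ := h x hx
    refine ⟨k, Subtype.ext ?_⟩
    show (QuotientGroup.mk' C x) ^ p ^ k = 1
    rw [← map_pow]
    exact (QuotientGroup.eq_one_iff _).2 hk
  have hXn' : (X.map (QuotientGroup.mk' C)).Normal :=
    Subgroup.Normal.map hXn _ (QuotientGroup.mk'_surjective _)
  have hle := Helper5.le_pCore _ hXn' hXp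
  intro x hx
  exact Subgroup.mem_comap.2 (hle ⟨x, hx, rfl⟩)

theorem pow_mem_of_mem_comap_pCore [Finite L] (p : ℕ) [Fact p.Prime] (C : Subgroup L)
    [C.Normal] (x : L) (hx : x ∈ (Cfsg.pCore p (L ⧸ C)).comap (QuotientGroup.mk' C)) :
    ∃ k : ℕ, x ^ (p ^ k) ∈ C := by
  have hp := Helper3.pCore_isPGroup p (L ⧸ C)
  obtain ⟨k, hk⟩ := hp ⟨_, Subgroup.mem_comap.1 hx⟩
  refine ⟨k, ?_⟩
  have h1 : (QuotientGroup.mk' C x) ^ p ^ k = 1 := congrArg Subtype.val hk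
  rw [← map_pow] at h1
  exact (QuotientGroup.eq_one_iff _).1 h1

theorem not_dvd_relIndex_sylow_inf [Finite L] (p : ℕ) [Fact p.Prime] (T : Sylow p L)
    (X : Subgroup L) [X.Normal] : ¬ p ∣ ((T : Subgroup L) ⊓ X).relIndex X := by
  obtain ⟨T', hT'⟩ := Helper5.exists_sylow_map_eq_inf T X
  have h1 : ((T : Subgroup L) ⊓ X).subgroupOf X = (T' : Subgroup ↥X) := by
    rw [← hT']
    exact Subgroup.comap_map_eq_self_of_injective X.subtype_injective _
  show ¬ p ∣ (((T : Subgroup L) ⊓ X).subgroupOf X).index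
  rw [h1]
  exact T'.not_dvd_index

theorem inf_le_of_not_dvd_relIndex [Finite L] (p : ℕ) [Fact p.Prime] (T H N : Subgroup L)
    (hT : IsPGroup p T) (hHT : H ≤ T) (hHN : H ≤ N) (h : ¬ p ∣ H.relIndex N) : T ⊓ N ≤ H := by
  have h1 := Subgroup.relIndex_mul_relIndex H (T ⊓ N) N (le_inf hHT hHN) inf_le_right
  have h2 : ¬ p ∣ H.relIndex (T ⊓ N) := fun hd => h (h1 ▸ Dvd.dvd.mul_right hd _)
  have h3 : H.relIndex (T ⊓ N) ∣ Nat.card ↥(T ⊓ N) := Subgroup.relIndex_dvd_card H (T ⊓ N)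
  have hU : IsPGroup p ↥(T ⊓ N) := hT.to_le inf_le_left
  obtain ⟨n, hn⟩ := IsPGroup.iff_card.1 hU
  rw [hn] at h3
  obtain ⟨i, -, hi⟩ := (Nat.dvd_prime_pow Fact.out).1 h3
  have hi0 : i = 0 := by
    by_contra hne
    exact h2 (hi ▸ dvd_pow_self p hne)
  rw [hi0, pow_zero] at hi
  exact Subgroup.relIndex_eq_one.1 hi

theorem pPrimeCore_commute [Finite L] (p : ℕ) [Fact p.Prime] (H : Subgroup L) [hHn : H.Normal]
    (hH : IsPGroup p H) (k : L) (hk : k ∈ Cfsg.pPrimeCore p L) (h : L) (hh : h ∈ H) :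
    h * k = k * h := by
  haveI hKn := Helper4.pPrimeCore_normal p L
  have hc1 : k * h * k⁻¹ * h⁻¹ ∈ Cfsg.pPrimeCore p L := by
    have h1 := hKn.conj_mem k⁻¹ (inv_mem hk) h
    have e : k * h * k⁻¹ * h⁻¹ = k * (h * k⁻¹ * h⁻¹) := by group
    rw [e]; exact mul_mem hk h1
  have hc2 : k * h * k⁻¹ * h⁻¹ ∈ H := H.mul_mem (hHn.conj_mem h hh k) (H.inv_mem hh)
  obtain ⟨j, hj⟩ := hH ⟨_, hc2⟩
  have hj' : (k * h * k⁻¹ * h⁻¹) ^ p ^ j = 1 := congrArg Subtype.val hj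
  have hord : (orderOf (k * h * k⁻¹ * h⁻¹)).Coprime p := by
    have h1 : orderOf (k * h * k⁻¹ * h⁻¹) ∣ Nat.card (Cfsg.pPrimeCore p L) := by
      have := orderOf_dvd_natCard (⟨_, hc1⟩ : ↥(Cfsg.pPrimeCore p L))
      rwa [Subgroup.orderOf_mk] at this
    exact Nat.Coprime.coprime_dvd_left h1 (Helper3.pPrimeCore_coprime p _)
  have h1 := Helper6.eq_one_of_pow_of_coprime hj' hord
  calc h * k = (k * h * k⁻¹ * h⁻¹)⁻¹ * (k * h) := by group
    _ = k * h := by rw [h1, inv_one, one_mul]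

theorem main [Finite L] (p : ℕ) [Fact p.Prime] (T : Sylow p L) (H C : Subgroup L)
    [hHn : H.Normal] [hCn : C.Normal]
    (hHp : IsPGroup p H) (hHT : H ≤ (T : Subgroup L))
    (hC : C = Subgroup.centralizer (H : Set L)) :
    (H ≤ (Cfsg.pCore p (L ⧸ C)).comap (QuotientGroup.mk' C) ∧
      ¬ p ∣ H.relIndex ((Cfsg.pCore p (L ⧸ C)).comap (QuotientGroup.mk' C))) ↔
    ((T : Subgroup L) ⊓ C ≤ H ∧ Cfsg.pPrimePCore p L = H ⊔ C) := by
  obtain ⟨Nt, hNt⟩ : ∃ Nt, Nt = (Cfsg.pCore p (L ⧸ C)).comap (QuotientGroup.mk' C) :=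
    ⟨_, rfl⟩
  rw [← hNt]
  haveI hNtn : Nt.Normal := by
    rw [hNt]; exact Subgroup.Normal.comap (Helper5.pCore_normal p _) _
  haveI hKn : (Cfsg.pPrimeCore p L).Normal := Helper4.pPrimeCore_normal p L
  have hCNt : C ≤ Nt := by
    intro c hc
    rw [hNt, Subgroup.mem_comap]
    have h1 : QuotientGroup.mk' C c = 1 := (QuotientGroup.eq_one_iff _).2 hc
    rw [h1]; exact Subgroup.one_mem _
  have hHNt : H ≤ Nt := by
    rw [hNt]
    apply le_comap_pCore_of_pow p C H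
    intro x hx
    obtain ⟨k, hk⟩ := hHp ⟨x, hx⟩
    refine ⟨k, ?_⟩
    have h1 : x ^ p ^ k = 1 := congrArg Subtype.val hk
    rw [h1]; exact C.one_mem
  have hM : Cfsg.pPrimePCore p L = (Cfsg.pCore p (L ⧸ Cfsg.pPrimeCore p L)).comap
      (QuotientGroup.mk' (Cfsg.pPrimeCore p L)) := rfl
  have hKC : Cfsg.pPrimeCore p L ≤ C := by
    intro k hk
    rw [hC, Subgroup.mem_centralizer_iff]
    intro h hh
    exact pPrimeCore_commute p H hHp k hk h hh
  have hkey : (T : Subgroup L) ⊓ Nt ≤ H → Nt ≤ H ⊔ C := by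
    intro hTN x hx
    have hsurj : Function.Surjective (QuotientGroup.mk' C) := QuotientGroup.mk'_surjective C
    have h1 : QuotientGroup.mk' C x ∈ Cfsg.pCore p (L ⧸ C) := by
      rw [hNt] at hx; exact Subgroup.mem_comap.1 hx
    have h2 := Helper5.pCore_le_sylow (T.mapSurjective hsurj) h1
    have h2' : QuotientGroup.mk' C x ∈ (T : Subgroup L).map (QuotientGroup.mk' C) := h2
    obtain ⟨t, ht, hte⟩ := Subgroup.mem_map.1 h2'
    have h3 : t⁻¹ * x ∈ C := by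
      have h4 : QuotientGroup.mk' C (t⁻¹ * x) = 1 := by
        rw [map_mul, map_inv, hte, inv_mul_cancel]
      exact (QuotientGroup.eq_one_iff _).1 h4
    have h4 : t ∈ Nt := by
      have e : t = x * (t⁻¹ * x)⁻¹ := by group
      rw [e]; exact Nt.mul_mem hx (Nt.inv_mem (hCNt h3))
    have h5 : t ∈ H := hTN (Subgroup.mem_inf.2 ⟨ht, h4⟩)
    have e : x = t * (t⁻¹ * x) := by group
    rw [e]
    exact Subgroup.mul_mem _ (Subgroup.mem_sup_left h5) (Subgroup.mem_sup_right h3)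
  constructor
  · rintro ⟨-, hidx⟩
    have hTN : (T : Subgroup L) ⊓ Nt ≤ H :=
      inf_le_of_not_dvd_relIndex p T H Nt T.isPGroup' hHT hHNt hidx
    have ha : (T : Subgroup L) ⊓ C ≤ H := (inf_le_inf_left _ hCNt).trans hTN
    refine ⟨ha, le_antisymm ?_ ?_⟩
    · refine le_trans ?_ (hkey hTN)
      rw [hNt]
      apply le_comap_pCore_of_pow p C (Cfsg.pPrimePCore p L)
      intro m hm
      rw [hM] at hm
      obtain ⟨j, hj⟩ := pow_mem_of_mem_comap_pCore p (Cfsg.pPrimeCore p L) m hm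
      exact ⟨j, hKC hj⟩
    · refine sup_le ?_ ?_
      · exact (Helper5.le_pCore H hHn hHp).trans (ZJ.pCore_le_pPrimePCore p L)
      · rw [hC]
        exact FC.centralizer_le_pPrimePCore T H hHp (by rw [← hC]; exact ha)
  · rintro ⟨ha, hMeq⟩
    have hNM : Nt ≤ Cfsg.pPrimePCore p L := by
      rw [hM]
      apply le_comap_pCore_of_pow p (Cfsg.pPrimeCore p L) Nt
      intro x hx
      obtain ⟨k, hk⟩ := pow_mem_of_mem_comap_pCore p C x (by rw [hNt] at hx; exact hx)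
      have hk' : x ^ p ^ k ∈ Cfsg.pPrimePCore p L := by
        rw [hMeq]; exact Subgroup.mem_sup_right hk
      rw [hM] at hk'
      obtain ⟨j, hj⟩ := pow_mem_of_mem_comap_pCore p (Cfsg.pPrimeCore p L) _ hk'
      refine ⟨k + j, ?_⟩
      rw [pow_add, pow_mul]; exact hj
    have hTN : (T : Subgroup L) ⊓ Nt ≤ H := by
      intro x hx
      obtain ⟨hxT, hxN⟩ := Subgroup.mem_inf.1 hx
      have h1 : x ∈ H ⊔ C := by rw [← hMeq]; exact hNM hxN
      have h2 : x ∈ ((H : Set L) * (C : Set L)) := by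
        rw [← Subgroup.mul_normal]; exact h1
      obtain ⟨h, hh, c, hc, rfl⟩ := Set.mem_mul.1 h2
      have h3 : c ∈ (T : Subgroup L) ⊓ C := by
        refine Subgroup.mem_inf.2 ⟨?_, hc⟩
        have e : c = h⁻¹ * (h * c) := by group
        rw [e]; exact Subgroup.mul_mem _ (Subgroup.inv_mem _ (hHT hh)) hxT
      exact H.mul_mem hh (ha h3)
    refine ⟨hHNt, ?_⟩
    have hHeq : H = (T : Subgroup L) ⊓ Nt := le_antisymm (le_inf hHT hHNt) hTN
    rw [hHeq]
    exact not_dvd_relIndex_sylow_inf p T Nt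

theorem transfer {G : Type*} [Group G] (N X : Subgroup G) (hX : X ≤ N) (Y : Subgroup ↥N) :
    (X ≤ Y.map N.subtype ↔ X.subgroupOf N ≤ Y) ∧
      X.relIndex (Y.map N.subtype) = (X.subgroupOf N).relIndex Y := by
  have hX' := Subgroup.map_subgroupOf_eq_of_le hX
  constructor
  · conv_lhs => rw [← hX']
    exact Subgroup.map_le_map_iff_of_injective N.subtype_injective
  · conv_lhs => rw [← hX']
    exact Subgroup.relIndex_map_map_of_injective _ _ N.subtype_injective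

theorem core {G : Type u} [Group G] [Finite G] {p : ℕ} [Fact p.Prime] (P : Sylow p G)
    (H N_ C : Subgroup G) (hHP : H ≤ (P : Subgroup G))
    (hHN : H ≤ N_) (hCN : C ≤ N_) (hHnn : (H.subgroupOf N_).Normal)
    (hCe : C = Subgroup.centralizer (H : Set G))
    (hSyl : ¬ p ∣ ((P : Subgroup G) ⊓ N_).relIndex N_) [hC : (C.subgroupOf N_).Normal] :
    (H ≤ ((Cfsg.pCore p (↥N_ ⧸ C.subgroupOf N_)).comap (QuotientGroup.mk' _)).map N_.subtype ∧
      ¬ p ∣ H.relIndex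
        (((Cfsg.pCore p (↥N_ ⧸ C.subgroupOf N_)).comap (QuotientGroup.mk' _)).map N_.subtype)) ↔
    ((P : Subgroup G) ⊓ C ≤ H ∧ (Cfsg.pPrimePCore p ↥N_).map N_.subtype = H ⊔ C) := by
  haveI := hHnn
  have hHp : IsPGroup p H := P.isPGroup'.to_le hHP
  have hHnp : IsPGroup p (H.subgroupOf N_) := hHp.comap_subtype
  have hTp : IsPGroup p (((P : Subgroup G) ⊓ N_).subgroupOf N_) :=
    (P.isPGroup'.to_le inf_le_left).comap_subtype
  obtain ⟨T, hT⟩ : ∃ T : Sylow p ↥N_,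
      (T : Subgroup ↥N_) = ((P : Subgroup G) ⊓ N_).subgroupOf N_ := ⟨hTp.toSylow hSyl, rfl⟩
  have hHT : H.subgroupOf N_ ≤ (T : Subgroup ↥N_) := by
    rw [hT]
    intro x hx
    rw [Subgroup.mem_subgroupOf] at hx ⊢
    exact Subgroup.mem_inf.2 ⟨hHP hx, x.2⟩
  have hCn : C.subgroupOf N_ =
      Subgroup.centralizer ((H.subgroupOf N_ : Subgroup ↥N_) : Set ↥N_) := by
    ext x
    rw [Subgroup.mem_subgroupOf, hCe, Subgroup.mem_centralizer_iff,
      Subgroup.mem_centralizer_iff]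
    constructor
    · intro h y hy
      apply Subtype.ext
      simp only [Subgroup.coe_mul]
      exact h y.1 (Subgroup.mem_subgroupOf.1 hy)
    · intro h g hg
      have h1 := h ⟨g, hHN hg⟩ (Subgroup.mem_subgroupOf.2 hg)
      have h2 := congrArg Subtype.val h1
      simpa using h2
  have key := main p T (H.subgroupOf N_) (C.subgroupOf N_) hHnp hHT hCn
  obtain ⟨t1, t2⟩ := transfer N_ H hHN
    ((Cfsg.pCore p (↥N_ ⧸ C.subgroupOf N_)).comap (QuotientGroup.mk' _))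
  rw [t1, t2, key]
  constructor
  · rintro ⟨h1, h2⟩
    refine ⟨?_, ?_⟩
    · intro g hg
      obtain ⟨hgP, hgC⟩ := Subgroup.mem_inf.1 hg
      have h3 : (⟨g, hCN hgC⟩ : ↥N_) ∈ (T : Subgroup ↥N_) ⊓ C.subgroupOf N_ := by
        rw [hT]
        exact Subgroup.mem_inf.2
          ⟨Subgroup.mem_subgroupOf.2 (Subgroup.mem_inf.2 ⟨hgP, hCN hgC⟩),
            Subgroup.mem_subgroupOf.2 hgC⟩
      exact Subgroup.mem_subgroupOf.1 (h1 h3)
    · rw [h2, Subgroup.map_sup, Subgroup.map_subgroupOf_eq_of_le hHN,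
        Subgroup.map_subgroupOf_eq_of_le hCN]
  · rintro ⟨h1, h2⟩
    refine ⟨?_, ?_⟩
    · intro x hx
      obtain ⟨hxT, hxC⟩ := Subgroup.mem_inf.1 hx
      rw [hT] at hxT
      rw [Subgroup.mem_subgroupOf] at hxT hxC ⊢
      exact h1 (Subgroup.mem_inf.2 ⟨(Subgroup.mem_inf.1 hxT).1, hxC⟩)
    · apply Subgroup.map_injective N_.subtype_injective
      rw [h2, Subgroup.map_sup, Subgroup.map_subgroupOf_eq_of_le hHN,
        Subgroup.map_subgroupOf_eq_of_le hCN]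

end Cfsg.Agent.Helper3.OppHC
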