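import Mathlib
import Cfsg.Prelude
import Cfsg.Agent.Helper3.PN4

set_option autoImplicit false

namespace Cfsg.Agent.Helper3.PN

open scoped commutatorElement

universe u

variable {G : Type u} [Group G]

theorem two_mul_card_le [Finite G] {A B : Subgroup G} (h : A < B) :
    2 * Nat.card A ≤ Nat.card B := by
  obtain ⟨q, hq⟩ := Subgroup.card_dvd_of_le h.le
  have hlt := Helper6.card_lt_of_lt' h
  have hpos : 0 < Nat.card A := Nat.card_pos
  rw [hq] at hlt ⊢
  have hq2 : 2 ≤ q := by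
    by_contra hcon
    have : q ≤ 1 := by omega
    have : Nat.card ↥A * q ≤ Nat.card ↥A * 1 := Nat.mul_le_mul_left _ this
    omega
  calc 2 * Nat.card ↥A = Nat.card ↥A * 2 := Nat.mul_comm _ _
    _ ≤ Nat.card ↥A * q := Nat.mul_le_mul_left _ hq2

theorem three_mul_card_le [Finite G] {A B : Subgroup G} (hB : IsPGroup 3 B) (h : A < B) :
    3 * Nat.card A ≤ Nat.card B := by
  obtain ⟨q, hq⟩ := Subgroup.card_dvd_of_le h.le
  have hlt := Helper6.card_lt_of_lt' h
  have hpos : 0 < Nat.card A := Nat.card_pos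
  obtain ⟨i, hi⟩ := IsPGroup.iff_card.1 hB
  have hqd : q ∣ 3 ^ i := by rw [← hi, hq]; exact Dvd.intro_left _ rfl
  obtain ⟨l, -, hl⟩ := (Nat.dvd_prime_pow Nat.prime_three).1 hqd
  rw [hq] at hlt ⊢
  have hq3 : 3 ≤ q := by
    rcases Nat.eq_zero_or_pos l with h0 | h0
    · exfalso
      rw [hl, h0, pow_zero, mul_one] at hlt
      exact lt_irrefl _ hlt
    · rw [hl]
      calc 3 = 3 ^ 1 := (pow_one 3).symm
        _ ≤ 3 ^ l := Nat.pow_le_pow_right (by norm_num) h0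
  calc 3 * Nat.card ↥A = Nat.card ↥A * 3 := Nat.mul_comm _ _
    _ ≤ Nat.card ↥A * q := Nat.mul_le_mul_left _ hq3

/-- a Klein four-group `W` normalized by a `3`-element `t` acting fixed-point-freely and by
an element `a` normalizing `⟨t⟩` but not commuting with `t` modulo `C(W)`: then `S₄` is
involved. -/
theorem involves_S4_core [Finite G] (W : Subgroup G) (hW4 : Nat.card W = 4) (t a : G) (f : ℕ)
    (ht3 : t ^ 3 ^ f = 1)
    (htW : t ∈ Subgroup.normalizer (W : Set G)) (haW : a ∈ Subgroup.normalizer (W : Set G))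
    (haT : a ∈ Subgroup.normalizer ((Subgroup.zpowers t : Subgroup G) : Set G))
    (hfpf : ∀ w ∈ W, t * w * t⁻¹ = w → w = 1)
    (hnc : a * t * a⁻¹ * t⁻¹ ∉ Subgroup.centralizer (W : Set G)) :
    Cfsg.Involves (Equiv.Perm (Fin 4)) G := by
  classical
  haveI : Fact (Nat.Prime 3) := ⟨Nat.prime_three⟩
  obtain ⟨T, hT⟩ : ∃ T : Subgroup G, T = Subgroup.zpowers t := ⟨_, rfl⟩
  rw [← hT] at haT
  have htT : t ∈ T := by rw [hT]; exact Subgroup.mem_zpowers t
  have hTc : ∀ x ∈ T, ∀ y ∈ T, x * y = y * x := by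
    rw [hT]
    intro x hx y hy
    obtain ⟨i, rfl⟩ := Subgroup.mem_zpowers_iff.1 hx
    obtain ⟨j, rfl⟩ := Subgroup.mem_zpowers_iff.1 hy
    rw [← zpow_add, ← zpow_add, add_comm]
  have hT3 : IsPGroup 3 T := by
    have h1 : Nat.card T = orderOf t := by rw [hT]; exact Nat.card_zpowers t
    obtain ⟨i, -, hi⟩ := (Nat.dvd_prime_pow Nat.prime_three).1 (orderOf_dvd_of_pow_eq_one ht3)
    exact IsPGroup.of_card (by rw [h1, hi])
  have hTW : T ⊓ W = ⊥ :=
    ZJ.inf_eq_bot_of_pgroup_coprime hT3 (by rw [hW4]; decide)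
  have hTnW : T ≤ Subgroup.normalizer (W : Set G) := by rw [hT]; exact Subgroup.zpowers_le.2 htW
  obtain ⟨D₀, hD₀⟩ : ∃ D₀ : Subgroup G, D₀ = T ⊔ Subgroup.zpowers a := ⟨_, rfl⟩
  have hD₀nW : D₀ ≤ Subgroup.normalizer (W : Set G) := by
    rw [hD₀]; exact sup_le hTnW (Subgroup.zpowers_le.2 haW)
  have hD₀nT : D₀ ≤ Subgroup.normalizer (T : Set G) := by
    rw [hD₀]; exact sup_le Subgroup.le_normalizer (Subgroup.zpowers_le.2 haT)
  have hTD₀ : T ≤ D₀ := by rw [hD₀]; exact le_sup_left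
  have haD₀ : a ∈ D₀ := by rw [hD₀]; exact Subgroup.mem_sup_right (Subgroup.mem_zpowers a)
  have hD₀W : D₀ ⊓ W = ⊥ := by
    rw [eq_bot_iff]
    rintro w ⟨hwD, hwW⟩
    rw [Subgroup.mem_bot]
    have h1 : w * t * w⁻¹ * t⁻¹ ∈ T ⊓ W := by
      constructor
      · exact T.mul_mem ((Subgroup.mem_normalizer_iff.1 (hD₀nT hwD) t).1 htT) (T.inv_mem htT)
      · have e : w * t * w⁻¹ * t⁻¹ = w * (t * w⁻¹ * t⁻¹) := by group
        rw [e]
        exact W.mul_mem hwW ((Subgroup.mem_normalizer_iff.1 htW w⁻¹).1 (W.inv_mem hwW))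
    rw [hTW, Subgroup.mem_bot] at h1
    apply hfpf w hwW
    calc t * w * t⁻¹ = (w * t * w⁻¹ * t⁻¹)⁻¹ * w := by group
      _ = w := by rw [h1, inv_one, one_mul]
  obtain ⟨X₁, hX₁⟩ : ∃ X₁ : Subgroup G, X₁ = W ⊔ D₀ := ⟨_, rfl⟩
  have hWX₁ : W ≤ X₁ := by rw [hX₁]; exact le_sup_left
  have hD₀X₁ : D₀ ≤ X₁ := by rw [hX₁]; exact le_sup_right
  have hcardX : Nat.card X₁ = 4 * Nat.card D₀ := by
    have h1 := Helper3.GR.card_mul_card_of_le_normalizer W D₀ hD₀nW
    rw [inf_comm, hD₀W, Subgroup.card_bot, mul_one, hW4] at h1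
    rw [hX₁]; exact h1.symm
  obtain ⟨CW, hCW⟩ : ∃ CW : Subgroup G, CW = Subgroup.centralizer (W : Set G) := ⟨_, rfl⟩
  rw [← hCW] at hnc
  have hNC : ∀ g ∈ Subgroup.normalizer (W : Set G), ∀ x ∈ CW, g * x * g⁻¹ ∈ CW := by
    intro g hg x hx
    rw [hCW, Subgroup.mem_centralizer_iff] at hx ⊢
    intro w hw
    have h1 : g⁻¹ * w * g ∈ W := by
      rw [Subgroup.mem_normalizer_iff.1 hg (g⁻¹ * w * g)]
      have e : g * (g⁻¹ * w * g) * g⁻¹ = w := by group
      rw [e]; exact hw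
    have h2 := hx _ h1
    calc w * (g * x * g⁻¹) = g * ((g⁻¹ * w * g) * x) * g⁻¹ := by group
      _ = g * (x * (g⁻¹ * w * g)) * g⁻¹ := by rw [h2]
      _ = g * x * g⁻¹ * w := by group
  obtain ⟨C₀, hC₀⟩ : ∃ C₀ : Subgroup G, C₀ = D₀ ⊓ CW := ⟨_, rfl⟩
  have hC₀D₀ : C₀ ≤ D₀ := by rw [hC₀]; exact inf_le_left
  have hC₀nT : C₀ ≤ Subgroup.normalizer (T : Set G) := hC₀D₀.trans hD₀nT
  have hW1 : W ≠ ⊥ := by
    intro h0
    rw [h0, Subgroup.card_bot] at hW4
    omega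
  have htC : t ∉ CW := by
    intro htc
    apply hW1
    rw [eq_bot_iff]
    intro w hw
    rw [Subgroup.mem_bot]
    apply hfpf w hw
    rw [hCW] at htc
    have := Subgroup.mem_centralizer_iff.1 htc w hw
    rw [← this]; group
  -- |T ⊔ C₀| ≥ 3 |C₀|
  have h3 : 3 * Nat.card C₀ ≤ Nat.card ↥(T ⊔ C₀) := by
    have h1 := Helper3.GR.card_mul_card_of_le_normalizer T C₀ hC₀nT
    have hlt : T ⊓ C₀ < T := by
      refine lt_of_le_of_ne inf_le_left ?_
      intro heq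
      apply htC
      have : t ∈ T ⊓ C₀ := by rw [heq]; exact htT
      have h2 := this.2
      rw [hC₀] at h2
      exact h2.2
    have h2 := three_mul_card_le hT3 hlt
    have hpos : 0 < Nat.card ↥(T ⊓ C₀) := Nat.card_pos
    have h4 : 3 * Nat.card ↥(T ⊓ C₀) * Nat.card C₀ ≤ Nat.card ↥(T ⊔ C₀) * Nat.card ↥(T ⊓ C₀) := by
      rw [← h1]; exact Nat.mul_le_mul_right _ h2
    have h5 : Nat.card ↥(T ⊓ C₀) * (3 * Nat.card C₀) ≤ Nat.card ↥(T ⊓ C₀) * Nat.card ↥(T ⊔ C₀) := by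
      calc Nat.card ↥(T ⊓ C₀) * (3 * Nat.card C₀) = 3 * Nat.card ↥(T ⊓ C₀) * Nat.card C₀ := by ring
        _ ≤ Nat.card ↥(T ⊔ C₀) * Nat.card ↥(T ⊓ C₀) := h4
        _ = _ := Nat.mul_comm _ _
    exact Nat.le_of_mul_le_mul_left h5 hpos
  -- |D₀| ≥ 2 |T ⊔ C₀|
  have h2 : 2 * Nat.card ↥(T ⊔ C₀) ≤ Nat.card D₀ := by
    apply two_mul_card_le
    refine lt_of_le_of_ne (sup_le hTD₀ hC₀D₀) ?_
    intro heq
    have haTC : a ∈ T ⊔ C₀ := by rw [heq]; exact haD₀
    obtain ⟨s, hs, c, hc, rfl⟩ := Helper3.mem_sup_of_le_normalizer_right T C₀ hC₀nT haTC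
    apply hnc
    have hcC : c ∈ CW := by rw [hC₀] at hc; exact hc.2
    have hst : s * t = t * s := hTc s hs t htT
    have hst' : s⁻¹ * t⁻¹ = t⁻¹ * s⁻¹ := by rw [← mul_inv_rev, ← mul_inv_rev, hst]
    have e : s * c * t * (s * c)⁻¹ * t⁻¹ = s * (c * (t * c⁻¹ * t⁻¹)) * s⁻¹ := by
      calc s * c * t * (s * c)⁻¹ * t⁻¹ = s * c * t * c⁻¹ * (s⁻¹ * t⁻¹) := by group
        _ = s * c * t * c⁻¹ * (t⁻¹ * s⁻¹) := by rw [hst']
        _ = s * (c * (t * c⁻¹ * t⁻¹)) * s⁻¹ := by group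
    rw [e]
    exact hNC s (hTnW hs) _ (CW.mul_mem hcC (hNC t htW _ (CW.inv_mem hcC)))
  -- coset action
  obtain ⟨D', hD'⟩ : ∃ D' : Subgroup ↥X₁, D' = D₀.subgroupOf X₁ := ⟨_, rfl⟩
  have hcardD' : Nat.card D' = Nat.card D₀ := by
    rw [hD']; exact Nat.card_congr (Subgroup.subgroupOfEquivOfLe hD₀X₁).toEquiv
  have hidx : D'.index = 4 := by
    have h1 := Subgroup.card_mul_index D'
    rw [hcardD', hcardX] at h1
    have hpos : 0 < Nat.card D₀ := Nat.card_pos
    have : Nat.card ↥D₀ * D'.index = Nat.card ↥D₀ * 4 := by rw [h1]; ring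
    exact Nat.eq_of_mul_eq_mul_left hpos this
  have hcard4 : Nat.card (↥X₁ ⧸ D') = 4 := by rw [← Subgroup.index_eq_card]; exact hidx
  obtain ⟨φ, hφ⟩ : ∃ φ : ↥X₁ →* Equiv.Perm (↥X₁ ⧸ D'),
      φ = MulAction.toPermHom ↥X₁ (↥X₁ ⧸ D') := ⟨_, rfl⟩
  have hker : φ.ker ≤ D' := by
    rw [hφ, ← Subgroup.normalCore_eq_ker]; exact Subgroup.normalCore_le D'
  have hkerC : (φ.ker).map X₁.subtype ≤ C₀ := by
    rintro _ ⟨n, hn, rfl⟩
    have hnD : (n : G) ∈ D₀ := by
      have := hker hn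
      rw [hD', Subgroup.mem_subgroupOf] at this
      exact this
    rw [hC₀]
    refine ⟨hnD, ?_⟩
    change (n : G) ∈ CW
    rw [hCW, Subgroup.mem_centralizer_iff]
    intro w hw
    have h1 : n * (⟨w, hWX₁ hw⟩ : ↥X₁) * n⁻¹ * (⟨w, hWX₁ hw⟩ : ↥X₁)⁻¹ ∈ φ.ker := by
      have e : n * (⟨w, hWX₁ hw⟩ : ↥X₁) * n⁻¹ * (⟨w, hWX₁ hw⟩ : ↥X₁)⁻¹ =
          n * ((⟨w, hWX₁ hw⟩ : ↥X₁) * n⁻¹ * (⟨w, hWX₁ hw⟩ : ↥X₁)⁻¹) := by group
      rw [e]
      exact φ.ker.mul_mem hn ((MonoidHom.normal_ker φ).conj_mem _ (φ.ker.inv_mem hn) _)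
    have h2 : ((n : G) * w * (n : G)⁻¹ * w⁻¹) ∈ D₀ := by
      have := hker h1
      rw [hD', Subgroup.mem_subgroupOf] at this
      exact this
    have h3 : ((n : G) * w * (n : G)⁻¹ * w⁻¹) ∈ W :=
      W.mul_mem ((Subgroup.mem_normalizer_iff.1 (hD₀nW hnD) w).1 hw) (W.inv_mem hw)
    have h4 : ((n : G) * w * (n : G)⁻¹ * w⁻¹) ∈ D₀ ⊓ W := ⟨h2, h3⟩
    rw [hD₀W, Subgroup.mem_bot] at h4
    calc w * (n : G) = ((n : G) * w * (n : G)⁻¹ * w⁻¹)⁻¹ * ((n : G) * w) := by group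
      _ = (n : G) * w := by rw [h4, inv_one, one_mul]
  have hkercard : Nat.card φ.ker ≤ Nat.card C₀ := by
    rw [← Subgroup.card_map_of_injective X₁.subtype_injective]
    exact Subgroup.card_le_of_le hkerC
  have hrange : Nat.card φ.range * Nat.card φ.ker = Nat.card X₁ := by
    rw [← Subgroup.index_ker, mul_comm]; exact Subgroup.card_mul_index φ.ker
  have hperm : Nat.card (Equiv.Perm (↥X₁ ⧸ D')) = 24 := by
    rw [Nat.card_perm, hcard4]; rfl
  have hsurj : Function.Surjective φ := by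
    rw [← MonoidHom.range_eq_top]
    apply Subgroup.eq_top_of_le_card
    rw [hperm]
    have hpos : 0 < Nat.card φ.ker := Nat.card_pos
    have h5 : 24 * Nat.card φ.ker ≤ Nat.card φ.range * Nat.card φ.ker := by
      rw [hrange, hcardX]
      calc 24 * Nat.card φ.ker ≤ 24 * Nat.card C₀ := Nat.mul_le_mul_left _ hkercard
        _ = 4 * (2 * (3 * Nat.card C₀)) := by ring
        _ ≤ 4 * (2 * Nat.card ↥(T ⊔ C₀)) := Nat.mul_le_mul_left _ (Nat.mul_le_mul_left _ h3)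
        _ ≤ 4 * Nat.card D₀ := Nat.mul_le_mul_left _ h2
    exact Nat.le_of_mul_le_mul_right h5 hpos
  obtain ⟨e⟩ : Nonempty ((↥X₁ ⧸ D') ≃ Fin 4) := ⟨Finite.equivFinOfCardEq hcard4⟩
  refine Helper9.involves_of_span X₁.subtype ((Equiv.permCongrHom e).toMonoidHom.comp φ)
    X₁.subtype_injective ?_
  rw [MonoidHom.coe_comp]
  exact (Equiv.permCongrHom e).surjective.comp hsurj

/-- the common set-up of the endgame of Thompson's normal `p`-complement theorem: the module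
`V = Ω₁(Z(O_p(G)))`, a quadratically acting offender `As` not contained in `O_p(G)`, and the
faithfulness of the action of `P / O_p(G)` on `K / O_p(G)`. -/
theorem thomp_setup {p : ℕ} [Fact p.Prime] (n : ℕ) (hn : n = 0 ∨ n = p)
    (G : Type u) [Group G] [Finite G] (P : Sylow p G)
    (hΦ : ThompHyp p n G P) (hS : EndStruct p P)
    (K : Subgroup G) (hKn : K.Normal) (m : ℕ) (hm : m.Coprime p)
    (hKm : ∀ k ∈ K, k ^ m ∈ Cfsg.pCore p G) (hKP : K ⊔ (P : Subgroup G) = ⊤)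
    (hKiP : K ⊓ (P : Subgroup G) = Cfsg.pCore p G) :
    ∃ V As : Subgroup G, V.Normal ∧ (∀ x ∈ V, ∀ y ∈ V, x * y = y * x) ∧ (∀ x ∈ V, x ^ p = 1) ∧
      Subgroup.centralizer (V : Set G) = Cfsg.pCore p G ∧
      As ≤ (P : Subgroup G) ∧ (∀ x ∈ As, ∀ y ∈ As, x * y = y * x) ∧ ¬ As ≤ Cfsg.pCore p G ∧
      (∀ a ∈ As, ∀ b ∈ As, ∀ v ∈ V, a * (b * v * b⁻¹ * v⁻¹) * a⁻¹ = b * v * b⁻¹ * v⁻¹) ∧
      (∀ B : Subgroup G, B ≤ As →
        Nat.card B * Nat.card ↥(V ⊓ Subgroup.centralizer (B : Set G)) ≤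
          Nat.card As * Nat.card ↥(V ⊓ Subgroup.centralizer (As : Set G))) ∧
      (∀ d ∈ (P : Subgroup G), (∀ k ∈ K, d * k * d⁻¹ * k⁻¹ ∈ Cfsg.pCore p G) →
        d ∈ Cfsg.pCore p G) := by
  have hp : p.Prime := Fact.out
  haveI := hKn
  obtain ⟨H, hH⟩ : ∃ H : Subgroup G, H = Cfsg.pCore p G := ⟨_, rfl⟩
  have hcent := hS.cent
  rw [← hH] at hKm hKiP hcent ⊢
  haveI hHn : H.Normal := by rw [hH]; exact Helper5.pCore_normal p G
  have hHp : IsPGroup p H := by rw [hH]; exact Helper3.pCore_isPGroup p G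
  have hHP : H ≤ (P : Subgroup G) := by rw [hH]; exact Helper5.pCore_le_sylow P
  have hnot := hS.notNPC
  obtain ⟨hC, hN, -⟩ := hΦ
  have hPtop : (P : Subgroup G) ≠ ⊤ := by
    intro h
    apply hnot
    apply hasNPC_of_isPGroup
    intro g
    obtain ⟨k, hk⟩ := P.2 ⟨g, by rw [h]; exact Subgroup.mem_top g⟩
    refine ⟨k, ?_⟩
    have := congrArg Subtype.val hk
    rw [Subgroup.coe_pow, Subgroup.coe_one] at this
    exact this
  have hPle : (P : Subgroup G) ≤ Subgroup.centralizer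
      (((P : Subgroup G) ⊓ Subgroup.centralizer ((P : Subgroup G) : Set G) : Subgroup G) :
        Set G) := by
    intro x hx
    rw [Subgroup.mem_centralizer_iff]
    intro z hz
    exact (Subgroup.mem_centralizer_iff.1 hz.2 x hx).symm
  have hc1 : Subgroup.centralizer
      (((P : Subgroup G) ⊓ Subgroup.centralizer ((P : Subgroup G) : Set G) : Subgroup G) :
        Set G) ≤ (P : Subgroup G) := by
    rcases hS.maxP _ hPle with h | h
    · exact h.le
    · exfalso; exact hnot (hasNPC_top_iff.1 (hasNPC_of_le h.ge hC))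
  have hPleN : (P : Subgroup G) ≤ Subgroup.normalizer (ZJ.JJ n (P : Subgroup G) : Set G) :=
    Subgroup.le_normalizer.trans
      (normalizer_le_normalizer_JJ n (P : Subgroup G) (P : Subgroup G) (ZJ.JJ_le n _) le_rfl)
  have hc2 : Subgroup.normalizer (ZJ.JJ n (P : Subgroup G) : Set G) ≤ (P : Subgroup G) := by
    rcases hS.maxP _ hPleN with h | h
    · exact h.le
    · exfalso; exact hnot (hasNPC_top_iff.1 (hasNPC_of_le h.ge hN))
  have hJH : ¬ ZJ.JJ n (P : Subgroup G) ≤ H := by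
    intro hJ
    have h1 := normalizer_le_normalizer_JJ n (P : Subgroup G) H hJ hHP
    rw [Subgroup.normalizer_eq_top] at h1
    exact hPtop (top_le_iff.1 (h1.trans hc2))
  obtain ⟨A, hA, hAH⟩ : ∃ A ∈ ZJ.AA n (P : Subgroup G), ¬ A ≤ H := by
    by_contra hcon
    push Not at hcon
    exact hJH (sSup_le hcon)
  have hAab : ∀ a ∈ A, ∀ b ∈ A, a * b = b * a := Helper3.elemAb_comm' hA.2.1
  obtain ⟨ZH, hZH⟩ : ∃ ZH : Subgroup G, ZH = H ⊓ Subgroup.centralizer (H : Set G) := ⟨_, rfl⟩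
  have hZHc : ∀ x ∈ ZH, ∀ y ∈ ZH, x * y = y * x := by
    intro x hx y hy
    rw [hZH] at hx hy
    exact Subgroup.mem_centralizer_iff.1 hy.2 x hx.1
  obtain ⟨V, hV⟩ : ∃ V : Subgroup G, V = Cfsg.omegaOne p ZH := ⟨_, rfl⟩
  have hVmem : ∀ x ∈ V, x ∈ ZH ∧ x ^ p = 1 := by
    rw [hV]; exact Helper3.GR.omega_mem_of_comm hZHc
  have hmemV : ∀ x ∈ ZH, x ^ p = 1 → x ∈ V := by
    intro x hx hxp; rw [hV]; exact Helper3.GR.mem_omega hx hxp
  have hVle : V ≤ ZH := fun x hx => (hVmem x hx).1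
  have hVc : ∀ x ∈ V, ∀ y ∈ V, x * y = y * x := fun x hx y hy => hZHc x (hVle hx) y (hVle hy)
  have hVp : ∀ x ∈ V, x ^ p = 1 := fun x hx => (hVmem x hx).2
  haveI hZHn : ZH.Normal := by
    constructor
    intro z hz g
    rw [hZH] at hz ⊢
    refine ⟨hHn.conj_mem z hz.1 g, Subgroup.mem_centralizer_iff.2 ?_⟩
    intro y hy
    have h1 : g⁻¹ * y * g ∈ H := by simpa using hHn.conj_mem y hy g⁻¹
    have h2 := Subgroup.mem_centralizer_iff.1 hz.2 _ h1
    calc y * (g * z * g⁻¹) = g * ((g⁻¹ * y * g) * z) * g⁻¹ := by group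
      _ = g * (z * (g⁻¹ * y * g)) * g⁻¹ := by rw [h2]
      _ = g * z * g⁻¹ * y := by group
  haveI hVn : V.Normal := by
    constructor
    intro v hv g
    obtain ⟨h1, h2⟩ := hVmem v hv
    exact hmemV _ (hZHn.conj_mem v h1 g) (by rw [conj_pow, h2, mul_one, mul_inv_cancel])
  have hHCV : H ≤ Subgroup.centralizer (V : Set G) := by
    intro h hh
    rw [Subgroup.mem_centralizer_iff]
    intro v hv
    have := hVle hv
    rw [hZH] at this
    exact (Subgroup.mem_centralizer_iff.1 this.2 h hh).symm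
  have hZP : (P : Subgroup G) ⊓ Subgroup.centralizer ((P : Subgroup G) : Set G) ≤ ZH := by
    intro z hz
    have h1 : z ∈ Subgroup.centralizer (H : Set G) :=
      Subgroup.centralizer_le (SetLike.coe_subset_coe.2 hHP) hz.2
    rw [hZH]; exact ⟨hcent h1, h1⟩
  obtain ⟨C, hCdef⟩ : ∃ C : Subgroup G, C = Subgroup.centralizer (V : Set G) := ⟨_, rfl⟩
  haveI hCn : C.Normal := by rw [hCdef]; exact Subgroup.normal_centralizer
  have hpowK : ∀ g : G, ∃ j : ℕ, g ^ p ^ j ∈ K := by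
    intro g
    have hg : g ∈ K ⊔ (P : Subgroup G) := by rw [hKP]; exact Subgroup.mem_top g
    obtain ⟨k, hk, x, hx, rfl⟩ := Helper3.mem_sup_of_le_normalizer_right K (P : Subgroup G)
      (by rw [Subgroup.normalizer_eq_top]; exact le_top) hg
    obtain ⟨j, hj⟩ := P.2 ⟨x, hx⟩
    have hxj : x ^ p ^ j = 1 := by
      have := congrArg Subtype.val hj
      rw [Subgroup.coe_pow, Subgroup.coe_one] at this
      exact this
    refine ⟨j, ?_⟩
    rw [← QuotientGroup.eq_one_iff, QuotientGroup.mk_pow, QuotientGroup.mk_mul,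
      (QuotientGroup.eq_one_iff k).2 hk, one_mul, ← QuotientGroup.mk_pow, hxj]
    rfl
  have hCK : C ⊓ K ≤ H := by
    have h1 : (P : Subgroup G) ≤ (C ⊓ K) ⊔ (P : Subgroup G) := le_sup_right
    rcases hS.maxP _ h1 with h | h
    · intro x hx
      have hxP : x ∈ (P : Subgroup G) := by rw [← h]; exact Subgroup.mem_sup_left hx
      have : x ∈ K ⊓ (P : Subgroup G) := ⟨hx.2, hxP⟩
      rw [hKiP] at this; exact this
    · exfalso
      have hKC : K ≤ C := by
        intro k hk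
        have hk' : k ∈ (C ⊓ K) ⊔ (P : Subgroup G) := by rw [h]; exact Subgroup.mem_top k
        obtain ⟨c, hc, x, hx, rfl⟩ := Helper3.mem_sup_of_le_normalizer_right (C ⊓ K)
          (P : Subgroup G) (by rw [Subgroup.normalizer_eq_top]; exact le_top) hk'
        have hxK : x ∈ K := by
          have : x = c⁻¹ * (c * x) := by group
          rw [this]; exact K.mul_mem (K.inv_mem hc.2) hk
        have hxH : x ∈ H := by rw [← hKiP]; exact ⟨hxK, hx⟩
        exact C.mul_mem hc.1 (by rw [hCdef]; exact hHCV hxH)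
      have hKZ : K ≤ Subgroup.centralizer (ZH : Set G) := by
        intro k hk
        refine centralizes_of_centralizes_omega ZH hZHc
          (hHp.to_le (by rw [hZH]; exact inf_le_left)) k ?_ m hm ?_ ?_
        · rw [Subgroup.normalizer_eq_top]; exact Subgroup.mem_top k
        · rw [Subgroup.mem_centralizer_iff]
          intro z hz
          rw [hZH] at hz
          exact (Subgroup.mem_centralizer_iff.1 hz.2 _ (hKm k hk)).symm
        · intro z hz hzp
          have hzV := hmemV z hz hzp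
          have := hKC hk
          rw [hCdef] at this
          exact (Subgroup.mem_centralizer_iff.1 this z hzV).symm
      have hKP' : K ≤ (P : Subgroup G) := fun k hk =>
        hc1 (Subgroup.centralizer_le (SetLike.coe_subset_coe.2 hZP) (hKZ hk))
      have hKH : K = H := by rw [← hKiP]; exact (inf_eq_left.2 hKP').symm
      apply hPtop
      rw [← hKP, hKH]; exact (sup_eq_right.2 hHP).symm
  have hCH : C ≤ H := by
    have hCp : IsPGroup p C := by
      intro c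
      obtain ⟨j, hj⟩ := hpowK (c : G)
      have h1 : (c : G) ^ p ^ j ∈ H := hCK ⟨C.pow_mem c.2 _, hj⟩
      obtain ⟨i, hi⟩ := hHp ⟨_, h1⟩
      refine ⟨j + i, Subtype.ext ?_⟩
      have := congrArg Subtype.val hi
      rw [Subgroup.coe_pow, Subgroup.coe_one] at this
      rw [Subgroup.coe_pow, Subgroup.coe_one, pow_add, pow_mul]; exact this
    rw [hH]; exact Helper5.le_pCore C hCn hCp
  have hVP : V ≤ (P : Subgroup G) := fun x hx => hHP (by
    have := hVle hx; rw [hZH] at this; exact this.1)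
  have hmax : ∀ B : Subgroup G, B ≤ A →
      Nat.card B * Nat.card ↥(V ⊓ Subgroup.centralizer (B : Set G)) ≤
        Nat.card A * Nat.card ↥(V ⊓ Subgroup.centralizer (A : Set G)) := by
    intro B hBA
    obtain ⟨W, hW⟩ : ∃ W : Subgroup G, W = V ⊓ Subgroup.centralizer (B : Set G) := ⟨_, rfl⟩
    rw [← hW]
    have hBe : Cfsg.IsElementaryAbelian n B := Helper3.elemAb_of_le' hA.2.1 hBA
    have hWe : Cfsg.IsElementaryAbelian n W := by
      refine Helper3.elemAb_mk ?_ ?_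
      · intro x hx y hy; rw [hW] at hx hy; exact hVc x hx.1 y hy.1
      · intro x hx
        rw [hW] at hx
        rcases hn with h0 | h0
        · rw [h0, pow_zero]
        · rw [h0]; exact hVp x hx.1
    have hWB : W ≤ Subgroup.centralizer (B : Set G) := by rw [hW]; exact inf_le_right
    have hE := Helper3.elemAb_sup hBe hWe hWB
    have hEP : B ⊔ W ≤ (P : Subgroup G) :=
      sup_le (hBA.trans hA.1) (by rw [hW]; exact inf_le_left.trans hVP)
    have h1 := hA.2.2 _ hEP hE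
    have h2 := Helper3.GR.card_mul_card_of_le_normalizer B W
      (hWB.trans (Subgroup.centralizer_le_normalizer _))
    have h3 : B ⊓ W ≤ V ⊓ Subgroup.centralizer (A : Set G) := by
      intro x hx
      refine ⟨by have := hx.2; rw [hW] at this; exact this.1, Subgroup.mem_centralizer_iff.2 ?_⟩
      intro a ha
      exact hAab a ha x (hBA hx.1)
    rw [h2]
    exact Nat.mul_le_mul h1 (Subgroup.card_le_of_le h3)
  have hAV : A ≤ Subgroup.normalizer (V : Set G) := by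
    rw [Subgroup.normalizer_eq_top]; exact le_top
  have hab : ⁅A, A⁆ ≤ Subgroup.centralizer (V : Set G) := by
    have : ⁅A, A⁆ = ⊥ := by
      rw [Subgroup.commutator_eq_bot_iff_le_centralizer]
      intro a ha
      exact Subgroup.mem_centralizer_iff.2 (fun b hb => hAab b hb a ha)
    rw [this]; exact bot_le
  obtain ⟨e1, e2⟩ := Helper3.timm_main V A hVc hAV hab hmax V le_rfl
  obtain ⟨W, hW⟩ : ∃ W : Subgroup G, W = ⁅V, A⁆ := ⟨_, rfl⟩
  rw [← hW] at e1 e2
  obtain ⟨As, hAs⟩ : ∃ As : Subgroup G, As = A ⊓ Subgroup.centralizer (W : Set G) := ⟨_, rfl⟩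
  rw [← hAs] at e1 e2
  have hAsH : ¬ As ≤ H := by
    intro hle
    have h1 : V ⊓ Subgroup.centralizer (As : Set G) = V := by
      rw [inf_eq_left]
      intro v hv
      rw [Subgroup.mem_centralizer_iff]
      intro a ha
      exact (Subgroup.mem_centralizer_iff.1 (hHCV (hle ha)) v hv).symm
    rw [h1] at e1
    have hWV : W ≤ V := by rw [hW]; exact Subgroup.commutator_le_left V A
    have hAW : A ≤ Subgroup.normalizer (W : Set G) := by
      intro a ha
      apply Helper5.mem_normalizer_of_conj_le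
      rw [hW, Subgroup.map_commutator]
      apply Subgroup.commutator_mono
      · rintro _ ⟨v, hv, rfl⟩; exact hVn.conj_mem v hv a
      · rintro _ ⟨b, hb, rfl⟩; exact A.mul_mem (A.mul_mem ha hb) (A.inv_mem ha)
    have hCAW : V ⊓ Subgroup.centralizer (A : Set G) ≤ Subgroup.normalizer (W : Set G) := by
      intro y hy
      apply Subgroup.centralizer_le_normalizer
      rw [Subgroup.mem_centralizer_iff]
      intro w hw
      exact hVc w (hWV hw) y hy.1
    have h2 : ⁅W, A⁆ = W := by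
      apply le_antisymm
      · rw [Subgroup.commutator_le]
        intro w hw a ha
        have := (Subgroup.mem_normalizer_iff.1 (hAW ha) w⁻¹).1 (W.inv_mem hw)
        rw [commutatorElement_def]
        have e : w * a * w⁻¹ * a⁻¹ = w * (a * w⁻¹ * a⁻¹) := by group
        rw [e]; exact W.mul_mem hw this
      · conv_lhs => rw [hW]
        rw [Subgroup.commutator_le]
        intro v hv a ha
        rw [e1] at hv
        obtain ⟨x, hx, y, hy, rfl⟩ := Helper3.mem_sup_of_le_normalizer_right W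
          (V ⊓ Subgroup.centralizer (A : Set G)) hCAW hv
        have hya : y * a = a * y := (Subgroup.mem_centralizer_iff.1 hy.2 a ha).symm
        have e : ⁅x * y, a⁆ = ⁅x, a⁆ := by
          rw [commutatorElement_def, commutatorElement_def]
          calc x * y * a * (x * y)⁻¹ * a⁻¹ = x * (y * a) * y⁻¹ * x⁻¹ * a⁻¹ := by group
            _ = x * (a * y) * y⁻¹ * x⁻¹ * a⁻¹ := by rw [hya]
            _ = x * a * x⁻¹ * a⁻¹ := by group
        rw [e]; exact Subgroup.commutator_mem_commutator hx ha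
    have hWp : IsPGroup p W :=
      hHp.to_le (hWV.trans (hVle.trans (by rw [hZH]; exact inf_le_left)))
    have hAp : IsPGroup p A := P.2.to_le hA.1
    have hW0 : W = ⊥ := by
      by_contra hne
      exact Helper3.commutator_ne_of_pGroup p W A hWp hAp hAW hne h2
    apply hAH
    intro a ha
    apply hCH
    rw [hCdef, Subgroup.mem_centralizer_iff]
    intro v hv
    have h3 : ⁅v, a⁆ ∈ W := by rw [hW]; exact Subgroup.commutator_mem_commutator hv ha
    rw [hW0, Subgroup.mem_bot] at h3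
    exact commutatorElement_eq_one_iff_mul_comm.1 h3
  have hAsA : As ≤ A := by rw [hAs]; exact inf_le_left
  obtain ⟨M', hM'n, hM'⟩ := exists_commSub K H
  have hfaith : ∀ d ∈ (P : Subgroup G), (∀ k ∈ K, d * k * d⁻¹ * k⁻¹ ∈ H) → d ∈ H := by
    intro d hdP hd
    obtain ⟨D, hD⟩ : ∃ D : Subgroup G, D = M' ⊓ (P : Subgroup G) := ⟨_, rfl⟩
    have hDn : D.Normal := by
      have h1 : K ⊔ (P : Subgroup G) ≤ Subgroup.normalizer (D : Set G) := by
        refine sup_le ?_ ?_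
        · intro k hk
          apply Helper5.mem_normalizer_of_conj_le
          rintro _ ⟨d', hd', rfl⟩
          rw [hD] at hd' ⊢
          change k * d' * k⁻¹ ∈ _
          refine ⟨hM'n.conj_mem d' hd'.1 k, ?_⟩
          have h2 := (hM' d').1 hd'.1 k hk
          have e : k * d' * k⁻¹ = (d' * k * d'⁻¹ * k⁻¹)⁻¹ * d' := by group
          rw [e]; exact Subgroup.mul_mem _ (hHP (H.inv_mem h2)) hd'.2
        · intro x hx
          apply Helper5.mem_normalizer_of_conj_le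
          rintro _ ⟨d', hd', rfl⟩
          rw [hD] at hd' ⊢
          change x * d' * x⁻¹ ∈ _
          exact ⟨hM'n.conj_mem d' hd'.1 x,
            Subgroup.mul_mem _ (Subgroup.mul_mem _ hx hd'.2) (Subgroup.inv_mem _ hx)⟩
      rw [hKP] at h1
      exact Subgroup.normalizer_eq_top_iff.1 (top_le_iff.1 h1)
    have hDH : D ≤ H := by
      rw [hH]
      exact Helper5.le_pCore D hDn (P.2.to_le (by rw [hD]; exact inf_le_right))
    apply hDH
    rw [hD]
    exact ⟨(hM' d).2 hd, hdP⟩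
  refine ⟨V, As, hVn, hVc, hVp, le_antisymm (by rw [← hCdef]; exact hCH) hHCV,
    hAsA.trans hA.1, fun x hx y hy => hAab x (hAsA hx) y (hAsA hy), hAsH, ?_, ?_, hfaith⟩
  · intro a ha b hb v hv
    have h1 : b * v * b⁻¹ * v⁻¹ ∈ W := by
      have h2 : ⁅v, b⁆ ∈ W := by
        rw [hW]; exact Subgroup.commutator_mem_commutator hv (hAsA hb)
      have h3 : b * v * b⁻¹ * v⁻¹ = ⁅v, b⁆⁻¹ := by rw [commutatorElement_def]; group
      rw [h3]; exact W.inv_mem h2
    have haW : a ∈ Subgroup.centralizer (W : Set G) := by rw [hAs] at ha; exact ha.2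
    have h4 := Subgroup.mem_centralizer_iff.1 haW _ h1
    rw [← h4]; group
  · intro B hB
    rw [← e2]
    exact hmax B (hB.trans hAsA)

theorem commute_of_coprime_pows {z v : G} {a b : ℕ} (hab : Nat.Coprime a b)
    (ha : Commute (z ^ a) v) (hb : Commute (z ^ b) v) : Commute z v := by
  have h4 := Nat.gcd_eq_gcd_ab a b
  rw [show Nat.gcd a b = 1 from hab, Nat.cast_one] at h4
  have h5 : z = (z ^ a) ^ (Nat.gcdA a b) * (z ^ b) ^ (Nat.gcdB a b) := by
    rw [← zpow_natCast, ← zpow_natCast, ← zpow_mul, ← zpow_mul, ← zpow_add, ← h4, zpow_one]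
  rw [h5]
  exact (ha.zpow_left _).mul_left (hb.zpow_left _)

theorem conj_pow_of_fixed_comm {y v u : G} (huv : u = v⁻¹ * (y * v * y⁻¹))
    (hyu : y * u * y⁻¹ = u) : ∀ i : ℕ, y ^ i * v * (y ^ i)⁻¹ = v * u ^ i := by
  intro i
  induction i with
  | zero => simp
  | succ i ih =>
    have e1 : y * v * y⁻¹ = v * u := by rw [huv]; group
    have e2 : y * u ^ i * y⁻¹ = u ^ i := by rw [← conj_pow, hyu]
    calc y ^ (i + 1) * v * (y ^ (i + 1))⁻¹ = y * (y ^ i * v * (y ^ i)⁻¹) * y⁻¹ := by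
          rw [pow_succ']; group
      _ = y * (v * u ^ i) * y⁻¹ := by rw [ih]
      _ = (y * v * y⁻¹) * (y * u ^ i * y⁻¹) := by group
      _ = v * u * u ^ i := by rw [e1, e2]
      _ = v * u ^ (i + 1) := by rw [pow_succ', mul_assoc]

theorem inv_conj_aux {Γ : Type*} [Group Γ] (α ξ : Γ) (h : α * α = 1) :
    α * (ξ⁻¹ * (α * ξ * α⁻¹)) * α⁻¹ * (ξ⁻¹ * (α * ξ * α⁻¹)) = 1 := by
  have hα' : α⁻¹ = α := inv_eq_of_mul_eq_one_left h
  rw [hα']
  calc α * (ξ⁻¹ * (α * ξ * α)) * α * (ξ⁻¹ * (α * ξ * α))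
      = α * ξ⁻¹ * α * ξ * (α * α) * ξ⁻¹ * α * ξ * α := by group
    _ = α * ξ⁻¹ * α * ξ * 1 * ξ⁻¹ * α * ξ * α := by rw [h]
    _ = α * ξ⁻¹ * (α * α) * ξ * α := by group
    _ = α * ξ⁻¹ * 1 * ξ * α := by rw [h]
    _ = α * α := by group
    _ = 1 := h

/-- Thompson's `A × B` lemma for a normal abelian `p`-subgroup `V`, modulo `C_G(V)`. -/
theorem AxB_mod [Finite G] {p : ℕ} [Fact p.Prime] (V : Subgroup G) [hVn : V.Normal]
    (hVc : ∀ x ∈ V, ∀ y ∈ V, x * y = y * x) (hVp : IsPGroup p V)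
    (B : Subgroup G) (hB : IsPGroup p B) (y : G) (m : ℕ) (hm : m.Coprime p)
    (hym : y ^ m ∈ Subgroup.centralizer (V : Set G))
    (hyB : ∀ b ∈ B, y * b * y⁻¹ * b⁻¹ ∈ Subgroup.centralizer (V : Set G))
    (hfix : ∀ v ∈ V ⊓ Subgroup.centralizer (B : Set G), y * v * y⁻¹ = v) :
    y ∈ Subgroup.centralizer (V : Set G) := by
  classical
  have hp : p.Prime := Fact.out
  obtain ⟨U, hU⟩ : ∃ U : Subgroup G, ∀ u, u ∈ U ↔ ∃ v ∈ V, u = v⁻¹ * (y * v * y⁻¹) := by
    refine ⟨{ carrier := {u | ∃ v ∈ V, u = v⁻¹ * (y * v * y⁻¹)}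
              mul_mem' := ?_
              one_mem' := ?_
              inv_mem' := ?_ }, fun u => Iff.rfl⟩
    · rintro _ _ ⟨v, hv, rfl⟩ ⟨v', hv', rfl⟩
      refine ⟨v * v', V.mul_mem hv hv', ?_⟩
      have h1 : (y * v * y⁻¹) * v'⁻¹ = v'⁻¹ * (y * v * y⁻¹) :=
        hVc _ (hVn.conj_mem v hv y) _ (V.inv_mem hv')
      have h2 : v⁻¹ * v'⁻¹ = v'⁻¹ * v⁻¹ := hVc _ (V.inv_mem hv) _ (V.inv_mem hv')
      calc v⁻¹ * (y * v * y⁻¹) * (v'⁻¹ * (y * v' * y⁻¹))
          = v⁻¹ * ((y * v * y⁻¹) * v'⁻¹) * (y * v' * y⁻¹) := by group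
        _ = v⁻¹ * (v'⁻¹ * (y * v * y⁻¹)) * (y * v' * y⁻¹) := by rw [h1]
        _ = (v⁻¹ * v'⁻¹) * (y * (v * v') * y⁻¹) := by group
        _ = (v'⁻¹ * v⁻¹) * (y * (v * v') * y⁻¹) := by rw [h2]
        _ = (v * v')⁻¹ * (y * (v * v') * y⁻¹) := by group
    · exact ⟨1, V.one_mem, by group⟩
    · rintro _ ⟨v, hv, rfl⟩
      refine ⟨v⁻¹, V.inv_mem hv, ?_⟩
      have h1 : (y * v⁻¹ * y⁻¹) * v = v * (y * v⁻¹ * y⁻¹) :=
        hVc _ (hVn.conj_mem _ (V.inv_mem hv) y) _ hv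
      calc (v⁻¹ * (y * v * y⁻¹))⁻¹ = (y * v⁻¹ * y⁻¹) * v := by group
        _ = v * (y * v⁻¹ * y⁻¹) := h1
        _ = v⁻¹⁻¹ * (y * v⁻¹ * y⁻¹) := by group
  have hUV : U ≤ V := by
    intro u hu
    obtain ⟨v, hv, rfl⟩ := (hU u).1 hu
    exact V.mul_mem (V.inv_mem hv) (hVn.conj_mem v hv y)
  have hBU : B ≤ Subgroup.normalizer (U : Set G) := by
    intro b hb
    apply Helper5.mem_normalizer_of_conj_le
    rintro _ ⟨u, hu, rfl⟩
    obtain ⟨v, hv, rfl⟩ := (hU u).1 hu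
    change b * (v⁻¹ * (y * v * y⁻¹)) * b⁻¹ ∈ U
    rw [hU]
    refine ⟨b * v * b⁻¹, hVn.conj_mem v hv b, ?_⟩
    have hz : b * y * b⁻¹ * y⁻¹ ∈ Subgroup.centralizer (V : Set G) := by
      have := Subgroup.inv_mem _ (hyB b hb)
      have e : (y * b * y⁻¹ * b⁻¹)⁻¹ = b * y * b⁻¹ * y⁻¹ := by group
      rw [e] at this; exact this
    have h1 : y * (b * v * b⁻¹) * y⁻¹ ∈ V := hVn.conj_mem _ (hVn.conj_mem v hv b) y
    have h2 := Subgroup.mem_centralizer_iff.1 hz _ h1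
    calc b * (v⁻¹ * (y * v * y⁻¹)) * b⁻¹
        = (b * v * b⁻¹)⁻¹ * ((b * y * b⁻¹ * y⁻¹) * (y * (b * v * b⁻¹) * y⁻¹)) *
            (b * y * b⁻¹ * y⁻¹)⁻¹ := by group
      _ = (b * v * b⁻¹)⁻¹ * ((y * (b * v * b⁻¹) * y⁻¹) * (b * y * b⁻¹ * y⁻¹)) *
            (b * y * b⁻¹ * y⁻¹)⁻¹ := by rw [h2]
      _ = (b * v * b⁻¹)⁻¹ * (y * (b * v * b⁻¹) * y⁻¹) := by group
  have hU0 : U = ⊥ := by
    by_contra hne
    have hUp : IsPGroup p U := hVp.to_le hUV
    have hSp : IsPGroup p (U ⊔ B : Subgroup G) := IsPGroup.to_sup_of_normal_left' hUp hB hBU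
    have hSn : U ⊔ B ≤ Subgroup.normalizer (U : Set G) := sup_le Subgroup.le_normalizer hBU
    have h1 := normal_inf_center_ne_bot (U ⊔ B) hSp _ U rfl le_sup_left hSn hne
    obtain ⟨u, hu, hu1⟩ : ∃ u ∈ U ⊓ ((U ⊔ B) ⊓
        Subgroup.centralizer ((U ⊔ B : Subgroup G) : Set G)), u ≠ 1 := by
      by_contra hcon
      push Not at hcon
      apply h1
      rw [eq_bot_iff]
      intro x hx
      rw [Subgroup.mem_bot]; exact hcon x hx
    obtain ⟨huU, -, huC⟩ := hu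
    have huB : u ∈ Subgroup.centralizer (B : Set G) :=
      Subgroup.centralizer_le (SetLike.coe_subset_coe.2 le_sup_right) huC
    obtain ⟨v, hv, huv⟩ := (hU u).1 huU
    have hyu : y * u * y⁻¹ = u := hfix u ⟨hUV huU, huB⟩
    have hpow := conj_pow_of_fixed_comm huv hyu
    have hum : u ^ m = 1 := by
      have h2 := hpow m
      have h3 := Subgroup.mem_centralizer_iff.1 hym v hv
      have h4 : y ^ m * v * (y ^ m)⁻¹ = v := by rw [← h3]; group
      rw [h4] at h2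
      have : v * u ^ m = v * 1 := by rw [mul_one]; exact h2.symm
      exact mul_left_cancel this
    obtain ⟨e, he⟩ := hUp ⟨u, huU⟩
    have hue : u ^ p ^ e = 1 := by
      have := congrArg Subtype.val he
      rw [Subgroup.coe_pow, Subgroup.coe_one] at this; exact this
    apply hu1
    have hd1 : orderOf u ∣ m := orderOf_dvd_of_pow_eq_one hum
    have hd2 : orderOf u ∣ p ^ e := orderOf_dvd_of_pow_eq_one hue
    have hcop : Nat.Coprime m (p ^ e) := Nat.Coprime.pow_right e hm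
    have : orderOf u = 1 := Nat.eq_one_of_dvd_coprimes hcop hd1 hd2
    exact orderOf_eq_one_iff.1 this
  rw [Subgroup.mem_centralizer_iff]
  intro v hv
  have h1 : v⁻¹ * (y * v * y⁻¹) ∈ U := (hU _).2 ⟨v, hv, rfl⟩
  rw [hU0, Subgroup.mem_bot] at h1
  calc v * y = v * 1 * y := by group
    _ = v * (v⁻¹ * (y * v * y⁻¹)) * y := by rw [h1]
    _ = y * v := by group

end Cfsg.Agent.Helper3.PN
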