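import Mathlib
import Cfsg.Prelude
import Cfsg.Agent.Helper3.PN5

set_option autoImplicit false

namespace Cfsg.Agent.Helper3.PN

open scoped commutatorElement

universe u

variable {G : Type u} [Group G]

set_option maxHeartbeats 1600000 in
/-- the endgame of Thompson's normal `2`-complement theorem for `S₄`-free groups. -/
theorem thomp_end_two {p : ℕ} [Fact p.Prime] (hp2 : p = 2) (n : ℕ) (hn : n = 0 ∨ n = p)
    (G : Type u) [Group G] [Finite G] (P : Sylow p G)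
    (hΦ : ThompHyp p n G P) (hS : EndStruct p P)
    (hS4 : ¬ Cfsg.Involves (Equiv.Perm (Fin 4)) G) : Cfsg.HasNormalPComplement p G := by
  subst hp2
  exfalso
  classical
  haveI : Fact (Nat.Prime 3) := ⟨Nat.prime_three⟩
  obtain ⟨K, hKn, hHK, hKK, ⟨m, hm, hKm⟩, hKP, hKiP⟩ := hS.exK
  haveI := hKn
  obtain ⟨V, As, hVn, hVc, hVp, hCV, hAsP, hAsc, hAsH, hquad, hoff, hfaith⟩ :=
    thomp_setup n hn G P hΦ hS K hKn m hm hKm hKP hKiP
  haveI := hVn
  obtain ⟨H, hH⟩ : ∃ H : Subgroup G, H = Cfsg.pCore 2 G := ⟨_, rfl⟩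
  rw [← hH] at hHK hKK hKm hKiP hCV hAsH hfaith
  haveI hHn : H.Normal := by rw [hH]; exact Helper5.pCore_normal 2 G
  have hHp : IsPGroup 2 H := by rw [hH]; exact Helper3.pCore_isPGroup 2 G
  have hHV : ∀ h ∈ H, ∀ v ∈ V, h * v = v * h := by
    intro h hh v hv
    have : h ∈ Subgroup.centralizer (V : Set G) := by rw [hCV]; exact hh
    exact (Subgroup.mem_centralizer_iff.1 this v hv).symm
  have hVH : V ≤ H := by
    rw [← hCV]
    intro v hv
    exact Subgroup.mem_centralizer_iff.2 (fun w hw => hVc w hw v hv)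
  have hmodd : ¬ 2 ∣ m := (Nat.Prime.coprime_iff_not_dvd Nat.prime_two).1 hm.symm
  have hm2 : Nat.Coprime 2 m := (Nat.Prime.coprime_iff_not_dvd Nat.prime_two).2 hmodd
  -- squares of elements of `As` lie in `H`
  have hsq : ∀ a ∈ As, a * a ∈ H := by
    intro a ha
    rw [← hCV, Subgroup.mem_centralizer_iff]
    intro v hv
    obtain ⟨c, hc⟩ : ∃ c, c = a * v * a⁻¹ * v⁻¹ := ⟨_, rfl⟩
    have hcV : c ∈ V := by rw [hc]; exact V.mul_mem (hVn.conj_mem v hv a) (V.inv_mem hv)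
    have h1 : a * c * a⁻¹ = c := by rw [hc]; exact hquad a ha a ha v hv
    have h2 : c * c = 1 := by rw [← pow_two]; exact hVp c hcV
    have h3 : a * a * v * (a * a)⁻¹ = v := by
      calc a * a * v * (a * a)⁻¹
          = (a * (a * v * a⁻¹ * v⁻¹) * a⁻¹) * (a * v * a⁻¹ * v⁻¹) * v := by group
        _ = c * c * v := by rw [← hc, h1]
        _ = v := by rw [h2, one_mul]
    calc v * (a * a) = (a * a * v * (a * a)⁻¹) * (a * a) := by rw [h3]
      _ = a * a * v := by group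
  obtain ⟨π, hπ⟩ : ∃ π : G →* G ⧸ H, π = QuotientGroup.mk' H := ⟨_, rfl⟩
  have hker : ∀ x : G, π x = 1 ↔ x ∈ H := by
    intro x; rw [hπ]; exact QuotientGroup.eq_one_iff x
  have hsurj : Function.Surjective π := by rw [hπ]; exact QuotientGroup.mk'_surjective H
  obtain ⟨Ab, hAb⟩ : ∃ Ab : Subgroup (G ⧸ H), Ab = As.map π := ⟨_, rfl⟩
  obtain ⟨Xb, hXb⟩ : ∃ Xb : Subgroup (G ⧸ H), Xb = K.map π := ⟨_, rfl⟩
  haveI hXbn : Xb.Normal := by rw [hXb]; exact hKn.map π hsurj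
  have hAbe : Cfsg.IsElementaryAbelian 2 Ab := by
    rw [hAb]
    refine Helper3.elemAb_mk ?_ ?_
    · rintro _ ⟨a, ha, rfl⟩ _ ⟨b, hb, rfl⟩
      rw [← map_mul, ← map_mul, hAsc a ha b hb]
    · rintro _ ⟨a, ha, rfl⟩
      rw [pow_two, ← map_mul]; exact (hker _).2 (hsq a ha)
  have hXodd : ¬ 2 ∣ Nat.card Xb := by
    have h1 : (Nat.card Xb).Coprime 2 := by
      rw [Helper3.coprime_card_iff_forall_orderOf_ne 2 Xb, hXb]
      rintro _ ⟨k, hk, rfl⟩ hord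
      have h2 : π k ^ m = 1 := by rw [← map_pow]; exact (hker _).2 (hKm k hk)
      exact hmodd (hord ▸ orderOf_dvd_of_pow_eq_one h2)
    exact (Nat.Prime.coprime_iff_not_dvd Nat.prime_two).1 h1.symm
  have hgen := Helper3.generated_by_centralizers 2 Ab Xb hAbe hXodd
    (by rw [Subgroup.normalizer_eq_top]; exact le_top)
  obtain ⟨a₁, ha₁, ha₁H⟩ : ∃ a ∈ As, a ∉ H := by
    by_contra hcon
    push Not at hcon
    exact hAsH hcon
  obtain ⟨k₁, hk₁, hk₁H⟩ : ∃ k ∈ K, a₁ * k * a₁⁻¹ * k⁻¹ ∉ H := by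
    by_contra hcon
    push Not at hcon
    exact ha₁H (hfaith a₁ (hAsP ha₁) hcon)
  have hnotle : ¬ Xb ≤ Subgroup.centralizer ({π a₁} : Set (G ⧸ H)) := by
    intro hle
    have h1 : π k₁ ∈ Xb := by rw [hXb]; exact ⟨k₁, hk₁, rfl⟩
    have h2 := Subgroup.mem_centralizer_iff.1 (hle h1) (π a₁) (Set.mem_singleton _)
    apply hk₁H
    rw [← hker, map_mul, map_mul, map_mul, map_inv, map_inv, h2]
    group
  obtain ⟨⟨Bb, hBbA, hBbi⟩, hBbx⟩ :
      ∃ Bb : {B : Subgroup (G ⧸ H) // B ≤ Ab ∧ B.relIndex Ab ≤ 2},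
        ¬ (Xb ⊓ Subgroup.centralizer ((Bb : Subgroup (G ⧸ H)) : Set (G ⧸ H)) ≤
          Subgroup.centralizer ({π a₁} : Set (G ⧸ H))) := by
    by_contra hcon
    push Not at hcon
    exact hnotle (hgen.le.trans (iSup_le hcon))
  obtain ⟨xb, ⟨hxbX, hxbC⟩, hxbn⟩ : ∃ xb ∈ Xb ⊓ Subgroup.centralizer (Bb : Set (G ⧸ H)),
      xb ∉ Subgroup.centralizer ({π a₁} : Set (G ⧸ H)) := by
    by_contra hcon
    push Not at hcon
    exact hBbx hcon
  have hxbn' : π a₁ * xb ≠ xb * π a₁ := by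
    intro h
    apply hxbn
    rw [Subgroup.mem_centralizer_iff]
    intro z hz
    rw [Set.mem_singleton_iff] at hz
    rw [hz]; exact h
  have ha₁Ab : π a₁ ∈ Ab := by rw [hAb]; exact ⟨a₁, ha₁, rfl⟩
  have ha₁Bb : π a₁ ∉ Bb := by
    intro h
    exact hxbn' (Subgroup.mem_centralizer_iff.1 hxbC _ h)
  have hidx : ∀ u ∈ Ab, u ∈ Bb ∨ u * π a₁ ∈ Bb := by
    intro u hu
    by_cases huB : u ∈ Bb
    · exact Or.inl huB
    · right
      have hri : (Bb.subgroupOf Ab).index = 2 := by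
        have h1 : (Bb.subgroupOf Ab).index ≤ 2 := hBbi
        have h2 : (Bb.subgroupOf Ab).index ≠ 0 := Subgroup.index_ne_zero_of_finite
        have h3 : (Bb.subgroupOf Ab).index ≠ 1 := by
          intro h
          rw [Subgroup.index_eq_one] at h
          apply ha₁Bb
          have : (⟨π a₁, ha₁Ab⟩ : ↥Ab) ∈ Bb.subgroupOf Ab := by rw [h]; exact Subgroup.mem_top _
          exact Subgroup.mem_subgroupOf.1 this
        omega
      have h4 := (Subgroup.mul_mem_iff_of_index_two hri (a := (⟨u, hu⟩ : ↥Ab))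
        (b := ⟨π a₁, ha₁Ab⟩)).2
        ⟨fun h => absurd (Subgroup.mem_subgroupOf.1 h) huB,
          fun h => absurd (Subgroup.mem_subgroupOf.1 h) ha₁Bb⟩
      exact Subgroup.mem_subgroupOf.1 h4
  obtain ⟨B, hB⟩ : ∃ B : Subgroup G, B = As ⊓ Bb.comap π := ⟨_, rfl⟩
  have hBAs : B ≤ As := by rw [hB]; exact inf_le_left
  have hcardB : Nat.card As ≤ 2 * Nat.card B := by
    have hsub : (As : Set G) ⊆ (B : Set G) ∪ (fun b => b * a₁⁻¹) '' (B : Set G) := by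
      intro a ha
      rcases hidx (π a) (by rw [hAb]; exact ⟨a, ha, rfl⟩) with h | h
      · left
        rw [hB]; exact ⟨ha, h⟩
      · right
        refine ⟨a * a₁, ?_, by group⟩
        rw [hB]
        refine ⟨As.mul_mem ha ha₁, ?_⟩
        change π (a * a₁) ∈ Bb
        rw [map_mul]; exact h
    have hBc : (B : Set G).ncard = Nat.card B := (Nat.card_coe_set_eq (B : Set G)).symm
    calc Nat.card As = (As : Set G).ncard := Nat.card_coe_set_eq (As : Set G)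
      _ ≤ ((B : Set G) ∪ (fun b => b * a₁⁻¹) '' (B : Set G)).ncard :=
          Set.ncard_le_ncard hsub (Set.toFinite _)
      _ ≤ (B : Set G).ncard + ((fun b => b * a₁⁻¹) '' (B : Set G)).ncard :=
          Set.ncard_union_le _ _
      _ ≤ (B : Set G).ncard + (B : Set G).ncard :=
          Nat.add_le_add_left (Set.ncard_image_le (Set.toFinite _)) _
      _ = 2 * Nat.card B := by rw [hBc]; ring
  obtain ⟨V₁, hV₁⟩ : ∃ V₁ : Subgroup G, V₁ = V ⊓ Subgroup.centralizer (B : Set G) := ⟨_, rfl⟩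
  obtain ⟨V₂, hV₂⟩ : ∃ V₂ : Subgroup G, V₂ = V ⊓ Subgroup.centralizer (As : Set G) := ⟨_, rfl⟩
  have hV₁V₂ : Nat.card V₁ ≤ 2 * Nat.card V₂ := by
    have h1 := hoff B hBAs
    rw [← hV₁, ← hV₂] at h1
    have hpos : 0 < Nat.card B := Nat.card_pos
    have h2 : Nat.card B * Nat.card V₁ ≤ Nat.card B * (2 * Nat.card V₂) := by
      calc Nat.card B * Nat.card V₁ ≤ Nat.card As * Nat.card V₂ := h1
        _ ≤ (2 * Nat.card B) * Nat.card V₂ := Nat.mul_le_mul_right _ hcardB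
        _ = Nat.card B * (2 * Nat.card V₂) := by ring
    exact Nat.le_of_mul_le_mul_left h2 hpos
  have hV₁V : V₁ ≤ V := by rw [hV₁]; exact inf_le_left
  -- the element `y`
  obtain ⟨x₀, hx₀K, rfl⟩ : ∃ x₀ ∈ K, π x₀ = xb := by rw [hXb] at hxbX; exact hxbX
  obtain ⟨y, hy⟩ : ∃ y, y = x₀⁻¹ * (a₁ * x₀ * a₁⁻¹) := ⟨_, rfl⟩
  have hyK : y ∈ K := by
    rw [hy]; exact K.mul_mem (K.inv_mem hx₀K) (hKn.conj_mem x₀ hx₀K a₁)
  have hπy : π y = (π x₀)⁻¹ * (π a₁ * π x₀ * (π a₁)⁻¹) := by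
    rw [hy, map_mul, map_inv, map_mul, map_mul, map_inv]
  have hyH : y ∉ H := by
    intro h
    apply hxbn'
    have h1 := (hker y).2 h
    rw [hπy] at h1
    calc π a₁ * π x₀ = π x₀ * ((π x₀)⁻¹ * (π a₁ * π x₀ * (π a₁)⁻¹)) * π a₁ := by group
      _ = π x₀ * π a₁ := by rw [h1, mul_one]
  have hα2 : π a₁ * π a₁ = 1 := by rw [← map_mul]; exact (hker _).2 (hsq a₁ ha₁)
  have hinv : a₁ * y * a₁⁻¹ * y ∈ H := by
    rw [← hker, map_mul, map_mul, map_mul, map_inv, hπy]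
    exact inv_conj_aux _ _ hα2
  have hyB : ∀ b ∈ B, y * b * y⁻¹ * b⁻¹ ∈ H := by
    intro b hb
    rw [hB] at hb
    have hbB : π b ∈ Bb := hb.2
    have h1 : Commute (π b) (π x₀) := Subgroup.mem_centralizer_iff.1 hxbC _ hbB
    have h2 : Commute (π b) (π a₁) := by
      show π b * π a₁ = π a₁ * π b
      rw [← map_mul, ← map_mul, hAsc b hb.1 a₁ ha₁]
    have hcy : Commute (π b) (π y) := by
      rw [hπy]
      exact h1.inv_right.mul_right ((h2.mul_right h1).mul_right h2.inv_right)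
    rw [← hker, map_mul, map_mul, map_mul, map_inv, map_inv, ← hcy.eq]
    group
  have hyB' : ∀ b ∈ B, y⁻¹ * b * y * b⁻¹ ∈ H := by
    intro b hb
    have e : y⁻¹ * b * y * b⁻¹ = y⁻¹ * (y * b * y⁻¹ * b⁻¹)⁻¹ * y⁻¹⁻¹ := by group
    rw [e]
    exact hHn.conj_mem _ (H.inv_mem (hyB b hb)) _
  have hnormV₁ : ∀ g : G, (∀ b ∈ B, g⁻¹ * b * g * b⁻¹ ∈ H) → ∀ v ∈ V₁, g * v * g⁻¹ ∈ V₁ := by
    intro g hg v hv
    rw [hV₁] at hv ⊢
    refine ⟨hVn.conj_mem v hv.1 g, Subgroup.mem_centralizer_iff.2 ?_⟩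
    intro b hb
    have hbv : b * v = v * b := Subgroup.mem_centralizer_iff.1 hv.2 b hb
    have hhv := hHV _ (hg b hb) v hv.1
    calc b * (g * v * g⁻¹) = g * ((g⁻¹ * b * g * b⁻¹) * (b * v)) * g⁻¹ := by group
      _ = g * ((g⁻¹ * b * g * b⁻¹) * (v * b)) * g⁻¹ := by rw [hbv]
      _ = g * (((g⁻¹ * b * g * b⁻¹) * v) * b) * g⁻¹ := by group
      _ = g * ((v * (g⁻¹ * b * g * b⁻¹)) * b) * g⁻¹ := by rw [hhv]
      _ = (g * v * g⁻¹) * b := by group
  have hyV₁ : ∀ v ∈ V₁, y * v * y⁻¹ ∈ V₁ := hnormV₁ y hyB'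
  have hyV₁' : ∀ v ∈ V₁, y⁻¹ * v * y ∈ V₁ := by
    intro v hv
    have := hnormV₁ y⁻¹ (fun b hb => by rw [inv_inv]; exact hyB b hb) v hv
    rw [inv_inv] at this
    exact this
  have haV₁ : ∀ v ∈ V₁, a₁ * v * a₁⁻¹ ∈ V₁ := by
    apply hnormV₁ a₁
    intro b hb
    have h1 : a₁⁻¹ * b * a₁ * b⁻¹ = 1 := by
      have := hAsc b (hBAs hb) a₁ ha₁
      calc a₁⁻¹ * b * a₁ * b⁻¹ = a₁⁻¹ * (b * a₁) * b⁻¹ := by group
        _ = a₁⁻¹ * (a₁ * b) * b⁻¹ := by rw [this]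
        _ = 1 := by group
    rw [h1]; exact H.one_mem
  have hym : y ^ m ∈ H := hKm y hyK
  -- powers of `y`: coprimality trick
  have hodd : ∀ v ∈ V, Commute (y ^ 2) v → Commute y v := by
    intro v hv h2
    exact commute_of_coprime_pows hm2 h2 (hHV _ hym v hv)
  -- `y` acts nontrivially on `V₁`
  have hV2 : IsPGroup 2 V := hHp.to_le hVH
  have hB2 : IsPGroup 2 B := P.2.to_le (hBAs.trans hAsP)
  obtain ⟨v₀, hv₀, hv₀y⟩ : ∃ v ∈ V₁, y * v * y⁻¹ ≠ v := by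
    by_contra hcon
    push Not at hcon
    apply hyH
    rw [← hCV]
    exact AxB_mod V hVc hV2 B hB2 y m hm (by rw [hCV]; exact hym)
      (fun b hb => by rw [hCV]; exact hyB b hb) (fun v hv => hcon v (by rw [hV₁]; exact hv))
  -- the commutator homomorphism on `V₁`
  obtain ⟨δ, hδ⟩ : ∃ δ : ↥V₁ →* ↥V₁, ∀ v : ↥V₁, ((δ v : ↥V₁) : G) = (v : G)⁻¹ * (y * v * y⁻¹) := by
    refine ⟨MonoidHom.mk' (fun v => ⟨(v : G)⁻¹ * (y * v * y⁻¹),
      V₁.mul_mem (V₁.inv_mem v.2) (hyV₁ v v.2)⟩) ?_, fun v => rfl⟩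
    intro v v'
    apply Subtype.ext
    have hvV := hV₁V v.2
    have hv'V := hV₁V v'.2
    have h1 : (y * (v : G) * y⁻¹) * (v' : G)⁻¹ = (v' : G)⁻¹ * (y * v * y⁻¹) :=
      hVc _ (hVn.conj_mem _ hvV y) _ (V.inv_mem hv'V)
    have h2 : (v : G)⁻¹ * (v' : G)⁻¹ = (v' : G)⁻¹ * (v : G)⁻¹ :=
      hVc _ (V.inv_mem hvV) _ (V.inv_mem hv'V)
    change ((v : G) * (v' : G))⁻¹ * (y * ((v : G) * (v' : G)) * y⁻¹) =
      (v : G)⁻¹ * (y * v * y⁻¹) * ((v' : G)⁻¹ * (y * v' * y⁻¹))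
    symm
    calc (v : G)⁻¹ * (y * v * y⁻¹) * ((v' : G)⁻¹ * (y * v' * y⁻¹))
        = (v : G)⁻¹ * ((y * v * y⁻¹) * (v' : G)⁻¹) * (y * v' * y⁻¹) := by group
      _ = (v : G)⁻¹ * ((v' : G)⁻¹ * (y * v * y⁻¹)) * (y * v' * y⁻¹) := by rw [h1]
      _ = ((v : G)⁻¹ * (v' : G)⁻¹) * (y * ((v : G) * v') * y⁻¹) := by group
      _ = ((v' : G)⁻¹ * (v : G)⁻¹) * (y * ((v : G) * v') * y⁻¹) := by rw [h2]
      _ = ((v : G) * (v' : G))⁻¹ * (y * ((v : G) * (v' : G)) * y⁻¹) := by group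
  obtain ⟨W, hW⟩ : ∃ W : Subgroup G, W = δ.range.map V₁.subtype := ⟨_, rfl⟩
  have hWmem : ∀ w, w ∈ W ↔ ∃ v ∈ V₁, w = v⁻¹ * (y * v * y⁻¹) := by
    intro w
    rw [hW]
    constructor
    · rintro ⟨_, ⟨v, rfl⟩, rfl⟩
      exact ⟨v, v.2, hδ v⟩
    · rintro ⟨v, hv, rfl⟩
      exact ⟨δ ⟨v, hv⟩, ⟨⟨v, hv⟩, rfl⟩, hδ ⟨v, hv⟩⟩
  have hWV₁ : W ≤ V₁ := by rw [hW]; exact Subgroup.map_subtype_le _
  have hWV : W ≤ V := hWV₁.trans hV₁V
  have hcardW : Nat.card W = Nat.card δ.range := by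
    rw [hW]; exact Subgroup.card_map_of_injective V₁.subtype_injective
  have hkermem : ∀ v : ↥V₁, v ∈ δ.ker ↔ y * (v : G) * y⁻¹ = v := by
    intro v
    rw [MonoidHom.mem_ker]
    constructor
    · intro h
      have h1 := congrArg Subtype.val h
      rw [hδ, Subgroup.coe_one] at h1
      calc y * (v : G) * y⁻¹ = v * ((v : G)⁻¹ * (y * v * y⁻¹)) := by group
        _ = v := by rw [h1, mul_one]
    · intro h
      apply Subtype.ext
      rw [hδ, Subgroup.coe_one, h, inv_mul_cancel]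
  -- fixed points of `y` on `W` are trivial
  have hfpf : ∀ w ∈ W, y * w * y⁻¹ = w → w = 1 := by
    intro w hw hyw
    obtain ⟨v, hv, hwv⟩ := (hWmem w).1 hw
    have hpow := conj_pow_of_fixed_comm hwv hyw
    have hwm : w ^ m = 1 := by
      have h2 := hpow m
      have h3 := hHV _ hym v (hV₁V hv)
      have h4 : y ^ m * v * (y ^ m)⁻¹ = v := by rw [h3]; group
      rw [h4] at h2
      have : v * w ^ m = v * 1 := by rw [mul_one]; exact h2.symm
      exact mul_left_cancel this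
    have hw2 : w ^ 2 = 1 := hVp w (hWV hw)
    have hd1 : orderOf w ∣ m := orderOf_dvd_of_pow_eq_one hwm
    have hd2 : orderOf w ∣ 2 := orderOf_dvd_of_pow_eq_one hw2
    have : orderOf w = 1 := Nat.eq_one_of_dvd_coprimes hm2.symm hd1 hd2
    exact orderOf_eq_one_iff.1 this
  -- `|V₁| ≤ 4 |ker δ|`
  have hker4 : Nat.card V₁ ≤ 4 * Nat.card δ.ker := by
    obtain ⟨F₁, hF₁⟩ : ∃ F₁ : Subgroup G,
        F₁ = V₁ ⊓ Subgroup.centralizer ({a₁} : Set G) := ⟨_, rfl⟩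
    have hV₂F₁ : V₂ ≤ F₁ := by
      rw [hV₂, hF₁]
      intro v hv
      refine ⟨?_, ?_⟩
      · rw [hV₁]
        exact ⟨hv.1, Subgroup.centralizer_le (SetLike.coe_subset_coe.2 hBAs) hv.2⟩
      · exact Subgroup.centralizer_le (Set.singleton_subset_iff.2 ha₁) hv.2
    obtain ⟨F₂, hF₂⟩ : ∃ F₂ : Subgroup G, F₂ = F₁.map (MulAut.conj y).toMonoidHom := ⟨_, rfl⟩
    have hF₁V₁ : F₁ ≤ V₁ := by rw [hF₁]; exact inf_le_left
    have hF₂V₁ : F₂ ≤ V₁ := by
      rw [hF₂]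
      rintro _ ⟨v, hv, rfl⟩
      exact hyV₁ v (hF₁V₁ hv)
    have hcF₂ : Nat.card F₂ = Nat.card F₁ := by rw [hF₂]; exact Helper5.card_conj F₁ y
    have h1 := Helper3.card_mul_card_le_sup_mul_inf F₁ F₂
    have h2 : Nat.card ↥(F₁ ⊔ F₂) ≤ Nat.card V₁ := Subgroup.card_le_of_le (sup_le hF₁V₁ hF₂V₁)
    have h3 : Nat.card V₁ ≤ 2 * Nat.card F₁ :=
      hV₁V₂.trans (Nat.mul_le_mul_left _ (Subgroup.card_le_of_le hV₂F₁))
    have hFker : Nat.card ↥(F₁ ⊓ F₂) ≤ Nat.card δ.ker := by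
      have hle : (F₁ ⊓ F₂).subgroupOf V₁ ≤ δ.ker := by
        intro v hv
        rw [Subgroup.mem_subgroupOf] at hv
        rw [hkermem]
        obtain ⟨hv1, hv2⟩ := hv
        rw [hF₁] at hv1
        have ha₁v : a₁ * (v : G) = v * a₁ :=
          Subgroup.mem_centralizer_iff.1 hv1.2 a₁ (Set.mem_singleton _)
        rw [hF₂] at hv2
        obtain ⟨v', hv', hv'v⟩ := hv2
        have hv'v' : y * v' * y⁻¹ = (v : G) := hv'v
        rw [hF₁] at hv'
        have ha₁v' : a₁ * v' = v' * a₁ :=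
          Subgroup.mem_centralizer_iff.1 hv'.2 a₁ (Set.mem_singleton _)
        have hvV : (v : G) ∈ V := hV₁V v.2
        -- `g = (y a₁ y⁻¹) a₁⁻¹` centralizes `v`
        have hg : (y * a₁ * y⁻¹ * a₁⁻¹) * (v : G) = v * (y * a₁ * y⁻¹ * a₁⁻¹) := by
          have e1 : a₁⁻¹ * (v : G) = v * a₁⁻¹ := by
            calc a₁⁻¹ * (v : G) = a₁⁻¹ * (v * a₁) * a₁⁻¹ := by group
              _ = a₁⁻¹ * (a₁ * v) * a₁⁻¹ := by rw [ha₁v]
              _ = v * a₁⁻¹ := by group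
          have e2 : (y * a₁ * y⁻¹) * (v : G) = v * (y * a₁ * y⁻¹) := by
            rw [← hv'v']
            calc y * a₁ * y⁻¹ * (y * v' * y⁻¹) = y * (a₁ * v') * y⁻¹ := by group
              _ = y * (v' * a₁) * y⁻¹ := by rw [ha₁v']
              _ = y * v' * y⁻¹ * (y * a₁ * y⁻¹) := by group
          calc (y * a₁ * y⁻¹ * a₁⁻¹) * (v : G) = (y * a₁ * y⁻¹) * (a₁⁻¹ * v) := by group
            _ = (y * a₁ * y⁻¹) * (v * a₁⁻¹) := by rw [e1]
            _ = ((y * a₁ * y⁻¹) * v) * a₁⁻¹ := by group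
            _ = (v * (y * a₁ * y⁻¹)) * a₁⁻¹ := by rw [e2]
            _ = v * (y * a₁ * y⁻¹ * a₁⁻¹) := by group
        have hh := hHV _ hinv (v : G) hvV
        have h2c : Commute (y ^ 2) (v : G) := by
          have e : y ^ 2 = (y * a₁ * y⁻¹ * a₁⁻¹) * (a₁ * y * a₁⁻¹ * y) := by
            rw [pow_two]; group
          rw [e]
          exact Commute.mul_left hg hh
        have hc := hodd (v : G) hvV h2c
        calc y * (v : G) * y⁻¹ = (v : G) * y * y⁻¹ := by rw [hc.eq]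
          _ = v := by group
      calc Nat.card ↥(F₁ ⊓ F₂) = Nat.card ↥((F₁ ⊓ F₂).subgroupOf V₁) :=
            (Nat.card_congr (Subgroup.subgroupOfEquivOfLe
              (inf_le_left.trans hF₁V₁)).toEquiv).symm
        _ ≤ Nat.card δ.ker := Subgroup.card_le_of_le hle
    have hpos : 0 < Nat.card V₁ := Nat.card_pos
    have h5 : Nat.card V₁ * Nat.card V₁ ≤ Nat.card V₁ * (4 * Nat.card δ.ker) := by
      have h6 : Nat.card F₁ * Nat.card F₁ ≤ Nat.card V₁ * Nat.card δ.ker := by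
        calc Nat.card F₁ * Nat.card F₁ = Nat.card F₁ * Nat.card F₂ := by rw [hcF₂]
          _ ≤ Nat.card ↥(F₁ ⊔ F₂) * Nat.card ↥(F₁ ⊓ F₂) := h1
          _ ≤ Nat.card V₁ * Nat.card δ.ker := Nat.mul_le_mul h2 hFker
      calc Nat.card V₁ * Nat.card V₁ ≤ (2 * Nat.card F₁) * (2 * Nat.card F₁) :=
            Nat.mul_le_mul h3 h3
        _ = 4 * (Nat.card F₁ * Nat.card F₁) := by ring
        _ ≤ 4 * (Nat.card V₁ * Nat.card δ.ker) := Nat.mul_le_mul_left _ h6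
        _ = Nat.card V₁ * (4 * Nat.card δ.ker) := by ring
    exact Nat.le_of_mul_le_mul_left h5 hpos
  have hcardW4 : Nat.card W ≤ 4 := by
    have h1 : Nat.card δ.ker * Nat.card δ.range = Nat.card V₁ := by
      rw [← Subgroup.index_ker]; exact Subgroup.card_mul_index δ.ker
    have hpos : 0 < Nat.card δ.ker := Nat.card_pos
    rw [hcardW]
    have h2 : Nat.card δ.ker * Nat.card δ.range ≤ Nat.card δ.ker * 4 := by
      rw [h1, mul_comm]; exact hker4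
    exact Nat.le_of_mul_le_mul_left h2 hpos
  -- `W` is invariant under `y` and `a₁`
  have hyW : ∀ w ∈ W, y * w * y⁻¹ ∈ W := by
    intro w hw
    obtain ⟨v, hv, rfl⟩ := (hWmem w).1 hw
    rw [hWmem]
    exact ⟨y * v * y⁻¹, hyV₁ v hv, by group⟩
  have haW : ∀ w ∈ W, a₁ * w * a₁⁻¹ ∈ W := by
    intro w hw
    obtain ⟨v, hv, rfl⟩ := (hWmem w).1 hw
    obtain ⟨v', hv'⟩ : ∃ v', v' = a₁ * v * a₁⁻¹ := ⟨_, rfl⟩
    have hv'V₁ : v' ∈ V₁ := by rw [hv']; exact haV₁ v hv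
    have hu : y⁻¹ * v' * y ∈ V₁ := hyV₁' v' hv'V₁
    have hh := hHV _ hinv (y⁻¹ * v' * y) (hV₁V hu)
    have e : a₁ * (v⁻¹ * (y * v * y⁻¹)) * a₁⁻¹ =
        ((y⁻¹ * v' * y)⁻¹ * (y * (y⁻¹ * v' * y) * y⁻¹))⁻¹ := by
      calc a₁ * (v⁻¹ * (y * v * y⁻¹)) * a₁⁻¹
          = (a₁ * v * a₁⁻¹)⁻¹ * (((a₁ * y * a₁⁻¹ * y) * (y⁻¹ * (a₁ * v * a₁⁻¹) * y)) *
              (a₁ * y * a₁⁻¹ * y)⁻¹) := by group
        _ = v'⁻¹ * (((a₁ * y * a₁⁻¹ * y) * (y⁻¹ * v' * y)) * (a₁ * y * a₁⁻¹ * y)⁻¹) := by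
            rw [← hv']
        _ = v'⁻¹ * (((y⁻¹ * v' * y) * (a₁ * y * a₁⁻¹ * y)) * (a₁ * y * a₁⁻¹ * y)⁻¹) := by
            rw [hh]
        _ = ((y⁻¹ * v' * y)⁻¹ * (y * (y⁻¹ * v' * y) * y⁻¹))⁻¹ := by group
    rw [e]
    exact W.inv_mem ((hWmem _).2 ⟨_, hu, rfl⟩)
  have hyNW : y ∈ Subgroup.normalizer (W : Set G) := by
    apply Helper5.mem_normalizer_of_conj_le
    rintro _ ⟨w, hw, rfl⟩
    exact hyW w hw
  have haNW : a₁ ∈ Subgroup.normalizer (W : Set G) := by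
    apply Helper5.mem_normalizer_of_conj_le
    rintro _ ⟨w, hw, rfl⟩
    exact haW w hw
  have hHCW : H ≤ Subgroup.centralizer (W : Set G) := by
    intro h hh
    rw [Subgroup.mem_centralizer_iff]
    intro w hw
    exact (hHV h hh w (hWV hw)).symm
  -- `|W| = 4`
  obtain ⟨w₀, hw₀W, hw₀1⟩ : ∃ w ∈ W, w ≠ 1 := by
    refine ⟨v₀⁻¹ * (y * v₀ * y⁻¹), (hWmem _).2 ⟨v₀, hv₀, rfl⟩, ?_⟩
    intro h
    apply hv₀y
    calc y * v₀ * y⁻¹ = v₀ * (v₀⁻¹ * (y * v₀ * y⁻¹)) := by group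
      _ = v₀ := by rw [h, mul_one]
  have hconj1 : ∀ w : G, w ≠ 1 → y * w * y⁻¹ ≠ 1 := by
    intro w hw h
    apply hw
    calc w = y⁻¹ * (y * w * y⁻¹) * y := by group
      _ = 1 := by rw [h]; group
  have hy2fix : ∀ w ∈ W, y * (y * w * y⁻¹) * y⁻¹ = w → w = 1 := by
    intro w hw h
    apply hfpf w hw
    have h2c : Commute (y ^ 2) w := by
      show y ^ 2 * w = w * y ^ 2
      calc y ^ 2 * w = (y * (y * w * y⁻¹) * y⁻¹) * y ^ 2 := by rw [pow_two]; group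
        _ = w * y ^ 2 := by rw [h]
    have hc := hodd w (hWV hw) h2c
    calc y * w * y⁻¹ = w * y * y⁻¹ := by rw [hc.eq]
      _ = w := by group
  have hW4 : Nat.card W = 4 := by
    have h3le : 3 ≤ Nat.card W := by
      have hne1 : (1 : G) ≠ w₀ := fun h => hw₀1 h.symm
      have hne2 : (1 : G) ≠ y * w₀ * y⁻¹ := fun h => hconj1 w₀ hw₀1 h.symm
      have hne3 : w₀ ≠ y * w₀ * y⁻¹ := fun h => hw₀1 (hfpf w₀ hw₀W h.symm)
      have hS3 : ({1, w₀, y * w₀ * y⁻¹} : Set G).ncard = 3 :=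
        Set.ncard_eq_three.2 ⟨1, w₀, y * w₀ * y⁻¹, hne1, hne2, hne3, rfl⟩
      have hsub : ({1, w₀, y * w₀ * y⁻¹} : Set G) ⊆ (W : Set G) := by
        intro x hx
        rcases hx with rfl | rfl | rfl
        · exact W.one_mem
        · exact hw₀W
        · exact hyW _ hw₀W
      calc 3 = ({1, w₀, y * w₀ * y⁻¹} : Set G).ncard := hS3.symm
        _ ≤ (W : Set G).ncard := Set.ncard_le_ncard hsub (Set.toFinite _)
        _ = Nat.card W := (Nat.card_coe_set_eq (W : Set G)).symm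
    obtain ⟨j, hj⟩ := IsPGroup.iff_card.1 (hV2.to_le hWV)
    rw [hj] at h3le hcardW4 ⊢
    have hj3 : j < 3 := by
      by_contra h
      have : 2 ^ 3 ≤ 2 ^ j := Nat.pow_le_pow_right (by norm_num) (by omega)
      omega
    have hj2 : 2 ≤ j := by
      by_contra h
      have : 2 ^ j ≤ 2 ^ 1 := Nat.pow_le_pow_right (by norm_num) (by omega)
      omega
    have : j = 2 := by omega
    rw [this]; norm_num
  -- `y ^ 3` acts trivially on `W`
  have hy3 : ∀ w ∈ W, y ^ 3 * w * (y ^ 3)⁻¹ = w := by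
    intro w hw
    by_cases hw1 : w = 1
    · rw [hw1]; group
    obtain ⟨w₁, hw₁⟩ : ∃ w₁, w₁ = y * w * y⁻¹ := ⟨_, rfl⟩
    obtain ⟨w₂, hw₂⟩ : ∃ w₂, w₂ = y * w₁ * y⁻¹ := ⟨_, rfl⟩
    obtain ⟨w₃, hw₃⟩ : ∃ w₃, w₃ = y * w₂ * y⁻¹ := ⟨_, rfl⟩
    have hw₁W : w₁ ∈ W := by rw [hw₁]; exact hyW w hw
    have hw₂W : w₂ ∈ W := by rw [hw₂]; exact hyW w₁ hw₁W
    have hw₃W : w₃ ∈ W := by rw [hw₃]; exact hyW w₂ hw₂W
    have hw₁1 : w₁ ≠ 1 := by rw [hw₁]; exact hconj1 w hw1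
    have hw₂1 : w₂ ≠ 1 := by rw [hw₂]; exact hconj1 w₁ hw₁1
    have hw₃1 : w₃ ≠ 1 := by rw [hw₃]; exact hconj1 w₂ hw₂1
    have h01 : w ≠ w₁ := fun h => hw1 (hfpf w hw (by rw [← hw₁]; exact h.symm))
    have h12 : w₁ ≠ w₂ := fun h => hw₁1 (hfpf w₁ hw₁W (by rw [← hw₂]; exact h.symm))
    have h23 : w₂ ≠ w₃ := fun h => hw₂1 (hfpf w₂ hw₂W (by rw [← hw₃]; exact h.symm))
    have h02 : w ≠ w₂ := fun h => hw1 (hy2fix w hw (by rw [← hw₁, ← hw₂]; exact h.symm))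
    have h13 : w₁ ≠ w₃ := fun h => hw₁1 (hy2fix w₁ hw₁W (by rw [← hw₂, ← hw₃]; exact h.symm))
    have hS3 : ({w, w₁, w₂} : Set G).ncard = 3 :=
      Set.ncard_eq_three.2 ⟨w, w₁, w₂, h01, h02, h12, rfl⟩
    have hnot1 : (1 : G) ∉ ({w, w₁, w₂} : Set G) := by
      intro h
      rcases h with h | h | h
      · exact hw1 h.symm
      · exact hw₁1 h.symm
      · exact hw₂1 h.symm
    have hS4 : (insert (1 : G) ({w, w₁, w₂} : Set G)).ncard = 4 := by
      rw [Set.ncard_insert_of_notMem hnot1 (Set.toFinite _), hS3]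
    have hsub : insert (1 : G) ({w, w₁, w₂} : Set G) ⊆ (W : Set G) := by
      intro x hx
      rcases hx with rfl | rfl | rfl | rfl
      · exact W.one_mem
      · exact hw
      · exact hw₁W
      · exact hw₂W
    have hWeq : insert (1 : G) ({w, w₁, w₂} : Set G) = (W : Set G) := by
      apply Set.eq_of_subset_of_ncard_le hsub _ (Set.toFinite _)
      rw [hS4, ← Nat.card_coe_set_eq]
      exact hW4.le
    have hw₃S : w₃ ∈ insert (1 : G) ({w, w₁, w₂} : Set G) := by rw [hWeq]; exact hw₃W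
    have hw₃w : w₃ = w := by
      rcases hw₃S with h | h | h | h
      · exact absurd h hw₃1
      · exact h
      · exact absurd h.symm h13
      · exact absurd h.symm h23
    calc y ^ 3 * w * (y ^ 3)⁻¹ = y * (y * (y * w * y⁻¹) * y⁻¹) * y⁻¹ := by
          rw [pow_succ, pow_two]; group
      _ = w₃ := by rw [← hw₁, ← hw₂, ← hw₃]
      _ = w := hw₃w
  -- the `3`-element `t`
  have hord : orderOf y ≠ 0 := (orderOf_pos y).ne'
  obtain ⟨e, c, hc3, hoc⟩ := Nat.exists_eq_pow_mul_and_not_dvd hord 3 (by norm_num)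
  obtain ⟨t, ht⟩ : ∃ t, t = y ^ c := ⟨_, rfl⟩
  have ht3 : t ^ 3 ^ e = 1 := by
    rw [ht, ← pow_mul, mul_comm, ← hoc]; exact pow_orderOf_eq_one y
  have htNW : t ∈ Subgroup.normalizer (W : Set G) := by
    rw [ht]; exact Subgroup.pow_mem _ hyNW c
  have hc3' : Nat.Coprime c 3 :=
    ((Nat.Prime.coprime_iff_not_dvd Nat.prime_three).2 hc3).symm
  have htfpf : ∀ w ∈ W, t * w * t⁻¹ = w → w = 1 := by
    intro w hw h
    apply hfpf w hw
    have h1 : Commute (y ^ c) w := by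
      show y ^ c * w = w * y ^ c
      rw [← ht]
      calc t * w = (t * w * t⁻¹) * t := by group
        _ = w * t := by rw [h]
    have h2 : Commute (y ^ 3) w := by
      show y ^ 3 * w = w * y ^ 3
      calc y ^ 3 * w = (y ^ 3 * w * (y ^ 3)⁻¹) * y ^ 3 := by group
        _ = w * y ^ 3 := by rw [hy3 w hw]
    have hc := commute_of_coprime_pows hc3' h1 h2
    calc y * w * y⁻¹ = w * y * y⁻¹ := by rw [hc.eq]
      _ = w := by group
  -- `a₁` inverts `t` modulo `H`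
  have hinvt : a₁ * t * a₁⁻¹ * t ∈ H := by
    rw [← hker, map_mul, map_mul, map_mul, map_inv, ht, map_pow, ← conj_pow]
    have h1 : π a₁ * π y * (π a₁)⁻¹ = (π y)⁻¹ := by
      have := (hker _).2 hinv
      rw [map_mul, map_mul, map_mul, map_inv] at this
      exact eq_inv_of_mul_eq_one_left this
    rw [h1, inv_pow, inv_mul_cancel]
  obtain ⟨T, hT⟩ : ∃ T : Subgroup G, T = Subgroup.zpowers t := ⟨_, rfl⟩
  have htT : t ∈ T := by rw [hT]; exact Subgroup.mem_zpowers t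
  have hT3 : IsPGroup 3 T := by
    have h1 : Nat.card T = orderOf t := by rw [hT]; exact Nat.card_zpowers t
    obtain ⟨i, -, hi⟩ := (Nat.dvd_prime_pow Nat.prime_three).1 (orderOf_dvd_of_pow_eq_one ht3)
    exact IsPGroup.of_card (by rw [h1, hi])
  have hH3 : (Nat.card H).Coprime 3 := by
    obtain ⟨k, hk⟩ := IsPGroup.iff_card.1 hHp
    rw [hk]; exact Nat.Coprime.pow_left k (by decide)
  have hRle : T.map (MulAut.conj a₁).toMonoidHom ≤ T ⊔ H := by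
    rw [hT, MonoidHom.map_zpowers, Subgroup.zpowers_le]
    have e1 : (MulAut.conj a₁).toMonoidHom t = (a₁ * t * a₁⁻¹ * t) * t⁻¹ := by
      change a₁ * t * a₁⁻¹ = (a₁ * t * a₁⁻¹ * t) * t⁻¹
      group
    rw [e1]
    exact Subgroup.mul_mem _ (Subgroup.mem_sup_right hinvt)
      (Subgroup.mem_sup_left (Subgroup.inv_mem _ (Subgroup.mem_zpowers t)))
  obtain ⟨o, hoH, hoR⟩ := Helper3.exists_conj_eq_of_le_sup_pprime 3 T H
    (T.map (MulAut.conj a₁).toMonoidHom) hH3 hT3 (hT3.map _) hRle (Helper5.card_conj T a₁)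
  obtain ⟨a', ha'⟩ : ∃ a', a' = o⁻¹ * a₁ := ⟨_, rfl⟩
  have ha'T : a' ∈ Subgroup.normalizer (T : Set G) := by
    rw [Helper5.mem_normalizer_iff_conj_eq, ha', ← Helper5.conj_conj, hoR, Helper5.conj_conj,
      inv_mul_cancel, Helper5.conj_one]
  have ha'W : a' ∈ Subgroup.normalizer (W : Set G) := by
    rw [ha']
    exact Subgroup.mul_mem _
      (Subgroup.centralizer_le_normalizer _ (hHCW (H.inv_mem hoH))) haNW
  have hnc : a' * t * a'⁻¹ * t⁻¹ ∉ Subgroup.centralizer (W : Set G) := by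
    intro hcon
    have h1 : (a' * t * a'⁻¹ * t⁻¹) * (t * t) ∈ H := by
      rw [← hker, ha']
      have ho1 : π o = 1 := (hker o).2 hoH
      have h2 : π a₁ * π t * (π a₁)⁻¹ * π t = 1 := by
        have := (hker _).2 hinvt
        rw [map_mul, map_mul, map_mul, map_inv] at this
        exact this
      simp only [map_mul, map_inv, ho1, inv_one, one_mul]
      calc π a₁ * π t * (π a₁)⁻¹ * (π t)⁻¹ * (π t * π t)
          = π a₁ * π t * (π a₁)⁻¹ * π t := by group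
        _ = 1 := h2
    have h2 : t * t ∈ Subgroup.centralizer (W : Set G) := by
      have e : t * t = (a' * t * a'⁻¹ * t⁻¹)⁻¹ * ((a' * t * a'⁻¹ * t⁻¹) * (t * t)) := by group
      rw [e]
      exact Subgroup.mul_mem _ (Subgroup.inv_mem _ hcon) (hHCW h1)
    apply hw₀1
    apply htfpf w₀ hw₀W
    have h3 : Commute (t ^ 2) w₀ := by
      show t ^ 2 * w₀ = w₀ * t ^ 2
      rw [pow_two]
      exact (Subgroup.mem_centralizer_iff.1 h2 w₀ hw₀W).symm
    have h4 : Commute (t ^ 3 ^ e) w₀ := by rw [ht3]; exact Commute.one_left w₀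
    have hcop : Nat.Coprime 2 (3 ^ e) := Nat.Coprime.pow_right e (by decide)
    have hc := commute_of_coprime_pows hcop h3 h4
    calc t * w₀ * t⁻¹ = w₀ * t * t⁻¹ := by rw [hc.eq]
      _ = w₀ := by group
  rw [hT] at ha'T
  exact hS4 (involves_S4_core W hW4 t a' e ht3 htNW ha'W ha'T htfpf hnc)


theorem thompsonSubgroupAOf_eq_JJ (P : Subgroup G) :
    Cfsg.thompsonSubgroupAOf P = ZJ.JJ 0 P := by
  rw [← ZJ.thompsonOf_eq_JJ]
  unfold Cfsg.thompsonSubgroupAOf Cfsg.thompsonSubgroupA Cfsg.thompsonSubgroupOf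
    Cfsg.thompsonSubgroup
  rw [ZJ.maxAb_eq]

/-- **Thompson's normal `p`-complement theorem** for all primes (`S₄`-free when `p = 2`). -/
theorem thompson_all {p : ℕ} [Fact p.Prime] (n : ℕ) (hn : n = 0 ∨ n = p)
    (G : Type u) [Group G] [Finite G] (P : Sylow p G) (h : ThompHyp p n G P) :
    Cfsg.HasNormalPComplement p G :=
  generic (ThompHyp p n) (thomp_I1 n hn) (thomp_I2 n hn) (thomp_I3 n)
    (fun G _ _ P hΦ hS => by
      by_cases hp2 : p = 2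
      · rcases hΦ.2.2 with h | h
        · exact absurd hp2 h
        · exact thomp_end_two hp2 n hn G P hΦ hS h
      · exact thomp_end_odd hp2 n hn G P hΦ hS) G P h

end Cfsg.Agent.Helper3.PN
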