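import Mathlib
import Cfsg.Prelude
import Cfsg.Agent.Helper3.SNC2
import Cfsg.Agent.Helper4.FratFaithful
import Cfsg.Agent.S0649
import Cfsg.Agent.Helper3.SylFix

set_option autoImplicit false

/-! # Normality of the stable normal closure in action-`p`-stable groups -/

namespace Cfsg.Agent.Helper3.SNC

open Cfsg.Agent.Helper3.PN Cfsg.Agent.Helper3.FN

open scoped commutatorElement

universe u

variable {G : Type u} [Group G]

/-- Thompson replacement for an elementary abelian normal subgroup `B` (all primes). -/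
theorem repl_ab [Finite G] {p : ℕ} [Fact p.Prime] (S B : Subgroup G)
    (hS : IsPGroup p S) (hBS : B ≤ S) (hSB : S ≤ Subgroup.normalizer (B : Set G))
    (hBe : Cfsg.IsElementaryAbelian p B)
    {A : Subgroup G} (hA : A ∈ ZJ.AA p S)
    (hnot : ¬ B ≤ Subgroup.normalizer (A : Set G)) :
    ∃ A' ∈ ZJ.AA p S, A ⊓ B < A' ⊓ B ∧ A' ≤ Subgroup.normalizer (A : Set G) := by
  classical
  have hBc := elemAb_comm' hBe
  have hA0c : IsMulCommutative ↥(A.subgroupOf S) := ⟨⟨fun x y => by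
      apply Subtype.ext
      apply Subtype.ext
      exact elemAb_comm' hA.2.1 x.1.1 x.2 y.1.1 y.2⟩⟩
  have hB0c : IsMulCommutative ↥(B.subgroupOf S) := ⟨⟨fun x y => by
      apply Subtype.ext
      apply Subtype.ext
      exact hBc x.1.1 x.2 y.1.1 y.2⟩⟩
  haveI hB0n : (B.subgroupOf S).Normal :=
    (Subgroup.normal_subgroupOf_iff_le_normalizer hBS).2 hSB
  have hder : ⁅B.subgroupOf S, B.subgroupOf S⁆ ≤ A.subgroupOf S := by
    rw [Subgroup.commutator_le]
    intro g₁ hg₁ g₂ hg₂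
    have e : ⁅(g₁ : G), (g₂ : G)⁆ = 1 := commutatorElement_eq_one_iff_mul_comm.2 (hBc _ hg₁ _ hg₂)
    have h1 : ⁅(g₁ : G), (g₂ : G)⁆ ∈ A := by
      rw [e]
      exact A.one_mem
    exact h1
  have hnot0 : ¬ B.subgroupOf S ≤
      Subgroup.normalizer ((A.subgroupOf S : Subgroup ↥S) : Set ↥S) := by
    intro hle
    apply hnot
    apply le_normalizer_of_conj_mem
    intro b hb a ha
    have h1 := hle (show (⟨b, hBS hb⟩ : ↥S) ∈ B.subgroupOf S from hb)
    exact (Subgroup.mem_normalizer_iff.1 h1 ⟨a, hA.1 ha⟩).1 ha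
  obtain ⟨b, hb, hbN, hbA⟩ := S0649.result hS (B.subgroupOf S) (fun _ => hB0c)
    (A.subgroupOf S) hA0c hder hnot0
  have h : GR.Hyp (A.subgroupOf S) (B.subgroupOf S) b :=
    ⟨fun x hx y hy => by
        apply Subtype.ext
        exact elemAb_comm' hA.2.1 x.1 hx y.1 hy, hB0n, hder, hb, hbN⟩
  have hB0comm : ∀ x ∈ B.subgroupOf S, ∀ y ∈ B.subgroupOf S, x * y = y * x :=
    fun x hx y hy => Subtype.ext (hBc x.1 hx y.1 hy)
  have hE : Cfsg.IsElementaryAbelian p (GR.star (A.subgroupOf S) b) := by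
    refine elemAb_mk (h.star_comm hS (fun _ => hB0comm)) ?_
    intro x hx
    obtain ⟨d, hd, a, ha, rfl⟩ := h.star_mem hx
    have hc : Commute d (GR.psi b a) := h.D_central hd (h.psi_mem_H ha)
    rw [hc.mul_pow]
    have h1 : d ^ p = 1 := by
      apply Subtype.ext
      rw [SubmonoidClass.coe_pow]
      exact hA.2.1.2 d.1 hd.1
    have h2 : GR.psi b a ^ p = 1 := by
      apply Subtype.ext
      rw [SubmonoidClass.coe_pow]
      exact hBe.2 _ (h.psi_mem_B a)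
    rw [h1, h2, one_mul]
  refine ⟨(GR.star (A.subgroupOf S) b).map S.subtype,
    ⟨Subgroup.map_subtype_le _, elemAb_map hE _, ?_⟩, ?_, ?_⟩
  · intro E hES hEe
    rw [Subgroup.card_map_of_injective S.subtype_injective, h.card_star,
      Nat.card_congr (Subgroup.subgroupOfEquivOfLe hA.1).toEquiv]
    exact hA.2.2 E hES hEe
  · have h1 := h.inf_lt hbA
    have h2 := (Subgroup.map_lt_map_iff_of_injective S.subtype_injective).2 h1
    rw [Subgroup.map_inf _ _ _ S.subtype_injective, Subgroup.map_inf _ _ _ S.subtype_injective,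
      Subgroup.map_subgroupOf_eq_of_le hA.1, Subgroup.map_subgroupOf_eq_of_le hBS] at h2
    exact h2
  · rintro _ ⟨x, hx, rfl⟩
    have h1 := h.star_le_N hx
    apply Helper5.mem_normalizer_of_conj_le
    rintro _ ⟨a, ha, rfl⟩
    exact (Subgroup.mem_normalizer_iff.1 h1 ⟨a, hA.1 ha⟩).1 ha

/-- if `J(S)` does not centralize the elementary abelian normal subgroup `V`, some member of
`𝒜(S)` acts nontrivially on `V` and is normalized by `V`. -/
theorem exists_quad_AA [Finite G] {p : ℕ} [Fact p.Prime] (S V : Subgroup G)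
    (hS : IsPGroup p S) (hVS : V ≤ S) (hSV : S ≤ Subgroup.normalizer (V : Set G))
    (hVe : Cfsg.IsElementaryAbelian p V)
    (hnot : ¬ ZJ.JJ p S ≤ Subgroup.centralizer (V : Set G)) :
    ∃ A ∈ ZJ.AA p S, ¬ A ≤ Subgroup.centralizer (V : Set G) ∧
      V ≤ Subgroup.normalizer (A : Set G) := by
  obtain ⟨T, hT⟩ : ∃ T : Set (Subgroup G),
      T = {A | A ∈ ZJ.AA p S ∧ ¬ A ≤ Subgroup.centralizer (V : Set G)} := ⟨_, rfl⟩
  have hne : T.Nonempty := by
    by_contra hemp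
    apply hnot
    refine sSup_le ?_
    intro A hA
    by_contra hAV
    exact hemp ⟨A, by rw [hT]; exact ⟨hA, hAV⟩⟩
  obtain ⟨A, hAT, hmax⟩ := Set.exists_max_image T (fun A => Nat.card ↥(A ⊓ V)) (Set.toFinite T) hne
  rw [hT] at hAT
  refine ⟨A, hAT.1, hAT.2, ?_⟩
  by_contra hVA
  obtain ⟨A', hA', hlt, hA'N⟩ := repl_ab S V hS hVS hSV hVe hAT.1 hVA
  have hcard : Nat.card ↥(A ⊓ V) < Nat.card ↥(A' ⊓ V) := Helper6.card_lt_of_lt' hlt
  have hA'V : A' ≤ Subgroup.centralizer (V : Set G) := by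
    by_contra hcon
    have h0 : Nat.card ↥(A' ⊓ V) ≤ Nat.card ↥(A ⊓ V) := hmax A' (by rw [hT]; exact ⟨hA', hcon⟩)
    omega
  have h1 : Cfsg.IsElementaryAbelian p (A' ⊔ V) :=
    elemAb_sup hA'.2.1 hVe (Subgroup.le_centralizer_iff.1 hA'V)
  have h2 := hA'.2.2 _ (sup_le hA'.1 hVS) h1
  have h3 : A' = A' ⊔ V := Subgroup.eq_of_le_of_card_ge le_sup_left h2
  have hVA' : V ≤ A' := by rw [h3]; exact le_sup_right
  exact hVA (hVA'.trans hA'N)

theorem quad_elem_conj (B : Subgroup G) [hBn : B.Normal] (a g : G)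
    (h : ∀ v ∈ B, a * (a * v * a⁻¹ * v⁻¹) * a⁻¹ = a * v * a⁻¹ * v⁻¹) :
    ∀ v ∈ B, (g⁻¹ * a * g) * ((g⁻¹ * a * g) * v * (g⁻¹ * a * g)⁻¹ * v⁻¹) * (g⁻¹ * a * g)⁻¹ =
      (g⁻¹ * a * g) * v * (g⁻¹ * a * g)⁻¹ * v⁻¹ := by
  intro v hv
  have e := h (g * v * g⁻¹) (hBn.conj_mem v hv g)
  have e1 : (g⁻¹ * a * g) * ((g⁻¹ * a * g) * v * (g⁻¹ * a * g)⁻¹ * v⁻¹) * (g⁻¹ * a * g)⁻¹ =
      g⁻¹ * (a * (a * (g * v * g⁻¹) * a⁻¹ * (g * v * g⁻¹)⁻¹) * a⁻¹) * g := by group
  rw [e1, e]; group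

theorem act_eq (V : Subgroup G) (x s : G) (hc : s⁻¹ * x ∈ Subgroup.centralizer (V : Set G)) :
    ∀ v ∈ V, x * v * x⁻¹ = s * v * s⁻¹ := by
  intro v hv
  have h1 : v * (s⁻¹ * x) = s⁻¹ * x * v := Subgroup.mem_centralizer_iff.1 hc v hv
  have h2 : x * v * x⁻¹ = s * (s⁻¹ * x * v) * x⁻¹ := by group
  rw [h2, ← h1]; group

theorem quad_elem_of_act_eq (V : Subgroup G) [hVn : V.Normal] (x s : G)
    (hact : ∀ v ∈ V, x * v * x⁻¹ = s * v * s⁻¹)
    (h : ∀ v ∈ V, x * (x * v * x⁻¹ * v⁻¹) * x⁻¹ = x * v * x⁻¹ * v⁻¹) :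
    ∀ v ∈ V, s * (s * v * s⁻¹ * v⁻¹) * s⁻¹ = s * v * s⁻¹ * v⁻¹ := by
  intro v hv
  have hu : x * v * x⁻¹ * v⁻¹ ∈ V := V.mul_mem (hVn.conj_mem v hv x) (V.inv_mem hv)
  have h1 := h v hv
  rw [hact _ hu, hact v hv] at h1
  exact h1

/-- an element of `S` acting quadratically on `W(S)` centralizes it (inside an ambient group). -/
theorem snc_centralized [Finite G] {p : ℕ} [Fact p.Prime] (S : Subgroup G) (s : G) (hs : s ∈ S)
    (h : ∀ v ∈ (Cfsg.stableNormalClosure p ↥S).map S.subtype,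
      s * (s * v * s⁻¹ * v⁻¹) * s⁻¹ = s * v * s⁻¹ * v⁻¹) :
    ∀ v ∈ (Cfsg.stableNormalClosure p ↥S).map S.subtype, s * v = v * s := by
  haveI : (Cfsg.stableNormalClosure p ↥S).Characteristic := snc_char p ↥S
  have hq := quad_of_elem (Cfsg.stableNormalClosure p ↥S) (⟨s, hs⟩ : ↥S) (fun v hv =>
    Subtype.ext (h (v : G) ⟨v, hv, rfl⟩))
  have h2 := Subgroup.commutator_eq_bot_iff_le_centralizer.1 (snc_quad (⟨s, hs⟩ : ↥S) hq)
  rintro _ ⟨v, hv, rfl⟩
  have h3 := Subgroup.mem_centralizer_iff.1 (h2 hv) (⟨s, hs⟩ : ↥S) (Subgroup.mem_zpowers _)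
  exact congrArg Subtype.val h3

theorem sectionKernel_le_fratStab (K N : Subgroup G) [hN : N.Normal] (hKn : K.Normal) :
    Cfsg.sectionKernel K N ≤ Helper4.fratStab K hKn N hN := by
  intro g hg
  rw [Helper4.mem_fratStab]
  intro r hr
  have h1 : (QuotientGroup.mk' N g) ∈ Subgroup.centralizer
      ((K.map (QuotientGroup.mk' N) : Subgroup (G ⧸ N)) : Set (G ⧸ N)) := hg
  have h2 : (r : G ⧸ N) * (g : G ⧸ N) = (g : G ⧸ N) * (r : G ⧸ N) :=
    Subgroup.mem_centralizer_iff.1 h1 (QuotientGroup.mk' N r) ⟨r, hr, rfl⟩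
  apply (QuotientGroup.eq_one_iff _).1
  rw [QuotientGroup.mk_mul, QuotientGroup.mk_mul, QuotientGroup.mk_mul, QuotientGroup.mk_inv,
    QuotientGroup.mk_inv, ← h2]
  group

/-- the inclusion of a Sylow `p`-subgroup into the normalizer of its Thompson subgroup is a
stable embedding when `G` is action-`p`-stable with `C_G(O_p(G)) ≤ O_p(G)`. -/
theorem stable_inclusion [Finite G] {p : ℕ} [Fact p.Prime] (hst : Cfsg.IsActionPStable p G)
    (hc : Subgroup.centralizer (Cfsg.pCore p G : Set G) ≤ Cfsg.pCore p G) (S : Sylow p G)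
    (hSN : (S : Subgroup G) ≤
      Subgroup.normalizer (Cfsg.thompsonSubgroupOf p (S : Subgroup G) : Set G)) :
    Cfsg.IsStableEmbedding p (Subgroup.inclusion hSN) := by
  refine ⟨Subgroup.inclusion_injective hSN, inferInstance, ⟨S.subtype hSN, ?_⟩, ?_, ?_, ?_⟩
  · rw [Sylow.coe_subtype]
    ext x
    constructor
    · intro hx
      exact ⟨⟨x, hx⟩, Subtype.ext rfl⟩
    · rintro ⟨s, rfl⟩
      exact s.2
  · intro x hx
    have hQN : (Cfsg.pCore p G).subgroupOf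
        (Subgroup.normalizer (Cfsg.thompsonSubgroupOf p (S : Subgroup G) : Set G)) ≤
        Cfsg.pCore p ↥(Subgroup.normalizer (Cfsg.thompsonSubgroupOf p (S : Subgroup G) : Set G)) := by
      haveI := Helper5.pCore_normal p G
      exact Helper5.le_pCore _ inferInstance (Helper3.pCore_isPGroup p G).comap_subtype
    apply hQN
    rw [Subgroup.mem_subgroupOf]
    apply hc
    rw [Subgroup.mem_centralizer_iff]
    intro q hq
    have hqN : q ∈ Subgroup.normalizer (Cfsg.thompsonSubgroupOf p (S : Subgroup G) : Set G) :=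
      hSN (Helper5.pCore_le_sylow S hq)
    have h1 := Subgroup.mem_centralizer_iff.1 hx ⟨q, hqN⟩ (hQN (by
      rw [Subgroup.mem_subgroupOf]; exact hq))
    exact congrArg Subtype.val h1
  · refine ⟨?_⟩
    rintro _ ⟨j, hj, rfl⟩ n
    have h1 : ((j : ↥(S : Subgroup G)) : G) ∈ Cfsg.thompsonSubgroupOf p (S : Subgroup G) :=
      ⟨j, hj, rfl⟩
    have h2 := (Subgroup.mem_normalizer_iff.1 n.2 _).1 h1
    obtain ⟨j', hj', hj'e⟩ := h2
    exact ⟨j', hj', Subtype.ext hj'e⟩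
  · intro V hV hle
    apply hst.2.2 S V
    have h1 := Subgroup.map_mono (f := (Subgroup.normalizer
      (Cfsg.thompsonSubgroupOf p (S : Subgroup G) : Set G)).subtype) hle
    rw [Subgroup.map_map, Subgroup.subtype_comp_inclusion] at h1
    exact h1


set_option maxHeartbeats 1600000 in
/-- **the analogue of the ZJ-theorem for `W(S)`**: in an action-`p`-stable group whose largest
normal `p`-subgroup contains its centralizer, `W(S)` is normal. -/
theorem snc_normal [Finite G] {p : ℕ} [Fact p.Prime] (hst : Cfsg.IsActionPStable p G)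
    (hc : Subgroup.centralizer (Cfsg.pCore p G : Set G) ≤ Cfsg.pCore p G) (S : Sylow p G) :
    ((Cfsg.stableNormalClosure p ↥(S : Subgroup G)).map (S : Subgroup G).subtype).Normal := by
  have hp : p.Prime := Fact.out
  obtain ⟨W, hWdef⟩ : ∃ W : Subgroup G,
      W = (Cfsg.stableNormalClosure p ↥(S : Subgroup G)).map (S : Subgroup G).subtype := ⟨_, rfl⟩
  rw [← hWdef]
  haveI hQn : (Cfsg.pCore p G).Normal := Helper5.pCore_normal p G
  have hQp : IsPGroup p (Cfsg.pCore p G) := Helper3.pCore_isPGroup p G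
  have hQS : Cfsg.pCore p G ≤ (S : Subgroup G) := Helper5.pCore_le_sylow S
  have hWS : W ≤ (S : Subgroup G) := by rw [hWdef]; exact Subgroup.map_subtype_le _
  -- `W` is normalized by `S`
  have hWSn : ∀ s ∈ (S : Subgroup G), ∀ w ∈ W, s * w * s⁻¹ ∈ W := by
    intro s hs w hw
    rw [hWdef] at hw ⊢
    obtain ⟨w₀, hw₀, rfl⟩ := hw
    haveI : (Cfsg.stableNormalClosure p ↥(S : Subgroup G)).Characteristic := snc_char p _
    have hn : (Cfsg.stableNormalClosure p ↥(S : Subgroup G)).Normal := inferInstance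
    exact ⟨⟨s, hs⟩ * w₀ * ⟨s, hs⟩⁻¹, hn.conj_mem w₀ hw₀ ⟨s, hs⟩, rfl⟩
  -- `W` is elementary abelian
  have hWZ : W ≤ ZJ.ZZ p (S : Subgroup G) := by
    rw [hWdef, ← ZJ.omegaCenterThompson_map_eq]
    exact Subgroup.map_mono (snc_le_oct p _)
  have hWc : ∀ a ∈ W, ∀ b ∈ W, a * b = b * a :=
    fun a ha b hb => ZJ.ZZ_comm p _ a (hWZ ha) b (hWZ hb)
  have hWp : ∀ a ∈ W, a ^ p = 1 := by
    intro a ha
    rw [hWdef] at ha
    obtain ⟨a₀, ha₀, rfl⟩ := ha
    have h1 : Cfsg.IsElementaryAbelian p (Cfsg.omegaCenterThompson p ↥(S : Subgroup G)) := by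
      unfold Cfsg.omegaCenterThompson
      apply elemAb_omegaOne_of_comm
      intro a ha b hb
      exact Subgroup.mem_centralizer_iff.1 hb.2 a ha.1
    have h2 := h1.2 a₀ (snc_le_oct p _ ha₀)
    have h3 := congrArg Subtype.val h2
    simpa using h3
  -- Step 1: the normalizer of `J(S)` normalizes `W`
  have hSN : (S : Subgroup G) ≤
      Subgroup.normalizer (Cfsg.thompsonSubgroupOf p (S : Subgroup G) : Set G) :=
    Subgroup.le_normalizer.trans (normalizer_le_normalizer_thompsonOf (S : Subgroup G)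
      (S : Subgroup G) (thompsonOf_le_self p _) le_rfl)
  have hstab : Cfsg.IsStableEmbedding p (Subgroup.inclusion hSN) := stable_inclusion hst hc S hSN
  have hWN : ∀ n ∈ Subgroup.normalizer (Cfsg.thompsonSubgroupOf p (S : Subgroup G) : Set G),
      ∀ w ∈ W, n * w * n⁻¹ ∈ W := by
    intro n hn w hw
    rw [hWdef] at hw ⊢
    obtain ⟨w₀, hw₀, rfl⟩ := hw
    have h1 := snc_map_normal (Subgroup.inclusion hSN) hstab
    obtain ⟨w₁, hw₁, hw₁e⟩ := h1.conj_mem (Subgroup.inclusion hSN w₀) ⟨w₀, hw₀, rfl⟩ ⟨n, hn⟩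
    refine ⟨w₁, hw₁, ?_⟩
    have h2 := congrArg Subtype.val hw₁e
    exact h2
  -- Step A: `W ≤ O_p(G)`
  have hWQ : W ≤ Cfsg.pCore p G := by
    intro w hw
    have hq : ⁅⁅Cfsg.pCore p G, Subgroup.zpowers w⁆, Subgroup.zpowers w⁆ = ⊥ := by
      apply quad_of_elem (Cfsg.pCore p G) w
      intro v hv
      have hu : w * v * w⁻¹ * v⁻¹ ∈ W := by
        have h1 := hWSn v (hQS hv) w⁻¹ (W.inv_mem hw)
        have h2 : w * v * w⁻¹ * v⁻¹ = w * (v * w⁻¹ * v⁻¹) := by group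
        rw [h2]; exact W.mul_mem hw h1
      have h3 := hWc w hw _ hu
      rw [h3]; group
    obtain ⟨D, hDn, hKD, ⟨k, hk⟩, hwD⟩ := hst.2.1 w (by rw [hq]; exact bot_le)
    have hFn : ((frattini ↥(Cfsg.pCore p G)).map (Cfsg.pCore p G).subtype).Normal := inferInstance
    have hsKp := (Helper4.fratStab_isPGroup (Cfsg.pCore p G) hQn hQp hc hFn).to_le
      (sectionKernel_le_fratStab (Cfsg.pCore p G)
        ((frattini ↥(Cfsg.pCore p G)).map (Cfsg.pCore p G).subtype) hQn)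
    obtain ⟨sK, hsK⟩ : ∃ sK : Subgroup G, sK = Cfsg.sectionKernel (Cfsg.pCore p G)
        ((frattini ↥(Cfsg.pCore p G)).map (Cfsg.pCore p G).subtype) := ⟨_, rfl⟩
    rw [← hsK] at hKD hk hsKp
    have h1 : Nat.card ↥(sK.subgroupOf D) * (sK.subgroupOf D).index = Nat.card ↥D :=
      Subgroup.card_mul_index _
    have h2 : (sK.subgroupOf D).index = p ^ k := hk
    have h3 : Nat.card ↥(sK.subgroupOf D) = Nat.card ↥sK :=
      Nat.card_congr (Subgroup.subgroupOfEquivOfLe hKD).toEquiv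
    obtain ⟨j, hj⟩ := IsPGroup.iff_card.1 hsKp
    have hDp : IsPGroup p D := IsPGroup.of_card (n := j + k) (by rw [← h1, h2, h3, hj, pow_add])
    exact Helper5.le_pCore D hDn hDp hwD
  -- Step B: the normal closure `V` of `W` is elementary abelian
  obtain ⟨V, hVdef⟩ : ∃ V : Subgroup G, V = Subgroup.normalClosure (W : Set G) := ⟨_, rfl⟩
  haveI hVn : V.Normal := by rw [hVdef]; infer_instance
  have hWV : W ≤ V := by rw [hVdef]; exact Subgroup.le_normalClosure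
  have hVQ : V ≤ Cfsg.pCore p G := by rw [hVdef]; exact Subgroup.normalClosure_le_normal hWQ
  have hVS : V ≤ (S : Subgroup G) := hVQ.trans hQS
  have hVcl : ∀ x, x ∈ V ↔ x ∈ Subgroup.closure (Group.conjugatesOfSet (W : Set G)) := by
    intro x; rw [hVdef]; rfl
  have KF : ∀ g : G, ∀ w₁ ∈ W, ∀ w₂ ∈ W, w₁ * (g * w₂ * g⁻¹) = (g * w₂ * g⁻¹) * w₁ := by
    intro g w₁ hw₁ w₂ hw₂
    have hxQ : g * w₂ * g⁻¹ ∈ Cfsg.pCore p G := hQn.conj_mem w₂ (hWQ hw₂) g
    have hquad : ∀ v ∈ W, (g * w₂ * g⁻¹) * ((g * w₂ * g⁻¹) * v * (g * w₂ * g⁻¹)⁻¹ * v⁻¹) *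
        (g * w₂ * g⁻¹)⁻¹ = (g * w₂ * g⁻¹) * v * (g * w₂ * g⁻¹)⁻¹ * v⁻¹ := by
      intro v hv
      have hvQ : g⁻¹ * v * g ∈ Cfsg.pCore p G := by
        have := hQn.conj_mem v (hWQ hv) g⁻¹
        rwa [inv_inv] at this
      have hw₃ : (g⁻¹ * v * g) * w₂⁻¹ * (g⁻¹ * v * g)⁻¹ ∈ W :=
        hWSn _ (hQS hvQ) _ (W.inv_mem hw₂)
      obtain ⟨w₃, hw₃def⟩ : ∃ w₃, w₃ = (g⁻¹ * v * g) * w₂⁻¹ * (g⁻¹ * v * g)⁻¹ := ⟨_, rfl⟩
      rw [← hw₃def] at hw₃
      have h1 : (g * w₂ * g⁻¹) * v * (g * w₂ * g⁻¹)⁻¹ * v⁻¹ = g * (w₂ * w₃) * g⁻¹ := by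
        rw [hw₃def]; group
      rw [h1]
      have h2 : w₂ * (w₂ * w₃) = (w₂ * w₃) * w₂ := hWc _ hw₂ _ (W.mul_mem hw₂ hw₃)
      calc g * w₂ * g⁻¹ * (g * (w₂ * w₃) * g⁻¹) * (g * w₂ * g⁻¹)⁻¹
          = g * (w₂ * (w₂ * w₃)) * w₂⁻¹ * g⁻¹ := by group
        _ = g * (w₂ * w₃) * g⁻¹ := by rw [h2]; group
    exact (snc_centralized (S : Subgroup G) _ (hQS hxQ) (by rw [← hWdef]; exact hquad) w₁
      (by rw [← hWdef]; exact hw₁)).symm
  have hgen : ∀ c ∈ Group.conjugatesOfSet (W : Set G), ∃ g : G, ∃ w ∈ W, c = g * w * g⁻¹ := by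
    intro c hc
    obtain ⟨w, hw, hconj⟩ := Group.mem_conjugatesOfSet_iff.1 hc
    obtain ⟨g, hg⟩ := isConj_iff.1 hconj
    exact ⟨g, w, hw, hg.symm⟩
  have hXc : ∀ c₁ ∈ Group.conjugatesOfSet (W : Set G), ∀ c₂ ∈ Group.conjugatesOfSet (W : Set G),
      c₁ * c₂ = c₂ * c₁ := by
    intro c₁ hc₁ c₂ hc₂
    obtain ⟨g₁, w₁, hw₁, rfl⟩ := hgen c₁ hc₁
    obtain ⟨g₂, w₂, hw₂, rfl⟩ := hgen c₂ hc₂
    have h1 := KF (g₁⁻¹ * g₂) w₁ hw₁ w₂ hw₂
    calc g₁ * w₁ * g₁⁻¹ * (g₂ * w₂ * g₂⁻¹)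
        = g₁ * (w₁ * (g₁⁻¹ * g₂ * w₂ * (g₁⁻¹ * g₂)⁻¹)) * g₁⁻¹ := by group
      _ = g₁ * ((g₁⁻¹ * g₂ * w₂ * (g₁⁻¹ * g₂)⁻¹) * w₁) * g₁⁻¹ := by rw [h1]
      _ = g₂ * w₂ * g₂⁻¹ * (g₁ * w₁ * g₁⁻¹) := by group
  have hVc : ∀ a ∈ V, ∀ b ∈ V, a * b = b * a := by
    have h1 : ∀ d ∈ V, ∀ c ∈ Group.conjugatesOfSet (W : Set G), c * d = d * c := by
      intro d hd
      have h0 : Subgroup.closure (Group.conjugatesOfSet (W : Set G)) ≤
          Subgroup.centralizer (Group.conjugatesOfSet (W : Set G)) := by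
        rw [Subgroup.closure_le]
        intro c hc
        exact Subgroup.mem_centralizer_iff.2 (fun d hd => hXc d hd c hc)
      exact fun c hc => Subgroup.mem_centralizer_iff.1 (h0 ((hVcl d).1 hd)) c hc
    have h2 : ∀ d ∈ V, Subgroup.closure (Group.conjugatesOfSet (W : Set G)) ≤
        Subgroup.centralizer ({d} : Set G) := by
      intro d hd
      rw [Subgroup.closure_le]
      intro c hc
      refine Subgroup.mem_centralizer_iff.2 (fun y hy => ?_)
      rw [Set.mem_singleton_iff.1 hy]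
      exact (h1 d hd c hc).symm
    intro a ha b hb
    exact (Subgroup.mem_centralizer_iff.1 (h2 b hb ((hVcl a).1 ha)) b rfl).symm
  have hVp : ∀ a ∈ V, a ^ p = 1 := by
    intro a ha
    have ha' : a ∈ Subgroup.closure (Group.conjugatesOfSet (W : Set G)) := (hVcl a).1 ha
    induction ha' using Subgroup.closure_induction with
    | mem c hc =>
      obtain ⟨g, w, hw, rfl⟩ := hgen c hc
      rw [conj_pow, hWp w hw]; group
    | one => exact one_pow p
    | mul x y hx hy ihx ihy =>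
      rw [(show Commute x y from hVc x ((hVcl x).2 hx) y ((hVcl y).2 hy)).mul_pow,
        ihx ((hVcl x).2 hx), ihy ((hVcl y).2 hy), one_mul]
    | inv x hx ih => rw [inv_pow, ih ((hVcl x).2 hx), inv_one]
  have hVe : Cfsg.IsElementaryAbelian p V := elemAb_mk hVc hVp
  -- Step C: `J(S)` centralizes `V`
  have hJC : Cfsg.thompsonSubgroupOf p (S : Subgroup G) ≤ Subgroup.centralizer (V : Set G) := by
    rw [ZJ.thompsonOf_eq_JJ]
    by_contra hnot
    obtain ⟨A, hA, hAV, hVA⟩ := exists_quad_AA (S : Subgroup G) V S.isPGroup' hVS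
      (by rw [Subgroup.normalizer_eq_top_iff.2 hVn]; exact le_top) hVe hnot
    apply hAV
    intro a ha
    have hAc := elemAb_comm' hA.2.1
    have hquad : ∀ v ∈ V, a * (a * v * a⁻¹ * v⁻¹) * a⁻¹ = a * v * a⁻¹ * v⁻¹ := by
      intro v hv
      have h1 : v * a⁻¹ * v⁻¹ ∈ A := (Subgroup.mem_normalizer_iff.1 (hVA hv) a⁻¹).1 (A.inv_mem ha)
      have h2 : a * v * a⁻¹ * v⁻¹ = a * (v * a⁻¹ * v⁻¹) := by group
      have h3 := hAc a ha _ (A.mul_mem ha h1)
      rw [h2, h3]; group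
    have hconj : ∀ g : G, ∀ w ∈ W, a * (g * w * g⁻¹) = (g * w * g⁻¹) * a := by
      intro g w hw
      obtain ⟨x, hxdef⟩ : ∃ x : G, x = g⁻¹ * a * g := ⟨_, rfl⟩
      have hxq : ∀ v ∈ V, x * (x * v * x⁻¹ * v⁻¹) * x⁻¹ = x * v * x⁻¹ * v⁻¹ := by
        rw [hxdef]; exact quad_elem_conj V a g hquad
      have hq2 := quad_of_elem V x hxq
      have hmem := hst.1 V hVe x hq2
      obtain ⟨s, hs, hc'⟩ := exists_sylow_mul S _ x hmem
      have hact := act_eq V x s hc'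
      have hsq := quad_elem_of_act_eq V x s hact hxq
      have hsw := snc_centralized (S : Subgroup G) s hs
        (by rw [← hWdef]; exact fun v hv => hsq v (hWV hv)) w (by rw [← hWdef]; exact hw)
      have h1 : x * w * x⁻¹ = w := by rw [hact w (hWV hw), hsw]; group
      rw [hxdef] at h1
      calc a * (g * w * g⁻¹) = g * ((g⁻¹ * a * g) * w * (g⁻¹ * a * g)⁻¹) * g⁻¹ * a := by group
        _ = g * w * g⁻¹ * a := by rw [h1]
    have h1 : Subgroup.closure (Group.conjugatesOfSet (W : Set G)) ≤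
        Subgroup.centralizer ({a} : Set G) := by
      rw [Subgroup.closure_le]
      intro c hc
      obtain ⟨g, w, hw, rfl⟩ := hgen c hc
      exact Subgroup.mem_centralizer_iff.2 (fun y hy => by
        rw [Set.mem_singleton_iff.1 hy]; exact hconj g w hw)
    rw [Subgroup.mem_centralizer_iff]
    intro v hv
    exact (Subgroup.mem_centralizer_iff.1 (h1 ((hVcl v).1 hv)) a rfl).symm
  -- Step D: Frattini argument
  refine ⟨fun w hw g => ?_⟩
  have hfr := Helper5.normalizer_inf_sup_eq_top S (Subgroup.centralizer (V : Set G))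
  have hNle : Subgroup.normalizer ((((S : Subgroup G) ⊓ Subgroup.centralizer (V : Set G) :
      Subgroup G)) : Set G) ≤
      Subgroup.normalizer (Cfsg.thompsonSubgroupOf p (S : Subgroup G) : Set G) :=
    normalizer_le_normalizer_thompsonOf (S : Subgroup G) _
      (le_inf (thompsonOf_le_self p _) hJC) inf_le_left
  have hg : g ∈ Subgroup.centralizer (V : Set G) ⊔ Subgroup.normalizer
      (((S : Subgroup G) ⊓ Subgroup.centralizer (V : Set G) : Subgroup G) : Set G) := by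
    rw [sup_comm, hfr]; exact Subgroup.mem_top g
  have hCn : (Subgroup.centralizer (V : Set G)).Normal := inferInstance
  obtain ⟨c, hc', n, hn, rfl⟩ := Helper3.mem_sup_of_le_normalizer_right
    (Subgroup.centralizer (V : Set G)) (Subgroup.normalizer
      (((S : Subgroup G) ⊓ Subgroup.centralizer (V : Set G) : Subgroup G) : Set G))
    (by rw [Subgroup.normalizer_eq_top_iff.2 hCn]; exact le_top) hg
  have h1 : n * w * n⁻¹ ∈ W := hWN n (hNle hn) w hw
  have h2 : (n * w * n⁻¹) * c = c * (n * w * n⁻¹) :=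
    Subgroup.mem_centralizer_iff.1 hc' _ (hWV h1)
  have h3 : c * n * w * (c * n)⁻¹ = c * (n * w * n⁻¹) * c⁻¹ := by group
  rw [h3, ← h2]
  have h4 : n * w * n⁻¹ * c * c⁻¹ = n * w * n⁻¹ := by group
  rw [h4]; exact h1

end Cfsg.Agent.Helper3.SNC
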