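import Mathlib
import Cfsg.Prelude
import Cfsg.Agent.Helper3.SNC3

set_option autoImplicit false

/-! # Thompson's normal `p`-complement theorem for the stable normal closure `W(S)` -/

namespace Cfsg.Agent.Helper3.SNC

open Cfsg.Agent.Helper3.PN Cfsg.Agent.Helper3.FN

open scoped commutatorElement

universe u

/-- groups with a series as in `Ser` act `p`-stably on their normal `p`-subgroups. -/
theorem pstableOn_of_ser {Z : Type u} [Group Z] [Finite Z] {p : ℕ} [Fact p.Prime] (hp2 : p ≠ 2)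
    (hZ : Ser p Z) (V : Subgroup Z) [hVn : V.Normal] (hVp : IsPGroup p V) :
    Cfsg.IsPStableOn p V := by
  intro a hq
  obtain ⟨D, hDn, haD, hD⟩ := stab_normal hp2 hZ V hVp a hq
  have hsurj := QuotientGroup.mk'_surjective (Subgroup.centralizer (V : Set Z))
  have h1 : D.map (QuotientGroup.mk' (Subgroup.centralizer (V : Set Z))) ≤
      Cfsg.pCore p (Z ⧸ Subgroup.centralizer (V : Set Z)) := by
    apply Helper5.le_pCore _ (Subgroup.Normal.map hDn _ hsurj)
    rintro ⟨_, ⟨d, hd, rfl⟩⟩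
    obtain ⟨k, hk⟩ := hD d hd
    refine ⟨k, ?_⟩
    apply Subtype.ext
    rw [Subgroup.coe_pow, Subgroup.coe_one]
    show (QuotientGroup.mk' _ d) ^ p ^ k = 1
    rw [← map_pow]
    exact (QuotientGroup.eq_one_iff _).2 hk
  exact h1 ⟨a, haD, rfl⟩

set_option maxHeartbeats 800000 in
/-- groups with a series as in `Ser` act `p`-stably on sections `K / N` with `K` a normal
`p`-subgroup. -/
theorem pstableOnSection_of_ser {Z : Type u} [Group Z] [Finite Z] {p : ℕ} [Fact p.Prime]
    (hp2 : p ≠ 2) (hZ : Ser p Z) (K N : Subgroup Z) [hKn : K.Normal] [hNn : N.Normal]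
    (hKp : IsPGroup p K) : Cfsg.IsPStableOnSection p K N := by
  intro a hq
  have hsurj := QuotientGroup.mk'_surjective N
  have hZ' : Ser p (Z ⧸ N) := ser_map (QuotientGroup.mk' N) hsurj hZ
  obtain ⟨Vb, hVb⟩ : ∃ Vb : Subgroup (Z ⧸ N), Vb = K.map (QuotientGroup.mk' N) := ⟨_, rfl⟩
  haveI hVbn : Vb.Normal := by rw [hVb]; exact Subgroup.Normal.map hKn _ hsurj
  have hVbp : IsPGroup p Vb := by rw [hVb]; exact hKp.map _
  have hqb : ⁅⁅Vb, Subgroup.zpowers (QuotientGroup.mk' N a)⁆,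
      Subgroup.zpowers (QuotientGroup.mk' N a)⁆ = ⊥ := by
    have h1 := Subgroup.map_mono (f := QuotientGroup.mk' N) hq
    rw [Subgroup.map_commutator, Subgroup.map_commutator, MonoidHom.map_zpowers, ← hVb] at h1
    have h2 : N.map (QuotientGroup.mk' N) = ⊥ := by
      rw [eq_bot_iff]
      rintro _ ⟨n, hn, rfl⟩
      exact (QuotientGroup.eq_one_iff n).2 hn
    rw [h2] at h1
    exact le_bot_iff.1 h1
  obtain ⟨D, hDn, haD, hD⟩ := stab_normal hp2 hZ' Vb hVbp (QuotientGroup.mk' N a) hqb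
  haveI := hDn
  obtain ⟨Cb, hCb⟩ : ∃ Cb : Subgroup (Z ⧸ N), Cb = Subgroup.centralizer (Vb : Set (Z ⧸ N)) :=
    ⟨_, rfl⟩
  haveI hCbn : Cb.Normal := by rw [hCb]; infer_instance
  have hsK : Cfsg.sectionKernel K N = Cb.comap (QuotientGroup.mk' N) := by
    rw [hCb, hVb]; rfl
  refine ⟨(D ⊔ Cb).comap (QuotientGroup.mk' N), inferInstance, ?_, ?_, ?_⟩
  · rw [hsK]
    exact Subgroup.comap_mono le_sup_right
  · rw [hsK, Subgroup.relIndex_comap,
      Subgroup.map_comap_eq_self_of_surjective hsurj]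
    have hpg : IsPGroup p (↥(D ⊔ Cb) ⧸ Cb.subgroupOf (D ⊔ Cb)) := by
      intro x
      obtain ⟨y, rfl⟩ := QuotientGroup.mk_surjective x
      obtain ⟨d, hd, c, hc, hdc⟩ := Helper3.mem_sup_of_le_normalizer_right D Cb
        (by rw [Subgroup.normalizer_eq_top_iff.2 hDn]; exact le_top) y.2
      obtain ⟨k, hk⟩ := hD d hd
      refine ⟨k, ?_⟩
      rw [← QuotientGroup.mk_pow]
      apply (QuotientGroup.eq_one_iff _).2
      rw [Subgroup.mem_subgroupOf, Subgroup.coe_pow, ← hdc]
      -- (d * c) ^ (p ^ k) ∈ Cb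
      have h1 : ((d * c : Z ⧸ N) : (Z ⧸ N) ⧸ Cb) = ((d : Z ⧸ N) : (Z ⧸ N) ⧸ Cb) := by
        rw [QuotientGroup.mk_mul, (QuotientGroup.eq_one_iff c).2 hc, mul_one]
      apply (QuotientGroup.eq_one_iff (N := Cb) _).1
      rw [QuotientGroup.mk_pow, h1, ← QuotientGroup.mk_pow]
      apply (QuotientGroup.eq_one_iff _).2
      rw [hCb]; exact hk
    obtain ⟨k, hk⟩ := IsPGroup.iff_card.1 hpg
    exact ⟨k, hk⟩
  · exact Subgroup.mem_comap.2 ((le_sup_left : D ≤ D ⊔ Cb) haD)

/-- groups with a series as in `Ser` are action-`p`-stable (`p` odd). -/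
theorem actionStable_of_ser {Z : Type u} [Group Z] [Finite Z] {p : ℕ} [Fact p.Prime]
    (hp2 : p ≠ 2) (hZ : Ser p Z) : Cfsg.IsActionPStable p Z := by
  refine ⟨?_, ?_, ?_⟩
  · intro V hVn hVe
    have hVp : IsPGroup p V := by
      intro x
      refine ⟨1, ?_⟩
      apply Subtype.ext
      rw [pow_one, Subgroup.coe_pow]
      exact hVe.2 x x.2
    exact pstableOn_of_ser hp2 hZ V hVp
  · haveI := Helper5.pCore_normal p Z
    exact pstableOnSection_of_ser hp2 hZ _ _ (Helper3.pCore_isPGroup p Z)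
  · intro S V hVn hle
    have hVp : IsPGroup p V := by
      intro x
      have h1 : ((x : ↥(Subgroup.normalizer (Cfsg.thompsonSubgroupOf p (S : Subgroup Z) : Set Z))) : Z) ∈
          (S : Subgroup Z) := by
        have h2 := hle ⟨(x : ↥(Subgroup.normalizer
          (Cfsg.thompsonSubgroupOf p (S : Subgroup Z) : Set Z))), x.2, rfl⟩
        exact Subgroup.map_subtype_le _ h2
      obtain ⟨k, hk⟩ := S.isPGroup' ⟨_, h1⟩
      refine ⟨k, ?_⟩
      apply Subtype.ext
      apply Subtype.ext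
      have h3 := congrArg Subtype.val hk
      simpa using h3
    exact pstableOn_of_ser hp2 (ser_subgroup _ hZ) V hVp

/-- the stable normal closure is an isomorphism-invariant `p`-group functor. -/
theorem snc_isCharPFunctor (p : ℕ) [Fact p.Prime] :
    Cfsg.IsCharPFunctor.{u} p (fun (Q : Type u) [Group Q] => Cfsg.stableNormalClosure p Q) := by
  refine ⟨?_, ?_⟩
  · intro Q _ _ hQ hnt
    haveI := hnt
    exact snc_ne_bot hQ
  · intro Q R _ _ _ _ φ
    exact snc_map_equiv φ

/-- **Thompson's normal `p`-complement theorem for `W(S)`**, `p` odd. -/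
theorem snc_npc {G : Type u} [Group G] [Finite G] {p : ℕ} [Fact p.Prime] (hp2 : p ≠ 2)
    (S : Sylow p G)
    (hN : Cfsg.HasNormalPComplement p ↥(Subgroup.normalizer
      (((Cfsg.stableNormalClosure p ↥(S : Subgroup G)).map (S : Subgroup G).subtype) : Set G))) :
    Cfsg.HasNormalPComplement p G := by
  refine functor_generic (snc_isCharPFunctor p)
    (𝒢 := fun (_ : Type u) [Group _] => True) (fun _ _ _ _ _ _ _ _ => trivial) ?_ G S
    ⟨hN, fun _ _ _ => trivial⟩
  intro G' _ _ P hN' _ hS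
  have hser := endStruct_ser P hS
  have hnorm := snc_normal (actionStable_of_ser hp2 hser) hS.cent P
  have h4 : Subgroup.normalizer (Cfsg.inducedFunctor (G := G')
      (fun (Q : Type u) [Group Q] => Cfsg.stableNormalClosure p Q) (P : Subgroup G') : Set G') = ⊤ :=
    Subgroup.normalizer_eq_top_iff.2 hnorm
  rw [h4] at hN'
  exact hasNPC_top_iff.1 hN'

end Cfsg.Agent.Helper3.SNC
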