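import Mathlib
import Cfsg.Agent.Helper3.FC1
import Cfsg.Agent.Helper5.CD
import Cfsg.Agent.Helper5.StrEmb

set_option autoImplicit false

namespace Cfsg.Agent.Helper3.SylCount

open scoped Pointwise

variable {G : Type*} [Group G]

theorem card_sylow_quot [Finite G] (p : ℕ) [Fact p.Prime] (P : Sylow p G) (K : Subgroup G) [K.Normal] :
    Nat.card (Sylow p (G ⧸ K)) =
      (Subgroup.normalizer (((P : Subgroup G) ⊔ K : Subgroup G) : Set G)).index := by
  have hπ : Function.Surjective (QuotientGroup.mk' K) := QuotientGroup.mk'_surjective K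
  have h1 := (P.mapSurjective hπ).card_eq_index_normalizer
  have h2 : Subgroup.normalizer ((P.mapSurjective hπ : Sylow p (G ⧸ K)) : Set (G ⧸ K)) =
      Subgroup.normalizer
        ((((P : Subgroup G).map (QuotientGroup.mk' K) : Subgroup (G ⧸ K))) : Set (G ⧸ K)) := rfl
  rw [h1, h2, ← Subgroup.index_comap_of_surjective _ hπ,
    Subgroup.comap_normalizer_eq_of_surjective _ hπ,
    Subgroup.comap_map_eq, QuotientGroup.ker_mk']

/-- powers of elements of `P K` eventually land in `K`. -/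
theorem pow_mem_of_mem_sup (p : ℕ) [Fact p.Prime] (P : Sylow p G) (K : Subgroup G) [K.Normal]
    (x : G) (hx : x ∈ (P : Subgroup G) ⊔ K) : ∃ k : ℕ, x ^ (p ^ k) ∈ K := by
  have h1 : (P : Subgroup G) ⊔ K ≤
      ((P : Subgroup G).map (QuotientGroup.mk' K)).comap (QuotientGroup.mk' K) := by
    rw [Subgroup.comap_map_eq, QuotientGroup.ker_mk']
  have h2 : QuotientGroup.mk' K x ∈ (P : Subgroup G).map (QuotientGroup.mk' K) := h1 hx
  have h3 : IsPGroup p ((P : Subgroup G).map (QuotientGroup.mk' K)) := P.isPGroup'.map _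
  obtain ⟨k, hk⟩ := h3 ⟨_, h2⟩
  refine ⟨k, ?_⟩
  have h4 : (QuotientGroup.mk' K x) ^ (p ^ k) = 1 := by
    have := congrArg Subtype.val hk
    simpa using this
  rw [← map_pow] at h4
  exact (QuotientGroup.eq_one_iff _).1 h4

theorem inf_sup_eq [Finite G] (p : ℕ) [Fact p.Prime] (P : Sylow p G) (M N : Subgroup G) [M.Normal]
    [N.Normal] (hMN : M ⊓ N = ⊥) :
    ((P : Subgroup G) ⊔ M) ⊓ ((P : Subgroup G) ⊔ N) = (P : Subgroup G) := by
  have hp : IsPGroup p ↥(((P : Subgroup G) ⊔ M) ⊓ ((P : Subgroup G) ⊔ N) : Subgroup G) := by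
    rintro ⟨x, hx⟩
    obtain ⟨hx1, hx2⟩ := Subgroup.mem_inf.1 hx
    obtain ⟨k, hk⟩ := pow_mem_of_mem_sup p P M x hx1
    obtain ⟨l, hl⟩ := pow_mem_of_mem_sup p P N x hx2
    refine ⟨k + l, ?_⟩
    apply Subtype.ext
    have h1 : x ^ (p ^ (k + l)) ∈ M := by
      rw [pow_add, pow_mul]; exact M.pow_mem hk _
    have h2 : x ^ (p ^ (k + l)) ∈ N := by
      rw [pow_add, mul_comm, pow_mul]; exact N.pow_mem hl _
    have h3 : x ^ (p ^ (k + l)) ∈ M ⊓ N := Subgroup.mem_inf.2 ⟨h1, h2⟩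
    rw [hMN, Subgroup.mem_bot] at h3
    simpa using h3
  exact P.is_maximal' hp (le_inf le_sup_left le_sup_left)

theorem sylow_count [Finite G] (p : ℕ) [Fact p.Prime] (M N : Subgroup G) [M.Normal] [N.Normal]
    (hMN : M ⊓ N = ⊥) :
    Nat.card (Sylow p G) * Nat.card (Sylow p (G ⧸ (M ⊔ N))) =
      Nat.card (Sylow p (G ⧸ M)) * Nat.card (Sylow p (G ⧸ N)) := by
  obtain ⟨P⟩ : Nonempty (Sylow p G) := inferInstance
  rw [card_sylow_quot p P M, card_sylow_quot p P N, card_sylow_quot p P (M ⊔ N),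
    P.card_eq_index_normalizer]
  obtain ⟨P0, hP0⟩ : ∃ P0 : Subgroup G, P0 = (P : Subgroup G) := ⟨_, rfl⟩
  rw [← hP0]
  obtain ⟨A, hA⟩ : ∃ A, A = Subgroup.normalizer ((P0 ⊔ M : Subgroup G) : Set G) := ⟨_, rfl⟩
  obtain ⟨B, hB⟩ : ∃ B, B = Subgroup.normalizer ((P0 ⊔ N : Subgroup G) : Set G) := ⟨_, rfl⟩
  obtain ⟨C, hC⟩ : ∃ C, C = Subgroup.normalizer ((P0 : Subgroup G) : Set G) := ⟨_, rfl⟩
  obtain ⟨D, hD⟩ : ∃ D, D = Subgroup.normalizer ((P0 ⊔ (M ⊔ N) : Subgroup G) : Set G) :=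
    ⟨_, rfl⟩
  have hPn : Subgroup.normalizer ((P : Sylow p G) : Set G) =
      Subgroup.normalizer ((P0 : Subgroup G) : Set G) := by rw [hP0]; rfl
  rw [hPn, ← hA, ← hB, ← hC, ← hD]
  have hinf : (P0 ⊔ M) ⊓ (P0 ⊔ N) = P0 := by rw [hP0]; exact inf_sup_eq p P M N hMN
  have hCA : C ≤ A := by
    intro g hg
    rw [hC] at hg
    rw [hA]
    apply FC.mem_normalizer_of_cj_le
    rw [FC.cj_sup, FC.cj_norm hg, FC.cj_normal]
  have hCB : C ≤ B := by
    intro g hg
    rw [hC] at hg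
    rw [hB]
    apply FC.mem_normalizer_of_cj_le
    rw [FC.cj_sup, FC.cj_norm hg, FC.cj_normal]
  have hAD : A ≤ D := by
    intro g hg
    rw [hA] at hg
    rw [hD]
    apply FC.mem_normalizer_of_cj_le
    rw [← sup_assoc, FC.cj_sup, FC.cj_norm hg, FC.cj_normal]
  have hBD : B ≤ D := by
    intro g hg
    rw [hB] at hg
    rw [hD]
    apply FC.mem_normalizer_of_cj_le
    rw [sup_comm M N, ← sup_assoc, FC.cj_sup, FC.cj_norm hg, FC.cj_normal]
  have hAB : A ⊓ B = C := by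
    apply le_antisymm
    · intro g hg
      obtain ⟨h1, h2⟩ := Subgroup.mem_inf.1 hg
      rw [hA] at h1
      rw [hB] at h2
      rw [hC]
      apply FC.mem_normalizer_of_cj_le
      have h3 : FC.cj g ((P0 ⊔ M) ⊓ (P0 ⊔ N)) = (P0 ⊔ M) ⊓ (P0 ⊔ N) := by
        rw [FC.cj_inf, FC.cj_norm h1, FC.cj_norm h2]
      rw [hinf] at h3
      rw [h3]
    · exact le_inf hCA hCB
  have hset : ((A : Set G) * (B : Set G) : Set G) = (D : Set G) := by
    ext g
    constructor
    · intro hg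
      obtain ⟨a, ha, b, hb, rfl⟩ := Set.mem_mul.1 hg
      exact D.mul_mem (hAD ha) (hBD hb)
    · intro hg
      have hgD : g ∈ Subgroup.normalizer ((P0 ⊔ (M ⊔ N) : Subgroup G) : Set G) := by
        rw [← hD]; exact hg
      have h1 : FC.cj g P0 ≤ P0 ⊔ (M ⊔ N) := by
        have := FC.cj_mono g (le_sup_left : P0 ≤ P0 ⊔ (M ⊔ N))
        rw [FC.cj_norm hgD] at this
        exact this
      have hPL : (P : Subgroup G) ≤ P0 ⊔ (M ⊔ N) := by rw [← hP0]; exact le_sup_left
      obtain ⟨l, hl, hle⟩ := Helper5.exists_conj_le_sylow_in_subgroup P (P0 ⊔ (M ⊔ N)) hPL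
        (FC.cj g P0) h1 (by rw [hP0]; exact FC.isPGroup_cj P.isPGroup' g)
      have hle' : FC.cj g P0 ≤ FC.cj l P0 := by rw [hP0] at hle ⊢; exact hle
      have hc : l⁻¹ * g ∈ C := by
        rw [hC]
        apply FC.mem_normalizer_of_cj_le
        rw [FC.cj_mul, FC.cj_le_iff, inv_inv]
        exact hle'
      have hl2 : l ∈ (P0 ⊔ M) ⊔ N := by rw [sup_assoc]; exact hl
      have hl3 : l ∈ (((P0 ⊔ M : Subgroup G) : Set G) * (N : Set G) : Set G) := by
        rw [← Subgroup.mul_normal]; exact hl2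
      obtain ⟨u, hu, n, hn, hun⟩ := Set.mem_mul.1 hl3
      have huA : u ∈ A := by rw [hA]; exact Subgroup.le_normalizer hu
      have hnB : n ∈ B := by
        rw [hB]; exact Subgroup.le_normalizer ((le_sup_right : N ≤ P0 ⊔ N) hn)
      refine Set.mem_mul.2 ⟨u, huA, n * (l⁻¹ * g), B.mul_mem hnB (hCB hc), ?_⟩
      rw [← mul_assoc, hun, mul_inv_cancel_left]
  have hprod := Helper5.card_mul_card_eq_card_setMul_mul_card_inf A B
  rw [hset, hAB] at hprod
  have hprod' : Nat.card A * Nat.card B = Nat.card D * Nat.card C := hprod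
  have hposC : 0 < Nat.card C := Nat.card_pos
  have hposD : 0 < Nat.card D := Nat.card_pos
  have e1 : (C.index * D.index) * (Nat.card D * Nat.card C) = Nat.card G * Nat.card G := by
    calc (C.index * D.index) * (Nat.card D * Nat.card C)
        = (C.index * Nat.card C) * (D.index * Nat.card D) := by ring
      _ = Nat.card G * Nat.card G := by rw [Subgroup.index_mul_card, Subgroup.index_mul_card]
  have e2 : (A.index * B.index) * (Nat.card D * Nat.card C) = Nat.card G * Nat.card G := by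
    rw [← hprod']
    calc (A.index * B.index) * (Nat.card A * Nat.card B)
        = (A.index * Nat.card A) * (B.index * Nat.card B) := by ring
      _ = Nat.card G * Nat.card G := by rw [Subgroup.index_mul_card, Subgroup.index_mul_card]
  exact Nat.eq_of_mul_eq_mul_right (Nat.mul_pos hposD hposC) (e1.trans e2.symm)

end Cfsg.Agent.Helper3.SylCount
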